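import Cfsg.Agent.Mrg.Omega.ML.RowFi22
import Cfsg.Agent.Omega.Lie.HeisCover
import Cfsg.Agent.Mrg.Omega.Lie.ExoComp
import Cfsg.Agent.OddHalf.D8.SheetMap
import Cfsg.Agent.KFacts.Co1.CaseM
import Cfsg.Agent.Mrg.Omega.ML.ExEx.Core
import Cfsg.Agent.OddHalf.D8.JTwo.Sheet
import Cfsg.Agent.KFacts.CoTwo.QuotInst
import Cfsg.Agent.LieClassical.SympCount
import Cfsg.Agent.Mrg.Omega.ML.Ex.Def
import Cfsg.Agent.Mrg.Omega.TwoF.RowPSp
import Mathlib
import Cfsg.Agent.Mrg.Omega.TwoF.Tits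
import Cfsg.Agent.Omega.TwoF.TitsAut
import Cfsg.Agent.Mrg.Omega.ML.Ex.RkX
import Cfsg.Agent.Mrg.Omega.ML.RowTits
import Cfsg.Agent.Omega.TwoF.RowTool
import Cfsg.Agent.TitsK.CentOdd
import Cfsg.Agent.TitsK.RankRK
import Cfsg.Agent.Mrg.Omega.ML.Ex.Known
import Cfsg.Agent.Mrg.Omega.ML.RowLTwoOdd
import Cfsg.Agent.Omega.KFactsZS
import Cfsg.Agent.S0253
import Cfsg.Agent.S0255
import Cfsg.Agent.Mrg.Omega.ML.OddPsl
import Cfsg.Agent.Mrg.Omega.ML.Ex.TIE
import Cfsg.Agent.Mrg.Omega.ML.Ex.DefN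
import Cfsg.Agent.Mrg.Omega.Tools.OddFix
import Cfsg.Agent.Mrg.Omega.ML.RowsList
import Cfsg.Prelude.Def_Classification2
import Cfsg.Agent.Mrg.Omega.ML.Ex.RowASix
import Cfsg.Agent.Mrg.Omega.ML.Ex.Red3

-- merged: Cfsg.Agent.Mrg.Omega.ML.Ex.SheetCo1
section

section


/-!
# The sheet of type (E) of `Co1` with `TrivC` (helper592)

* `lb_of_card_gt` : `|GL_k(2)| < |L|` for `k < m` ⟹ `LB L m`;
* `exists_sheet` : helper899's sheet of type (E) of `Co1` on a group `S ≅ Co1`: `|R| = 2⁹`, `C(z)/R` is simple of order at least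
  `174182400`, so `TrivC C(z) P 4`.
-/

set_option autoImplicit false

namespace Cfsg.Agent.Omega.ML.Ex.SheetCo1

open Subgroup Cfsg Cfsg.Agent.KFacts
open Cfsg.Agent.Omega.Lie.Heis (LB Irr)
open Cfsg.Agent.Omega.Lie.PairOrd
open Cfsg.Agent.Omega.ML.ExRec
open Cfsg.Agent.OddHalf.D8.Sheet Cfsg.Agent.OddHalf.D8.JTwo.Sheet
open Cfsg.Agent.CoOneType.SignFacts (sup wt)
open Cfsg.Agent.CoOneType.ClosingFacts (mk)
open Cfsg.Agent.SporadicA.Co0Mono
open Cfsg.Agent.KFacts.Co1.InCo1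

universe u v w

/-- A lower bound by the order of the group. -/
theorem lb_of_card_gt {K : Type u} [Group K] [Finite K] [IsSimpleGroup K] {m : ℕ}
    (h : ∀ k < m, glc k < Nat.card K) : LB.{u, v, w} K m := by
  apply LB.of_irr
  intro L _ _ π hπ _ _ _ V _ _ h2 φ hφ hirr
  -- `V` is elementary abelian
  have hV : Nontrivial V := by
    by_contra hn
    rw [not_nontrivial_iff_subsingleton] at hn
    obtain ⟨x, hx⟩ := exists_ne (1 : K)
    obtain ⟨g, rfl⟩ := hπ x
    apply hx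
    have h3 : g = 1 := hφ (by
      rw [map_one]
      ext v
      exact Subsingleton.elim _ _)
    rw [h3, map_one]
  let U : Subgroup V :=
    { carrier := {x | x ^ 2 = 1}
      one_mem' := one_pow 2
      mul_mem' := fun {a b} ha hb => by
        show (a * b) ^ 2 = 1
        rw [mul_pow, show a ^ 2 = 1 from ha, show b ^ 2 = 1 from hb, one_mul]
      inv_mem' := fun {a} ha => by
        show a⁻¹ ^ 2 = 1
        rw [inv_pow, show a ^ 2 = 1 from ha, inv_one] }
  have hU : U = ⊤ := by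
    refine (hirr U fun g x hx => ?_).resolve_left fun h3 => ?_
    · show (φ g x) ^ 2 = 1
      rw [← map_pow, show x ^ 2 = 1 from hx, map_one]
    · have : Fact (Nat.Prime 2) := ⟨Nat.prime_two⟩
      obtain ⟨n, hn⟩ := IsPGroup.iff_card.1 h2
      have h4 : 2 ∣ Nat.card V := by
        rw [hn]
        refine dvd_pow_self 2 ?_
        rintro rfl
        rw [pow_zero] at hn
        have := Finite.one_lt_card (α := V)
        omega
      obtain ⟨x, hx⟩ := exists_prime_orderOf_dvd_card' 2 h4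
      have h5 : x ∈ U := by
        show x ^ 2 = 1
        rw [← hx]
        exact pow_orderOf_eq_one x
      rw [h3, mem_bot] at h5
      rw [h5, orderOf_one] at hx
      omega
  have hel : ∀ x : V, x ^ 2 = 1 := fun x => by
    have h3 : x ∈ U := by rw [hU]; exact mem_top x
    exact h3
  by_contra hlt
  push Not at hlt
  obtain ⟨k, hk, hk'⟩ := exists_card hel hlt.le
  have hkm : k < m := by
    rw [hk'] at hlt
    exact (Nat.pow_lt_pow_iff_right (by norm_num)).1 hlt
  have h5 := h k hkm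
  rw [← card_mulAut hel hk'] at h5
  have h6 := (Subgroup.card_dvd_of_surjective π hπ).trans
    ((Nat.card_congr (MonoidHom.ofInjective hφ).toEquiv).dvd.trans (Subgroup.card_subgroup_dvd_card φ.range))
  have h7 : 0 < Nat.card (MulAut V) := Nat.card_pos
  exact absurd (Nat.le_of_dvd h7 h6) (not_le.2 h5)

/-- the quotient of the centraliser of a 2-central involution -/
theorem exists_quot {o : golayCode} (ho : wt o = 8) : ∃ (L : Type) (_ : Group L) (_ : Finite L) (_ : IsSimpleGroup L)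
    (π : centralizer ({mk (signCo0 o)} : Set Spor.Co1) →* L), Function.Surjective π ∧
      (∀ c, π c = 1 ↔ (c : Spor.Co1) ∈ RCo1 o) ∧ LB.{0, u, v} L 5 := by
  have hfin : Finite Spor.Co1 := by
    have : Finite Co0 := Cfsg.Agent.CoOneType.FrameFix.finite_co0
    exact Quotient.finite _
  obtain ⟨C, hC⟩ : ∃ C, C = centralizer ({mk (signCo0 o)} : Set Spor.Co1) := ⟨_, rfl⟩
  have hRC : RCo1 o ≤ C := by
    intro r hr
    rw [hC]
    exact mem_centralizer_singleton_iff.2 ((large ho).comm_z r hr)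
  have hCm : ∀ c ∈ C, c ∈ centralizer ({mk (signCo0 o)} : Set Spor.Co1) := fun c hc => hC ▸ hc
  have hRn : ((RCo1 o).subgroupOf C).Normal := ⟨fun r hr c =>
    (large ho).conj_mem c (mem_centralizer_singleton_iff.1 (hCm c c.2)) r hr⟩
  have hcard : 89181388800 ≤ Nat.card C := by
    rw [hC]
    exact Cfsg.Agent.CoOneType.CentOctad.card_centralizer ho
  have hR : Nat.card ((RCo1 o).subgroupOf C) = 512 := by
    rw [Nat.card_congr (subgroupOfEquivOfLe hRC).toEquiv, Co1.YBig.card_R ho]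
  have hL : 174182400 ≤ Nat.card (C ⧸ (RCo1 o).subgroupOf C) := by
    have h1 := card_mul_index ((RCo1 o).subgroupOf C)
    rw [hR] at h1
    have h2 : 174182400 ≤ ((RCo1 o).subgroupOf C).index := by omega
    exact h2
  have hnt : Nontrivial (C ⧸ (RCo1 o).subgroupOf C) := by
    apply Finite.one_lt_card_iff_nontrivial.1
    omega
  have hs : IsSimpleGroup (C ⧸ (RCo1 o).subgroupOf C) := by
    refine ⟨fun N hN => ?_⟩
    obtain ⟨Mx, hMx⟩ : ∃ Mx : Subgroup C, Mx = N.comap (QuotientGroup.mk' ((RCo1 o).subgroupOf C)) := ⟨_, rfl⟩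
    have hMn : Mx.Normal := by rw [hMx]; exact hN.comap _
    have h1 := Co1.CaseM.normal ho (Mx.map C.subtype) (by rw [← hC]; exact map_subtype_le _) ?_ ?_
    · rcases h1 with h1 | h1
      · left
        rw [eq_bot_iff]
        intro x hx
        obtain ⟨c, rfl⟩ := QuotientGroup.mk'_surjective _ x
        have h2 : (c : Spor.Co1) ∈ Mx.map C.subtype := ⟨c, by rw [hMx]; exact hx, rfl⟩
        rw [h1] at h2
        rw [mem_bot]
        exact (QuotientGroup.eq_one_iff c).2 h2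
      · right
        rw [eq_top_iff]
        intro x _
        obtain ⟨c, rfl⟩ := QuotientGroup.mk'_surjective _ x
        have h2 : (c : Spor.Co1) ∈ Mx.map C.subtype := by
          rw [h1, ← hC]
          exact c.2
        obtain ⟨d, hd, hdc⟩ := h2
        rw [hMx] at hd
        have h3 : d = c := Subtype.ext hdc
        rw [← h3]
        exact hd
    · intro r hr
      refine ⟨⟨r, hRC hr⟩, ?_, rfl⟩
      rw [hMx]
      have h2 : (⟨r, hRC hr⟩ : C) ∈ (RCo1 o).subgroupOf C := mem_subgroupOf.2 hr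
      have h3 : QuotientGroup.mk' ((RCo1 o).subgroupOf C) ⟨r, hRC hr⟩ = 1 := (QuotientGroup.eq_one_iff _).2 h2
      exact mem_comap.2 (h3 ▸ one_mem N)
    · rintro p hp _ ⟨n, hn, rfl⟩
      rw [← hC] at hp
      exact ⟨⟨p, hp⟩ * n * ⟨p, hp⟩⁻¹, hMn.conj_mem n hn _, rfl⟩
  subst hC
  refine ⟨_, _, inferInstance, hs, QuotientGroup.mk' _, QuotientGroup.mk'_surjective _, fun c => ?_, ?_⟩
  · exact QuotientGroup.eq_one_iff c
  · refine lb_of_card_gt fun k hk => lt_of_lt_of_le ?_ hL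
    have h1 : ∀ k < 5, glc k < 174182400 := by decide +kernel
    exact h1 k hk

/-- **the sheet** -/
theorem exists_sheet (S : Type u) [Group S] [Finite S] (h : Spor.IsoCo1 S) :
    ∃ (z : S) (P R : Subgroup S) (n : ℕ), SheetE z P R ∧ Nat.card R = 2 ^ (2 * n + 1) ∧
      TrivC.{u, v, u} (centralizer ({z} : Set S)) P n ∧ 2 ≤ n := by
  obtain ⟨e⟩ := h
  obtain ⟨o, ho⟩ := Cfsg.Agent.CoOneType.ClosingCo1.exists_octad
  obtain ⟨L, _, _, _, π, hs, hk, hlb⟩ := exists_quot.{u, v} ho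
  have hE := Cfsg.Agent.OddHalf.D8.SheetMap.sheetE_map e.symm (Co1.CaseM.sheetE ho)
  have hX := of_sheetE hE
  obtain ⟨f, hf⟩ : ∃ f : centralizer ({mk (signCo0 o)} : Set Spor.Co1) ≃*
      (centralizer ({mk (signCo0 o)} : Set Spor.Co1)).map e.symm.toMonoidHom, ∀ c, (f c : S) = e.symm c :=
    ⟨(centralizer ({mk (signCo0 o)} : Set Spor.Co1)).equivMapOfInjective _ e.symm.injective, fun c => rfl⟩
  have hPC : (centralizer ({mk (signCo0 o)} : Set Spor.Co1)).map e.symm.toMonoidHom ≤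
      centralizer ({e.symm (mk (signCo0 o))} : Set S) := by
    rintro _ ⟨c, hc, rfl⟩
    rw [mem_centralizer_singleton_iff]
    have h1 := mem_centralizer_singleton_iff.1 hc
    show e.symm c * e.symm (mk (signCo0 o)) = e.symm (mk (signCo0 o)) * e.symm c
    rw [← map_mul, h1, map_mul]
  have hk' : ∀ c, (π.comp f.symm.toMonoidHom) c = 1 ↔ (c : S) ∈ (RCo1 o).map e.symm.toMonoidHom := by
    intro c
    obtain ⟨c, rfl⟩ := f.surjective c
    show π (f.symm (f c)) = 1 ↔ _
    rw [f.symm_apply_apply, hk, hf]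
    constructor
    · intro h1
      exact ⟨c, h1, rfl⟩
    · rintro ⟨q, hq, h1⟩
      rwa [← e.symm.injective h1]
  refine ⟨_, _, _, 4, hE, ?_, ?_, by norm_num⟩
  · have h1 : Nat.card ((RCo1 o).map e.symm.toMonoidHom) = Nat.card (RCo1 o) :=
      (Nat.card_congr ((RCo1 o).equivMapOfInjective _ e.symm.injective).toEquiv).symm
    refine h1.trans ?_
    rw [Co1.YBig.card_R ho]
    norm_num
  · refine ExTriv.trivC_of_lb hPC hX.R2 hX.Rn hX.perf (π.comp f.symm.toMonoidHom) (hs.comp f.symm.surjective)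
      (fun x hx => (hk' x).2 hx) ?_ ?_ hlb
    · intro x hx y
      have h1 := (hk' x).1 hx
      have h2 := hX.Rn _ y.2 _ (Subgroup.inv_mem _ h1)
      have h3 := Subgroup.mul_mem _ h1 h2
      have h4 : (x : S) * ((y : S) * (x : S)⁻¹ * (y : S)⁻¹) = x * y * (x : S)⁻¹ * (y : S)⁻¹ := by group
      rwa [h4] at h3
    · have h1 : (π.comp f.symm.toMonoidHom).ker = ((RCo1 o).map e.symm.toMonoidHom).subgroupOf
          ((centralizer ({mk (signCo0 o)} : Set Spor.Co1)).map e.symm.toMonoidHom) := by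
        ext c
        rw [MonoidHom.mem_ker, hk', mem_subgroupOf]
      rw [h1, relIndex_self]
      exact odd_one

end Cfsg.Agent.Omega.ML.Ex.SheetCo1

end

section


/-!
# K-list "exact + low": the row `Co1` by THEOREM EX (helper592)
-/

set_option autoImplicit false

namespace Cfsg.Agent.Omega.ML.Ex.RowCo1

open Subgroup Cfsg

universe u v

/-- **The row `Co1`.** -/
theorem deadX : DeadX.{u, v} @Spor.IsoCo1 := by
  refine ExEx.SheetRow.deadX_of_sheet fun S _ _ h => ?_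
  obtain ⟨z, P, R, n, h1, h2, h3, h4⟩ := SheetCo1.exists_sheet S h
  exact ⟨z, P, R, n, h1, h4, h2, h3⟩

end Cfsg.Agent.Omega.ML.Ex.RowCo1

end

section


/-!
# Exact K-list: the sheet on an isomorphic group, light imports (helper376, after helper552's `ExInst`)

* `lb_of_card` : `c ∣ |K|`, `c ∤ |GL_k(2)|` for `k < m` ⟹ `LB K m`;
* `exists_sheet` : the sheet `SheetE z P R` with `P = C(z)` and the homomorphism onto `L`, on a group isomorphic
  to `G`;
* `trivC` : the last field of the record (copy of `RowBM.trivC`, without the instances `M`, `B`, `Th`).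
-/

set_option autoImplicit false

namespace Cfsg.Agent.Omega.ML.Ex.SheetOf

open Subgroup Cfsg
open Cfsg.Agent.OddHalf.D8.Sheet Cfsg.Agent.OddHalf.D8.JTwo.Sheet
open Cfsg.Agent.Omega.Lie.Heis (LB Irr)
open Cfsg.Agent.Omega.Lie.PairOrd
open Cfsg.Agent.Omega.ML.ExCore Cfsg.Agent.Omega.ML.ExRec

universe u v w

/-- A lower bound by the order of the group. -/
theorem lb_of_card {K : Type u} [Group K] [Finite K] [IsSimpleGroup K] {m c : ℕ} (hc : c ∣ Nat.card K)
    (h : ∀ k < m, ¬ c ∣ glc k) : LB.{u, v, w} K m := by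
  apply LB.of_irr
  intro L _ _ π hπ _ _ _ V _ _ h2 φ hφ hirr
  -- `V` is elementary abelian
  have hV : Nontrivial V := by
    by_contra hn
    rw [not_nontrivial_iff_subsingleton] at hn
    obtain ⟨x, hx⟩ := exists_ne (1 : K)
    obtain ⟨g, rfl⟩ := hπ x
    apply hx
    have h3 : g = 1 := hφ (by
      rw [map_one]
      ext v
      exact Subsingleton.elim _ _)
    rw [h3, map_one]
  let U : Subgroup V :=
    { carrier := {x | x ^ 2 = 1}
      one_mem' := one_pow 2
      mul_mem' := fun {a b} ha hb => by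
        show (a * b) ^ 2 = 1
        rw [mul_pow, show a ^ 2 = 1 from ha, show b ^ 2 = 1 from hb, one_mul]
      inv_mem' := fun {a} ha => by
        show a⁻¹ ^ 2 = 1
        rw [inv_pow, show a ^ 2 = 1 from ha, inv_one] }
  have hU : U = ⊤ := by
    refine (hirr U fun g x hx => ?_).resolve_left fun h3 => ?_
    · show (φ g x) ^ 2 = 1
      rw [← map_pow, show x ^ 2 = 1 from hx, map_one]
    · have : Fact (Nat.Prime 2) := ⟨Nat.prime_two⟩
      obtain ⟨n, hn⟩ := IsPGroup.iff_card.1 h2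
      have h4 : 2 ∣ Nat.card V := by
        rw [hn]
        refine dvd_pow_self 2 ?_
        rintro rfl
        rw [pow_zero] at hn
        have := Finite.one_lt_card (α := V)
        omega
      obtain ⟨x, hx⟩ := exists_prime_orderOf_dvd_card' 2 h4
      have h5 : x ∈ U := by
        show x ^ 2 = 1
        rw [← hx]
        exact pow_orderOf_eq_one x
      rw [h3, mem_bot] at h5
      rw [h5, orderOf_one] at hx
      omega
  have hel : ∀ x : V, x ^ 2 = 1 := fun x => by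
    have h3 : x ∈ U := by rw [hU]; exact mem_top x
    exact h3
  by_contra hlt
  push Not at hlt
  obtain ⟨k, hk, hk'⟩ := exists_card hel hlt.le
  have hkm : k < m := by
    rw [hk'] at hlt
    exact (Nat.pow_lt_pow_iff_right (by norm_num)).1 hlt
  apply h k hkm
  rw [← card_mulAut hel hk']
  refine hc.trans ((Subgroup.card_dvd_of_surjective π hπ).trans ?_)
  rw [Nat.card_congr (MonoidHom.ofInjective hφ).toEquiv]
  exact Subgroup.card_subgroup_dvd_card φ.range

/-- the sheet on an isomorphic group `S` -/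
theorem exists_sheet {G : Type w} [Group G] {z : G} {Q : Subgroup G} (hs : SheetE z (centralizer ({z} : Set G)) Q)
    {L : Type} [Group L] {π : centralizer ({z} : Set G) →* L} (hsurj : Function.Surjective π)
    (hker : ∀ c, π c = 1 ↔ (c : G) ∈ Q) {S : Type u} [Group S] (e : S ≃* G) :
    ∃ (z : S) (P R : Subgroup S) (π : P →* L), SheetE z P R ∧ P = centralizer ({z} : Set S) ∧
      Nat.card R = Nat.card Q ∧ Function.Surjective π ∧ (∀ c, π c = 1 ↔ (c : S) ∈ R) := by
  have hs := Cfsg.Agent.OddHalf.D8.SheetMap.sheetE_map e.symm hs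
  let f : (centralizer ({z} : Set G)) ≃* ((centralizer ({z} : Set G)).map (e.symm : G →* S)) :=
    (centralizer ({z} : Set G)).equivMapOfInjective _ e.symm.injective
  have hf : ∀ c, (f c : S) = e.symm c := fun c => rfl
  refine ⟨_, _, _, π.comp f.symm.toMonoidHom, hs, ?_, ?_, hsurj.comp f.symm.surjective, fun c => ?_⟩
  · ext x
    constructor
    · rintro ⟨c, hc, rfl⟩
      rw [mem_centralizer_singleton_iff]
      have h1 := mem_centralizer_singleton_iff.1 hc
      show e.symm c * e.symm z = e.symm z * e.symm c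
      rw [← map_mul, h1, map_mul]
    · intro hx
      refine ⟨e x, ?_, e.symm_apply_apply x⟩
      have h1 : x * e.symm z = e.symm z * x := mem_centralizer_singleton_iff.1 hx
      refine mem_centralizer_singleton_iff.2 ?_
      have h2 := congrArg e h1
      rwa [map_mul, map_mul, e.apply_symm_apply] at h2
  · exact (Nat.card_congr (Q.equivMapOfInjective _ e.symm.injective).toEquiv).symm
  · obtain ⟨c, rfl⟩ := f.surjective c
    show π (f.symm (f c)) = 1 ↔ _
    rw [f.symm_apply_apply, hker, hf]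
    constructor
    · intro h1
      exact ⟨c, h1, rfl⟩
    · rintro ⟨q, hq, h1⟩
      rwa [← e.symm.injective h1]

/-- the last field of the record: `C = P` -/
theorem trivC {S : Type u} [Group S] [Finite S] {z : S} {P R : Subgroup S} (h : SheetX z P R)
    (hP : P = centralizer ({z} : Set S)) {L : Type} [Group L] (π : P →* L) (hs : Function.Surjective π)
    (hk : ∀ c, π c = 1 ↔ (c : S) ∈ R) {n : ℕ} (hlb : LB.{0, u, v} L (n + 1)) :
    TrivC.{u, v, u} (centralizer ({z} : Set S)) P n := by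
  refine ExTriv.trivC_of_lb hP.le h.R2 h.Rn h.perf π hs (fun x hx => (hk x).2 hx) ?_ ?_ hlb
  · intro x hx y
    have h1 : (x : S) ∈ R := (hk x).1 hx
    have h2 : (y : S) * (x : S)⁻¹ * (y : S)⁻¹ ∈ R := h.Rn _ y.2 _ (R.inv_mem h1)
    have h3 := R.mul_mem h1 h2
    have h4 : (x : S) * ((y : S) * (x : S)⁻¹ * (y : S)⁻¹) = x * y * (x : S)⁻¹ * (y : S)⁻¹ := by group
    rwa [h4] at h3
  · have h1 : π.ker = R.subgroupOf P := by
      ext c
      rw [MonoidHom.mem_ker, hk, mem_subgroupOf]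
    rw [h1, relIndex_self]
    exact odd_one

end Cfsg.Agent.Omega.ML.Ex.SheetOf

end

end

-- merged: Cfsg.Agent.Mrg.Omega.ML.Ex.SheetCo2
section

section


/-!
# Exact K-list, `Co2`: the sheet `2¹⁺⁸.Sp6(2)` and `LB Sp6(2) 5` (helper376)
-/

set_option autoImplicit false

namespace Cfsg.Agent.Omega.ML.Ex.SheetCo2

open Subgroup Cfsg
open Cfsg.Agent.OddHalf.D8.Sheet Cfsg.Agent.OddHalf.D8.JTwo.Sheet
open Cfsg.Agent.Omega.Lie.Heis (LB Irr)
open Cfsg.Agent.KFacts.CoTwo Cfsg.Agent.Omega.ML.ExRec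
open Cfsg.Agent.KFacts.CoTwo.RSub Cfsg.Agent.Co2Type.TData Cfsg.Agent.Co2Type.FactsD

universe u v w

theorem card_sp : Nat.card Quot.Sp62 = 1451520 := by
  rw [LieClassical.SympCount.card_symplecticGroup, ZMod.card]
  simp [Finset.prod_range_succ]

theorem lb_sp : LB.{0, v, w} Quot.Sp62 5 := by
  have : Finite Quot.Sp62 := Nat.finite_of_card_ne_zero (by rw [card_sp]; norm_num)
  refine SheetOf.lb_of_card (c := 27) (by rw [card_sp]; norm_num) ?_
  decide +kernel

theorem exists_sheet {S : Type u} [Group S] (h : Spor.IsoCo2 S) :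
    ∃ (z : S) (P R : Subgroup S) (L : Type) (_ : Group L) (_ : IsSimpleGroup L) (π : P →* L),
      SheetE z P R ∧ P = centralizer ({z} : Set S) ∧ Nat.card R = 2 ^ (2 * 4 + 1) ∧ Function.Surjective π ∧
      (∀ c, π c = 1 ↔ (c : S) ∈ R) ∧ LB.{0, u, v} L (4 + 1) := by
  obtain ⟨e⟩ := h
  have := Cfsg.Agent.Schreier.CoTwoStab.finite
  have D := Cfsg.Agent.KFacts.CoTwo.QuotInst.dataT
  obtain ⟨π, hs, hk⟩ := D.quot
  obtain ⟨z, P, R, π', h1, h2, h3, h4, h5⟩ := SheetOf.exists_sheet D.sheet hs hk e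
  exact ⟨z, P, R, _, inferInstance, D.simple, π', h1, h2, h3.trans Cfsg.Agent.KFacts.CoTwo.RLarge.card_R, h4, h5, lb_sp⟩

/-- the input of the row -/
theorem sheet (S : Type u) [Group S] [Finite S] (h : Spor.IsoCo2 S) :
    ∃ (z : S) (P R : Subgroup S) (n : ℕ), SheetE z P R ∧ 2 ≤ n ∧ Nat.card R = 2 ^ (2 * n + 1) ∧
      TrivC.{u, v, u} (centralizer ({z} : Set S)) P n := by
  obtain ⟨z, P, R, L, _, _, π, h1, h2, h3, h4, h5, h6⟩ := exists_sheet.{u, v} h
  exact ⟨z, P, R, 4, h1, by norm_num, h3, SheetOf.trivC (of_sheetE h1) h2 π h4 h5 h6⟩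

end Cfsg.Agent.Omega.ML.Ex.SheetCo2

end

section


/-!
# The K-list for EXACT subgroups: the row `Co2`, by THEOREM EX (helper376)
-/

set_option autoImplicit false

namespace Cfsg.Agent.Omega.ML.Ex.RowCo2X

open Subgroup Cfsg

universe u v

/-- **The row `Co2`.** -/
theorem deadX : DeadX.{u, v} @Spor.IsoCo2 :=
  ExEx.SheetRow.deadX_of_sheet fun S _ _ h => SheetCo2.sheet S h

end Cfsg.Agent.Omega.ML.Ex.RowCo2X

end

section


/-!
# The K-list for exact atoms: `|M| ≤ |A|^m` (T14; helper312)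

`InX H M K T A`.

* `cv_eq_bot` : `C_M(K) = 1`;
* `index_le_card` : `|M : C_M(x)| ≤ |A|` for `x ∈ A`;
* **`card_le_pow`** : `K ≤ ⟨f 0, …, f (m-1)⟩`, `|M : C_M(f i)| ≤ d` ⟹ `|M| ≤ d^m`;
* `card_le_conj` : the `f i` conjugates of one `x ∈ A`: `|M| ≤ |M : C_M(x)|^m`, `|M| ≤ |A|^m`;
* `card_le_conjA` : `K ≤ ⟨A^{g_0}, …, A^{g_(m-1)}⟩` ⟹ `|M| ≤ |A|^m`;
* `card_le_genBy` : `K` is generated by `m` `K`-conjugates of every involution, `x ∈ A ∩ K`;
* `lb_le` : `LB K n` ⟹ `2^n ≤ |M|`;  `pow_le_index`, `pow_le_card` : `r` an odd prime, `ord_r(2) ≥ k` ⟹ `2^k ≤ |M|`;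
* **`false_of_lb`**, **`false_of_prime`** (conjugates of `x ∈ A`), **`false_of_lbA`**, **`false_of_primeA`** (conjugates of `A`).
-/

set_option autoImplicit false

namespace Cfsg.Agent.Omega.ML.Ex.Gen

open Subgroup Cfsg Cfsg.Agent.ZN Cfsg.Agent.Omega.NOThree.NoOver Cfsg.Agent.Omega.ML.CD
open Cfsg.Agent.ClassTwoFusion.Quad Cfsg.Agent.Omega.Lie Cfsg.Agent.Omega.ML

open scoped commutatorElement

universe u v

section lin

variable {H : Type*} [Group H] {M : Type*} [Group M] [MulDistribMulAction H M]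

/-- `C_M(⟨f 0, …⟩)` has index at most `∏ |M : C_M(f i)|`. -/
theorem index_le_pow [Finite M] {m d : ℕ} (f : Fin m → H) (hf : ∀ i, (cv M ({f i} : Set H)).index ≤ d)
    {J : Subgroup H} (hgen : J ≤ closure (Set.range f)) : (cv M (J : Set H)).index ≤ d ^ m := by
  have h1 : (⨅ i, cv M ({f i} : Set H)) ≤ cv M (J : Set H) := by
    intro w hw k hk
    have h2 : ∀ i, f i • w = w := fun i => by
      have h3 : w ∈ cv M ({f i} : Set H) := (mem_iInf.1 hw) i
      exact h3 _ rfl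
    have h3 : closure (Set.range f) ≤ MulAction.stabilizer H w := by
      rw [closure_le]
      rintro _ ⟨i, rfl⟩
      exact h2 i
    exact h3 (hgen hk)
  calc (cv M (J : Set H)).index ≤ (⨅ i, cv M ({f i} : Set H)).index :=
        Nat.le_of_dvd (Nat.pos_of_ne_zero Subgroup.index_ne_zero_of_finite) (Subgroup.index_dvd_of_le h1)
    _ ≤ ∏ i, (cv M ({f i} : Set H)).index := index_iInf_le _
    _ ≤ ∏ _i : Fin m, d := Finset.prod_le_prod' fun i _ => hf i
    _ = d ^ m := by rw [Finset.prod_const, Finset.card_univ, Fintype.card_fin]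

/-- The same for subgroups `B i`. -/
theorem index_le_powA [Finite M] {m d : ℕ} (B : Fin m → Subgroup H)
    (hB : ∀ i, (cv M (B i : Set H)).index ≤ d) {J : Subgroup H} (hgen : J ≤ ⨆ i, B i) :
    (cv M (J : Set H)).index ≤ d ^ m := by
  have h1 : (⨅ i, cv M (B i : Set H)) ≤ cv M (J : Set H) := by
    intro w hw k hk
    have h3 : (⨆ i, B i) ≤ MulAction.stabilizer H w := by
      refine iSup_le fun i b hb => ?_
      have h4 : w ∈ cv M (B i : Set H) := (mem_iInf.1 hw) i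
      exact h4 b hb
    exact h3 (hgen hk)
  calc (cv M (J : Set H)).index ≤ (⨅ i, cv M (B i : Set H)).index :=
        Nat.le_of_dvd (Nat.pos_of_ne_zero Subgroup.index_ne_zero_of_finite) (Subgroup.index_dvd_of_le h1)
    _ ≤ ∏ i, (cv M (B i : Set H)).index := index_iInf_le _
    _ ≤ ∏ _i : Fin m, d := Finset.prod_le_prod' fun i _ => hB i
    _ = d ^ m := by rw [Finset.prod_const, Finset.card_univ, Fintype.card_fin]

/-- `|M : C_M(A^g)| = |M : C_M(A)|` -/
theorem index_cv_map_conj [Finite M] (g : H) (A : Subgroup H) :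
    (cv M ((A.map (MulAut.conj g).toMonoidHom : Subgroup H) : Set H)).index = (cv M (A : Set H)).index := by
  have h1 : Nat.card (cv M ((A.map (MulAut.conj g).toMonoidHom : Subgroup H) : Set H)) = Nat.card (cv M (A : Set H)) := by
    refine Nat.card_congr (Equiv.subtypeEquiv (MulAction.toPerm g⁻¹) fun m => ?_)
    rw [MulAction.toPerm_apply]
    constructor
    · intro hm a ha
      have h2 := hm (g * a * g⁻¹) ⟨a, ha, rfl⟩
      rw [mul_smul, mul_smul] at h2
      rw [eq_inv_smul_iff]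
      exact h2
    · rintro hm _ ⟨a, ha, rfl⟩
      have h2 := hm a ha
      rw [eq_inv_smul_iff] at h2
      show (g * a * g⁻¹) • m = m
      rw [mul_smul, mul_smul]
      exact h2
  have h2 := (cv M ((A.map (MulAut.conj g).toMonoidHom : Subgroup H) : Set H)).card_mul_index
  have h3 := (cv M (A : Set H)).card_mul_index
  rw [h1, ← h3] at h2
  exact Nat.eq_of_mul_eq_mul_left Nat.card_pos h2

end lin

variable {H : Type u} [Group H] {M : Type v} [Group M] [MulDistribMulAction H M] {K T A : Subgroup H}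

/-- `C_M(K) = 1`. -/
theorem cv_eq_bot (h : InX H M K T A) : cv M (K : Set H) = ⊥ := by
  have hK := h.norm
  rcases h.irr (cv M (K : Set H)) (by
    intro g w hw k hk
    have h1 := hw (g⁻¹ * k * g) (by
      have := hK.conj_mem k hk g⁻¹
      rwa [inv_inv] at this)
    rw [mul_smul, mul_smul, inv_smul_eq_iff] at h1
    exact h1) with h1 | h1
  · exact h1
  · exfalso
    have hs := h.simple
    obtain ⟨x, hx⟩ := exists_ne (1 : K)
    exact hx (Subtype.ext (h.faith x fun m => (h1 ▸ mem_top m : m ∈ cv M (K : Set H)) x x.2))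

/-- `|M : C_M(x)| ≤ |A|` for `x ∈ A`. -/
theorem index_le_card [Finite M] (h : InX H M K T A) {x : H} (hx : x ∈ A) :
    (cv M ({x} : Set H)).index ≤ Nat.card A := by
  rw [← h.exact]
  exact Nat.le_of_dvd (Nat.pos_of_ne_zero Subgroup.index_ne_zero_of_finite)
    (Subgroup.index_dvd_of_le (cv_anti (Set.singleton_subset_iff.2 hx)))

/-- **`|M| ≤ d^m`.** -/
theorem card_le_pow [Finite M] (h : InX H M K T A) {m d : ℕ} (f : Fin m → H)
    (hf : ∀ i, (cv M ({f i} : Set H)).index ≤ d) (hgen : K ≤ closure (Set.range f)) : Nat.card M ≤ d ^ m := by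
  have h1 := index_le_pow f hf hgen
  rwa [cv_eq_bot h, index_bot] at h1

/-- **Conjugates of `x`**: `|M| ≤ |M : C_M(x)|^m`. -/
theorem card_le_conj_index [Finite M] (h : InX H M K T A) {m : ℕ} (x : H) (l : Fin m → H)
    (hgen : K ≤ closure (Set.range fun i => l i * x * (l i)⁻¹)) : Nat.card M ≤ (cv M ({x} : Set H)).index ^ m :=
  card_le_pow h _ (fun i => (InvFrob.index_cv_conj (M := M) (l i) x).le) hgen

/-- **Conjugates of `x ∈ A`**: `|M| ≤ |A|^m`. -/
theorem card_le_conj [Finite M] (h : InX H M K T A) {m : ℕ} {x : H} (hx : x ∈ A) (l : Fin m → H)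
    (hgen : K ≤ closure (Set.range fun i => l i * x * (l i)⁻¹)) : Nat.card M ≤ Nat.card A ^ m :=
  (card_le_conj_index h x l hgen).trans (Nat.pow_le_pow_left (index_le_card h hx) m)

/-- **Conjugates of `A`**: `|M| ≤ |A|^m`. -/
theorem card_le_conjA [Finite M] (h : InX H M K T A) {m : ℕ} (l : Fin m → H)
    (hgen : K ≤ ⨆ i, A.map (MulAut.conj (l i)).toMonoidHom) : Nat.card M ≤ Nat.card A ^ m := by
  have h1 := index_le_powA (M := M) (fun i => A.map (MulAut.conj (l i)).toMonoidHom) (d := Nat.card A)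
    (fun i => by rw [index_cv_map_conj, h.exact]) hgen
  rwa [cv_eq_bot h, index_bot] at h1

/-- `K` is generated by `m` conjugates of every involution. -/
theorem card_le_genBy [Finite M] (h : InX H M K T A) {m : ℕ}
    (hg : ∀ x : K, x ≠ 1 → x * x = 1 → ∃ l : Fin m → K, closure (Set.range fun i => l i * x * (l i)⁻¹) = ⊤)
    {x : H} (hx : x ∈ A) (hxK : x ∈ K) (hx1 : x ≠ 1) :
    Nat.card M ≤ (cv M ({x} : Set H)).index ^ m ∧ Nat.card M ≤ Nat.card A ^ m := by
  obtain ⟨l, hl⟩ := hg ⟨x, hxK⟩ (fun h1 => hx1 (congrArg Subtype.val h1)) (Subtype.ext (h.el x hx))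
  have h3 : K ≤ closure (Set.range fun i => (l i : H) * x * (l i : H)⁻¹) := by
    have h3 := congrArg (Subgroup.map K.subtype) hl
    rw [MonoidHom.map_closure, ← Set.range_comp, ← MonoidHom.range_eq_map, range_subtype] at h3
    exact le_of_eq h3.symm
  exact ⟨card_le_conj_index h x _ h3, card_le_conj h hx _ h3⟩

/-- `K` is perfect. -/
theorem perf [Finite H] (h : InX H M K T A) : _root_.commutator K = ⊤ := by
  have hs := h.simple
  have h1 : (_root_.commutator K).Normal := inferInstance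
  rcases h1.eq_bot_or_eq_top with h2 | h2
  · exfalso
    -- `K` abelian, so `K ≤ C_H(K) = 1`
    have h3 : K ≤ centralizer (K : Set H) := by
      intro k hk
      rw [mem_centralizer_iff]
      intro l hl
      have h4 : ⁅(⟨l, hl⟩ : K), ⟨k, hk⟩⁆ ∈ (_root_.commutator K) :=
        commutator_mem_commutator (mem_top _) (mem_top _)
      rw [h2, mem_bot, commutatorElement_eq_one_iff_mul_comm] at h4
      exact congrArg Subtype.val h4
    rw [h.cen, le_bot_iff] at h3
    obtain ⟨x, hx⟩ := exists_ne (1 : K)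
    exact hx (Subtype.ext (mem_bot.1 (h3 ▸ x.2 : (x : H) ∈ (⊥ : Subgroup H))))
  · exact h2

/-- **The lower bound `LB`.** -/
theorem lb_le [Finite H] [Finite M] (h : InX H M K T A) {n : ℕ} (hl : Heis.LB.{u, u, v} K n) : 2 ^ n ≤ Nat.card M := by
  let _ : CommGroup M := { ‹Group M› with mul_comm := h.comm }
  refine hl K (MonoidHom.id K) Function.surjective_id ?_ ?_ (perf h) M h.M_two
    ((MulDistribMulAction.toMulAut H M).comp K.subtype) ?_
  · intro x hx
    have h1 : x = 1 := hx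
    rw [h1]
    exact one_mem _
  · have h1 : (MonoidHom.id K).ker = ⊥ := by
      ext x
      simp
    rw [h1, card_bot]
    exact odd_one
  · intro h1
    have hs := h.simple
    obtain ⟨x, hx⟩ := exists_ne (1 : K)
    refine hx (Subtype.ext (h.faith x fun m => ?_))
    exact congrArg (fun e : MulAut M => e m) (DFunLike.congr_fun h1 x)

/-- An element `u ≠ 1` with `u ^ r = 1`: `2^k ≤ |M : C_M(u)|`. -/
theorem pow_le_index [Finite M] (h : InX H M K T A) {u : H} {r k : ℕ} (hp : r.Prime) (ho : Odd r) (hr : u ^ r = 1)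
    (hu : u ≠ 1) (hk : ∀ n : ℕ, 0 < n → r ∣ 2 ^ n - 1 → k ≤ n) : 2 ^ k ≤ (cv M ({u} : Set H)).index := by
  refine InvFrob.ord_index h.sq hp ho hr ?_ hk
  by_contra h1
  push Not at h1
  exact hu (h.faith u h1)

/-- **`2^k ≤ |M|`**, `r` an odd prime divisor of `|K|`, `k ≤ ord_r(2)`. -/
theorem pow_le_card [Finite H] [Finite M] (h : InX H M K T A) {r k : ℕ} (hp : r.Prime) (ho : Odd r)
    (hr : r ∣ Nat.card K) (hk : ∀ n : ℕ, 0 < n → r ∣ 2 ^ n - 1 → k ≤ n) : 2 ^ k ≤ Nat.card M := by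
  have : Fact r.Prime := ⟨hp⟩
  obtain ⟨u, hu⟩ := exists_prime_orderOf_dvd_card' r hr
  have h1 := pow_le_index h (u := (u : H)) hp ho (by
    rw [← Subgroup.coe_pow, ← hu, pow_orderOf_eq_one, Subgroup.coe_one]) (by
    intro h1
    have h2 : u = 1 := Subtype.ext h1
    rw [h2, orderOf_one] at hu
    exact hp.one_lt.ne hu) hk
  exact h1.trans (Nat.le_of_dvd Nat.card_pos (Subgroup.index_dvd_card _))

omit [Group M] [MulDistribMulAction H M] in
theorem lt_of_card {n a m : ℕ} (hn : 2 ^ n ≤ Nat.card M) (ha : Nat.card A ≤ 2 ^ a) (hm : Nat.card M ≤ Nat.card A ^ m) :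
    n ≤ a * m := by
  have h1 := (hn.trans hm).trans (Nat.pow_le_pow_left ha m)
  rw [← pow_mul] at h1
  exact (Nat.pow_le_pow_iff_right (by norm_num : 1 < 2)).1 h1

/-- **Kill by generation** (conjugates of `x ∈ A`), `LB`. -/
theorem false_of_lb [Finite H] [Finite M] (h : InX H M K T A) {n a m : ℕ} (hl : Heis.LB.{u, u, v} K n)
    (ha : Nat.card A ≤ 2 ^ a) {x : H} (hx : x ∈ A) (l : Fin m → H)
    (hgen : K ≤ closure (Set.range fun i => l i * x * (l i)⁻¹)) (hn : a * m < n) : False := by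
  have := lt_of_card (lb_le h hl) ha (card_le_conj h hx l hgen)
  omega

/-- **Kill by generation** (conjugates of `x ∈ A`), a prime. -/
theorem false_of_prime [Finite H] [Finite M] (h : InX H M K T A) {r k a m : ℕ} (hp : r.Prime) (ho : Odd r)
    (hr : r ∣ Nat.card K) (hk : ∀ n : ℕ, 0 < n → r ∣ 2 ^ n - 1 → k ≤ n)
    (ha : Nat.card A ≤ 2 ^ a) {x : H} (hx : x ∈ A) (l : Fin m → H)
    (hgen : K ≤ closure (Set.range fun i => l i * x * (l i)⁻¹)) (hn : a * m < k) : False := by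
  have := lt_of_card (pow_le_card h hp ho hr hk) ha (card_le_conj h hx l hgen)
  omega

/-- **Kill by generation** (conjugates of `A`), `LB`. -/
theorem false_of_lbA [Finite H] [Finite M] (h : InX H M K T A) {n a m : ℕ} (hl : Heis.LB.{u, u, v} K n)
    (ha : Nat.card A ≤ 2 ^ a) (l : Fin m → H)
    (hgen : K ≤ ⨆ i, A.map (MulAut.conj (l i)).toMonoidHom) (hn : a * m < n) : False := by
  have := lt_of_card (lb_le h hl) ha (card_le_conjA h l hgen)
  omega

/-- **Kill by generation** (conjugates of `A`), a prime. -/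
theorem false_of_primeA [Finite H] [Finite M] (h : InX H M K T A) {r k a m : ℕ} (hp : r.Prime) (ho : Odd r)
    (hr : r ∣ Nat.card K) (hk : ∀ n : ℕ, 0 < n → r ∣ 2 ^ n - 1 → k ≤ n)
    (ha : Nat.card A ≤ 2 ^ a) (l : Fin m → H)
    (hgen : K ≤ ⨆ i, A.map (MulAut.conj (l i)).toMonoidHom) (hn : a * m < k) : False := by
  have := lt_of_card (pow_le_card h hp ho hr hk) ha (card_le_conjA h l hgen)
  omega

end Cfsg.Agent.Omega.ML.Ex.Gen

end

section


/-!
# Exact atoms: every `a ∈ A#` is one half of an involution of `K` (helper912)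

* `exists_half` : `a² = 1`, `a * a^r ≠ 1` a 2-element: there is `g` with `a * a^g` an involution, a power of `a * a^r`;
* **`ASx.exists_half`** : for `1 ≠ a ∈ A` there are `T ≤ R ≠ ⊤` and `g ∈ R ∩ S` with `a * a^g ∈ O₂(R) ∩ S` an involution;
* **`InX.exists_half`** : so there is an involution `x ∈ K ∩ T` with `|M : C_M(x)| ≤ |M : C_M(a)|² ≤ |A|²`;
* `InX.exists_half_four` : `|A| = 4` : `|M : C_M(x)| ≤ 16`;
* `InX.card_le_half` : `K` is generated by `n` conjugates of every involution ⟹ `|M| ≤ |A|^(2n)`;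
* `InX.false_of_half_lb`, `InX.false_of_half_prime`, `InX.false_of_half_index` : the kills.
-/

set_option autoImplicit false

namespace Cfsg.Agent.Omega.ML.Ex

open Subgroup Cfsg Cfsg.Agent.ZN Cfsg.Agent.Omega.NOThree.NoOver Cfsg.Agent.Omega.ML.CD
open Cfsg.Agent.ClassTwoFusion.Quad Cfsg.Agent.Omega.Lie Cfsg.Agent.Omega.ML
open Cfsg.Agent.MinSimple.VModule (o2_isPGroup o2_le le_o2 le_normalizer_o2)

universe u v

/-- `a * a^r` is a 2-element, not 1: some `a * a^g` is an involution. -/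
theorem exists_half {G : Type*} [Group G] {a : G} (haa : a * a = 1) (Q : Subgroup G) :
    ∀ (k : ℕ) (r : G), r ∈ Q → a * (r * a * r⁻¹) ∈ Q → a * (r * a * r⁻¹) ≠ 1 → (a * (r * a * r⁻¹)) ^ 2 ^ k = 1 →
      ∃ g ∈ Q, a * (g * a * g⁻¹) ≠ 1 ∧ (a * (g * a * g⁻¹)) * (a * (g * a * g⁻¹)) = 1 ∧
        a * (g * a * g⁻¹) ∈ zpowers (a * (r * a * r⁻¹)) := by
  intro k
  induction k with
  | zero =>
    intro r _ _ h1 h2
    exact absurd (by simpa using h2) h1
  | succ k ih =>
    intro r hr hu h1 h2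
    set u := a * (r * a * r⁻¹) with hudef
    have ha : a⁻¹ = a := inv_eq_of_mul_eq_one_left haa
    by_cases h3 : u * u = 1
    · exact ⟨r, hr, h1, h3, mem_zpowers _⟩
    -- `a * a^(u⁻¹) = u²`
    have h4 : a * (u⁻¹ * a * u⁻¹⁻¹) = u * u := by
      have h5 : a * u⁻¹ * a = u := by
        rw [hudef, mul_inv_rev, mul_inv_rev, mul_inv_rev, inv_inv, ha]
        calc a * (r * (a * r⁻¹) * a) * a = a * (r * (a * r⁻¹)) * (a * a) := by group
          _ = a * (r * a * r⁻¹) := by rw [haa]; group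
      calc a * (u⁻¹ * a * u⁻¹⁻¹) = (a * u⁻¹ * a) * u := by group
        _ = u * u := by rw [h5]
    obtain ⟨g, hg, hg1, hg2, hg3⟩ := ih u⁻¹ (inv_mem hu) (by rw [h4]; exact mul_mem hu hu) (by rw [h4]; exact h3)
      (by rw [h4, ← pow_two, ← pow_mul, ← h2, pow_succ, mul_comm])
    refine ⟨g, hg, hg1, hg2, ?_⟩
    rw [h4] at hg3
    exact (zpowers_le.2 (mul_mem (mem_zpowers u) (mem_zpowers u)) : zpowers (u * u) ≤ zpowers u) hg3

section tools

variable {X : Type u} [Group X] {S T A : Subgroup X}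

/-- `R = T (R ∩ S)` -/
theorem ASx.le_sup_inf (h : ASx S T A) {R : Subgroup X} (hT : T ≤ R) : R ≤ T ⊔ (R ⊓ S) := by
  have hn := h.norm
  intro r hr
  have h1 : r ∈ S ⊔ T := h.gen ▸ mem_top r
  obtain ⟨s, hs, t, ht, rfl⟩ := mem_sup_of_normal_left.1 h1
  have h2 : s ∈ R := by
    have := mul_mem hr (inv_mem (hT ht))
    rwa [mul_inv_cancel_right] at this
  exact mul_mem (mem_sup_right ⟨h2, hs⟩) (mem_sup_left ht)

/-- **Every `a ∈ A#` is one half of an involution of `S`.** -/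
theorem ASx.exists_half [Finite X] (h : ASx S T A) {a : X} (ha : a ∈ A) (ha1 : a ≠ 1) :
    ∃ R : Subgroup X, T ≤ R ∧ R ≠ ⊤ ∧ ∃ g ∈ R ⊓ S, a * (g * a * g⁻¹) ∈ o2 R ⊓ S ∧ a * (g * a * g⁻¹) ≠ 1 ∧
      (a * (g * a * g⁻¹)) * (a * (g * a * g⁻¹)) = 1 := by
  have hn := h.norm
  have haa := h.el a ha
  have hainv : a⁻¹ = a := inv_eq_of_mul_eq_one_left haa
  by_contra hcon
  -- `R ∩ S` centralises `a`
  have h1 : ∀ R : Subgroup X, T ≤ R → R ≠ ⊤ → ∀ r ∈ R ⊓ S, r * a = a * r := by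
    intro R hTR hR r hr
    by_contra h2
    have hle := le_normalizer_o2 R
    have haO := h.low R hTR hR ha
    have h3 : a * (r * a * r⁻¹) ∈ o2 R := mul_mem haO ((mem_normalizer_iff.1 (hle hr.1) a).1 haO)
    have h4 : a * (r * a * r⁻¹) ∈ S := by
      have h5 : a * (r * a * r⁻¹) = (a * r * a⁻¹) * r⁻¹ := by rw [hainv]; group
      rw [h5]
      exact mul_mem (hn.conj_mem r hr.2 a) (inv_mem hr.2)
    have h5 : a * (r * a * r⁻¹) ≠ 1 := by
      intro h6
      apply h2
      have h7 : r * a * r⁻¹ = a⁻¹ := (inv_eq_of_mul_eq_one_right h6).symm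
      rw [hainv, mul_inv_eq_iff_eq_mul] at h7
      exact h7
    obtain ⟨k, hk⟩ := o2_isPGroup R ⟨_, h3⟩
    obtain ⟨g, hg, hg1, hg2, hg3⟩ := Ex.exists_half haa (R ⊓ S) k r hr ⟨o2_le R h3, h4⟩ h5
      (congrArg Subtype.val hk)
    exact hcon ⟨R, hTR, hR, g, hg,
      (zpowers_le.2 (⟨h3, h4⟩ : a * (r * a * r⁻¹) ∈ o2 R ⊓ S)) hg3, hg1, hg2⟩
  -- the largest `T`-invariant subgroup of `C_S(a)`
  let C : Subgroup X := S ⊓ centralizer {x | ∃ t ∈ T, x = t * a * t⁻¹}
  have hTC : T ≤ normalizer (C : Set X) := by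
    have h2 : ∀ t ∈ T, ∀ c ∈ C, t * c * t⁻¹ ∈ C := by
      rintro t ht c ⟨hc, hc'⟩
      refine ⟨hn.conj_mem c hc t, mem_centralizer_iff.2 ?_⟩
      rintro _ ⟨s, hs, rfl⟩
      have h3 := mem_centralizer_iff.1 hc' (t⁻¹ * s * a * (t⁻¹ * s)⁻¹) ⟨t⁻¹ * s, mul_mem (inv_mem ht) hs, rfl⟩
      have h4 : t * (t⁻¹ * s * a * (t⁻¹ * s)⁻¹ * c) * t⁻¹ = t * (c * (t⁻¹ * s * a * (t⁻¹ * s)⁻¹)) * t⁻¹ := by
        rw [h3]
      calc s * a * s⁻¹ * (t * c * t⁻¹) = t * (t⁻¹ * s * a * (t⁻¹ * s)⁻¹ * c) * t⁻¹ := by group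
        _ = t * (c * (t⁻¹ * s * a * (t⁻¹ * s)⁻¹)) * t⁻¹ := h4
        _ = t * c * t⁻¹ * (s * a * s⁻¹) := by group
    intro t ht
    refine mem_normalizer_iff.2 fun c => ⟨h2 t ht c, fun h3 => ?_⟩
    have h4 := h2 t⁻¹ (inv_mem ht) _ h3
    have h5 : t⁻¹ * (t * c * t⁻¹) * t⁻¹⁻¹ = c := by group
    rwa [h5] at h4
  have hRC : ∀ R : Subgroup X, T ≤ R → R ≠ ⊤ → R ⊓ S ≤ C := by
    rintro R hTR hR s hs
    refine ⟨hs.2, mem_centralizer_iff.2 ?_⟩
    rintro _ ⟨t, ht, rfl⟩
    have h2 := h1 R hTR hR (t⁻¹ * s * t) ⟨R.mul_mem (R.mul_mem (R.inv_mem (hTR ht)) hs.1) (hTR ht), by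
      have := hn.conj_mem s hs.2 t⁻¹
      rwa [inv_inv] at this⟩
    calc t * a * t⁻¹ * s = t * (a * (t⁻¹ * s * t)) * t⁻¹ := by group
      _ = t * (t⁻¹ * s * t * a) * t⁻¹ := by rw [h2]
      _ = s * (t * a * t⁻¹) := by group
  have hTt := h.ne_top
  have htop : T ⊔ C = ⊤ := by
    by_contra h2
    exact h.nmax ⟨T ⊔ C, h2, fun R hTR hR => (h.le_sup_inf hTR).trans (sup_le_sup_left (hRC R hTR hR) T)⟩
  have hCn : C.Normal := by
    rw [← normalizer_eq_top_iff, eq_top_iff, ← htop]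
    exact sup_le hTC le_normalizer
  have hsim := h.simple
  have hCS : (C.subgroupOf S).Normal := inferInstance
  rcases hsim.eq_bot_or_eq_top_of_normal _ hCS with h2 | h2
  · have h3 : C = ⊥ := by
      rw [subgroupOf_eq_bot, disjoint_iff] at h2
      rw [← h2]
      exact (inf_eq_left.2 inf_le_left).symm
    rw [h3, sup_bot_eq] at htop
    exact hTt htop
  · have h3 : S ≤ C := subgroupOf_eq_top.1 h2
    have h4 : a ∈ centralizer (S : Set X) := mem_centralizer_iff.2 fun s hs => by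
      have h5 := mem_centralizer_iff.1 (h3 hs).2 (1 * a * 1⁻¹) ⟨1, one_mem _, rfl⟩
      rw [one_mul, inv_one, mul_one] at h5
      exact h5.symm
    rw [h.cen] at h4
    exact ha1 (mem_bot.1 h4)

end tools

section module

variable {H : Type u} [Group H] {M : Type v} [Group M] [MulDistribMulAction H M] {K T A : Subgroup H}

/-- **For `a ∈ A#` there is an involution `x ∈ K ∩ T` with `|M : C_M(x)| ≤ |M : C_M(a)|²`.** -/
theorem InX.exists_half [Finite H] [Finite M] (h : InX H M K T A) {a : H} (ha : a ∈ A) (ha1 : a ≠ 1) :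
    ∃ R : Subgroup H, T ≤ R ∧ R ≠ ⊤ ∧ ∃ x ∈ o2 R ⊓ K, x ≠ 1 ∧ x * x = 1 ∧
      (cv M ({x} : Set H)).index ≤ (cv M ({a} : Set H)).index ^ 2 := by
  obtain ⟨R, hTR, hR, g, hg, h1, h2, h3⟩ := h.asx.exists_half ha ha1
  refine ⟨R, hTR, hR, _, h1, h2, h3, ?_⟩
  have h4 : cv M ({a} : Set H) ⊓ cv M ({g * a * g⁻¹} : Set H) ≤ cv M ({a * (g * a * g⁻¹)} : Set H) := by
    rintro m ⟨hm1, hm2⟩
    rintro x rfl
    have e1 : a • m = m := hm1 a rfl
    have e2 : (g * a * g⁻¹) • m = m := hm2 _ rfl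
    rw [mul_smul, e2, e1]
  have h5 := Nat.le_of_dvd (Nat.pos_of_ne_zero index_ne_zero_of_finite) (index_dvd_of_le h4)
  refine h5.trans (index_inf_le.trans ?_)
  rw [InvFrob.index_cv_conj (M := M) g a, pow_two]

/-- An involution `x ∈ K ∩ T` with `|M : C_M(x)| ≤ |A|²`. -/
theorem InX.exists_half' [Finite H] [Finite M] (h : InX H M K T A) :
    ∃ R : Subgroup H, T ≤ R ∧ R ≠ ⊤ ∧ ∃ x ∈ o2 R ⊓ K, x ≠ 1 ∧ x * x = 1 ∧
      (cv M ({x} : Set H)).index ≤ Nat.card A ^ 2 := by
  obtain ⟨⟨a, ha⟩, ha2⟩ := ne_bot_iff_exists_ne_one.1 h.A_ne_bot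
  have ha1 : a ≠ 1 := fun h1 => ha2 (Subtype.ext h1)
  obtain ⟨R, hTR, hR, x, hx, hx1, hxx, h1⟩ := h.exists_half ha ha1
  exact ⟨R, hTR, hR, x, hx, hx1, hxx, h1.trans (Nat.pow_le_pow_left (Gen.index_le_card h ha) 2)⟩

/-- **`|A| = 4`**: an involution `x ∈ K ∩ T` with `|M : C_M(x)| ≤ 16`. -/
theorem InX.exists_half_four [Finite H] [Finite M] (h : InX H M K T A) (h4 : Nat.card A ≤ 4) :
    ∃ x ∈ K ⊓ T, x ≠ 1 ∧ x * x = 1 ∧ (cv M ({x} : Set H)).index ≤ 16 := by
  obtain ⟨R, hTR, hR, x, hx, hx1, hxx, h1⟩ := h.exists_half'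
  refine ⟨x, ⟨hx.2, ?_⟩, hx1, hxx, h1.trans ((Nat.pow_le_pow_left h4 2).trans (by norm_num))⟩
  -- `O₂(R) ≤ T`
  have hp : Fact (Nat.Prime 2) := ⟨Nat.prime_two⟩
  have h2 : T ≤ normalizer (o2 R : Set H) := hTR.trans (le_normalizer_o2 R)
  have h3 : IsPGroup 2 (o2 R ⊔ T : Subgroup H) := (o2_isPGroup R).to_sup_of_normal_left' h.two h2
  have h5 : ¬ 2 ∣ T.relIndex (o2 R ⊔ T) := fun h5 => h.syl (h5.trans (relIndex_dvd_index_of_le le_sup_right))
  obtain ⟨n, hn⟩ := (IsPGroup.iff_card.1 h3)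
  have h6 : T.relIndex (o2 R ⊔ T) ∣ 2 ^ n := hn ▸ (T.subgroupOf (o2 R ⊔ T)).index_dvd_card
  obtain ⟨k, -, hk⟩ := (Nat.dvd_prime_pow Nat.prime_two).1 h6
  have h7 : k = 0 := by
    by_contra hk0
    exact h5 (hk ▸ dvd_pow_self 2 hk0)
  rw [h7, pow_zero] at hk
  exact relIndex_eq_one.1 hk (mem_sup_left hx.1)

/-- **`K` is generated by `n` conjugates of every involution: `|M| ≤ |A|^(2n)`.** -/
theorem InX.card_le_half [Finite H] [Finite M] (h : InX H M K T A) {m : ℕ}
    (hg : ∀ x : K, x ≠ 1 → x * x = 1 → ∃ l : Fin m → K, closure (Set.range fun i => l i * x * (l i)⁻¹) = ⊤) :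
    Nat.card M ≤ Nat.card A ^ (2 * m) := by
  obtain ⟨R, hTR, hR, x, hx, hx1, hxx, h1⟩ := h.exists_half'
  obtain ⟨l, hl⟩ := hg ⟨x, hx.2⟩ (fun h1 => hx1 (congrArg Subtype.val h1)) (Subtype.ext hxx)
  have h3 : K ≤ closure (Set.range fun i => (l i : H) * x * (l i : H)⁻¹) := by
    have h3 := congrArg (Subgroup.map K.subtype) hl
    rw [MonoidHom.map_closure, ← Set.range_comp, ← MonoidHom.range_eq_map, range_subtype] at h3
    exact le_of_eq h3.symm
  refine (Gen.card_le_conj_index h x _ h3).trans ?_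
  rw [pow_mul]
  exact Nat.pow_le_pow_left h1 m

/-- **Kill**: `LB`. -/
theorem InX.false_of_half_lb [Finite H] [Finite M] (h : InX H M K T A) {n a m : ℕ} (hl : Heis.LB.{u, u, v} K n)
    (ha : Nat.card A ≤ 2 ^ a)
    (hg : ∀ x : K, x ≠ 1 → x * x = 1 → ∃ l : Fin m → K, closure (Set.range fun i => l i * x * (l i)⁻¹) = ⊤)
    (hn : 2 * a * m < n) : False := by
  have h1 := (Gen.lb_le h hl).trans ((h.card_le_half hg).trans (Nat.pow_le_pow_left ha _))
  rw [← pow_mul] at h1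
  have h2 := (Nat.pow_le_pow_iff_right (by norm_num : 1 < 2)).1 h1
  have h3 : a * (2 * m) = 2 * a * m := by ring
  omega

/-- **Kill**: a prime. -/
theorem InX.false_of_half_prime [Finite H] [Finite M] (h : InX H M K T A) {r k a m : ℕ} (hp : r.Prime) (ho : Odd r)
    (hr : r ∣ Nat.card K) (hk : ∀ n : ℕ, 0 < n → r ∣ 2 ^ n - 1 → k ≤ n) (ha : Nat.card A ≤ 2 ^ a)
    (hg : ∀ x : K, x ≠ 1 → x * x = 1 → ∃ l : Fin m → K, closure (Set.range fun i => l i * x * (l i)⁻¹) = ⊤)
    (hn : 2 * a * m < k) : False := by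
  have h1 := (Gen.pow_le_card h hp ho hr hk).trans ((h.card_le_half hg).trans (Nat.pow_le_pow_left ha _))
  rw [← pow_mul] at h1
  have h2 := (Nat.pow_le_pow_iff_right (by norm_num : 1 < 2)).1 h1
  have h3 : a * (2 * m) = 2 * a * m := by ring
  omega

/-- **Kill**: all involutions `x` of `K` have `|M : C_M(x)| > |A|²`. -/
theorem InX.false_of_half_index [Finite H] [Finite M] (h : InX H M K T A) {n : ℕ} (hA : Nat.card A ^ 2 ≤ n)
    (hi : ∀ x ∈ K, x ≠ 1 → x * x = 1 → n < (cv M ({x} : Set H)).index) : False := by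
  obtain ⟨R, hTR, hR, x, hx, hx1, hxx, h1⟩ := h.exists_half'
  have := hi x hx.2 hx1 hxx
  omega

end module

end Cfsg.Agent.Omega.ML.Ex

end

section


/-!
# The parity lemma

`M` an elementary abelian 2-group, `K` a set of operators, `S₀ ≤ M` simple for `K`: the number of submodules of `M`
which are isomorphic to `S₀` is odd.

(`|Hom_K(S₀, M) \ 0|` is odd, and so is every fibre `|Hom_K(S₀, S) \ 0|` of `f ↦ f(S₀)`.)
-/

set_option autoImplicit false

namespace Cfsg.Agent.Omega.ML.Ex.IrrPar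

open Subgroup

universe u v

variable {H : Type u} [Group H] {M : Type v} [Group M] [MulDistribMulAction H M]

theorem comm_of_sq (sq : ∀ m : M, m * m = 1) (x y : M) : x * y = y * x := by
  have hinv : ∀ m : M, m⁻¹ = m := fun m => inv_eq_of_mul_eq_one_right (sq m)
  calc x * y = (x * y)⁻¹ := (hinv _).symm
    _ = y⁻¹ * x⁻¹ := mul_inv_rev _ _
    _ = y * x := by rw [hinv, hinv]

/-- `Hom_K(S₀, L)` -/
def HK (sq : ∀ m : M, m * m = 1) (K : Set H) (S₀ L : Subgroup M) : Subgroup (S₀ → M) where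
  carrier := {f | (∀ s t, f (s * t) = f s * f t) ∧
    (∀ k ∈ K, ∀ s s' : S₀, (s' : M) = k • (s : M) → f s' = k • f s) ∧ ∀ s, f s ∈ L}
  one_mem' := ⟨fun _ _ => (mul_one 1).symm, fun k _ _ _ _ => (smul_one k).symm, fun _ => L.one_mem⟩
  mul_mem' := by
    rintro f g ⟨f1, f2, f3⟩ ⟨g1, g2, g3⟩
    refine ⟨fun s t => ?_, fun k hk s s' h => ?_, fun s => L.mul_mem (f3 s) (g3 s)⟩
    · rw [Pi.mul_apply, Pi.mul_apply, Pi.mul_apply, f1, g1, mul_assoc, mul_assoc, ← mul_assoc (f t),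
        ← mul_assoc (g s), comm_of_sq sq (f t) (g s)]
    · rw [Pi.mul_apply, Pi.mul_apply, f2 k hk s s' h, g2 k hk s s' h, smul_mul']
  inv_mem' := by
    rintro f ⟨f1, f2, f3⟩
    refine ⟨fun s t => ?_, fun k hk s s' h => ?_, fun s => L.inv_mem (f3 s)⟩
    · rw [Pi.inv_apply, Pi.inv_apply, Pi.inv_apply, f1, mul_inv_rev, comm_of_sq sq]
    · rw [Pi.inv_apply, Pi.inv_apply, f2 k hk s s' h, smul_inv']

variable {sq : ∀ m : M, m * m = 1} {K : Set H} {S₀ L : Subgroup M}

theorem mem_HK {f : S₀ → M} : f ∈ HK sq K S₀ L ↔ (∀ s t, f (s * t) = f s * f t) ∧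
    (∀ k ∈ K, ∀ s s' : S₀, (s' : M) = k • (s : M) → f s' = k • f s) ∧ ∀ s, f s ∈ L := Iff.rfl

/-- the homomorphism -/
def toHom {f : S₀ → M} (hf : f ∈ HK sq K S₀ L) : S₀ →* M := MonoidHom.mk' f hf.1

theorem toHom_apply {f : S₀ → M} (hf : f ∈ HK sq K S₀ L) (s : S₀) : toHom hf s = f s := rfl

/-- nonzero homomorphisms are injective -/
theorem inj (inv : ∀ k ∈ K, ∀ s ∈ S₀, k • s ∈ S₀)
    (simple : ∀ W ≤ S₀, (∀ k ∈ K, ∀ w ∈ W, k • w ∈ W) → W = ⊥ ∨ W = S₀) {f : S₀ → M} (hf : f ∈ HK sq K S₀ L)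
    (h1 : f ≠ 1) : Function.Injective f := by
  have h0 : ∀ k ∈ K, ∀ w ∈ (toHom hf).ker.map S₀.subtype, k • w ∈ (toHom hf).ker.map S₀.subtype := by
    rintro k hk _ ⟨s, hs, rfl⟩
    refine ⟨⟨k • (s : M), inv k hk s s.2⟩, ?_, rfl⟩
    have h3 := hf.2.1 k hk s ⟨k • (s : M), inv k hk s s.2⟩ rfl
    have h4 : f s = 1 := hs
    rw [h4, smul_one] at h3
    exact h3
  have h2 : ((toHom hf).ker.map S₀.subtype) = ⊥ := by
    rcases simple ((toHom hf).ker.map S₀.subtype) (map_subtype_le _) h0 with h3 | h3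
    · exact h3
    · exfalso
      apply h1
      funext s
      have h4 : (s : M) ∈ (toHom hf).ker.map S₀.subtype := by rw [h3]; exact s.2
      obtain ⟨t, ht, hts⟩ := h4
      have h5 : t = s := Subtype.ext hts
      rw [← h5]
      exact ht
  have h3 : (toHom hf).ker = ⊥ := by
    rw [eq_bot_iff]
    intro s hs
    have h4 : (s : M) ∈ (toHom hf).ker.map S₀.subtype := ⟨s, hs, rfl⟩
    rw [h2, mem_bot] at h4
    exact mem_bot.2 (Subtype.ext h4)
  exact (MonoidHom.ker_eq_bot_iff _).1 h3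

theorem range_eq {f : S₀ → M} (hf : f ∈ HK sq K S₀ L) : closure (Set.range f) = (toHom hf).range := by
  have h1 : Set.range f = ((toHom hf).range : Set M) := rfl
  rw [h1, closure_eq]

theorem card_range (inv : ∀ k ∈ K, ∀ s ∈ S₀, k • s ∈ S₀)
    (simple : ∀ W ≤ S₀, (∀ k ∈ K, ∀ w ∈ W, k • w ∈ W) → W = ⊥ ∨ W = S₀) {f : S₀ → M} (hf : f ∈ HK sq K S₀ L)
    (h1 : f ≠ 1) : Nat.card (closure (Set.range f)) = Nat.card S₀ := by
  rw [range_eq hf]
  exact (Nat.card_congr (MonoidHom.ofInjective (f := toHom hf) (inj inv simple hf h1)).toEquiv).symm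

/-- a group of exponent 2, not trivial -/
theorem even_card {G : Type*} [Group G] [Finite G] (sq : ∀ g : G, g * g = 1) {g : G} (hg : g ≠ 1) :
    Even (Nat.card G) := by
  have h1 : orderOf g = 2 := orderOf_eq_prime (by rw [pow_two]; exact sq g) hg
  rw [even_iff_two_dvd, ← h1]
  exact orderOf_dvd_natCard g

open Classical in
/-- the nonzero homomorphisms: an odd number -/
theorem odd_ne_one [Finite M] {f : S₀ → M} (hf : f ∈ HK sq K S₀ L) (h1 : f ≠ 1) :
    Odd (Nat.card {g : S₀ → M // g ∈ HK sq K S₀ L ∧ g ≠ 1}) := by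
  have h2 : Even (Nat.card (HK sq K S₀ L)) := by
    refine even_card (g := ⟨f, hf⟩) (fun g => ?_) fun h => h1 (congrArg Subtype.val h)
    refine Subtype.ext (funext fun s => ?_)
    exact sq _
  have h3 : Nat.card {g : S₀ → M // g ∈ HK sq K S₀ L ∧ g ≠ 1} = Nat.card {g : HK sq K S₀ L // g ≠ 1} := by
    refine Nat.card_congr ⟨fun g => ⟨⟨g.1, g.2.1⟩, fun h => g.2.2 (congrArg Subtype.val h)⟩,
      fun g => ⟨g.1.1, g.1.2, fun h => g.2 (Subtype.ext h)⟩, fun _ => rfl, fun _ => rfl⟩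
  have := Fintype.ofFinite (HK sq K S₀ L)
  have h4 : Nat.card {g : HK sq K S₀ L // g ≠ 1} = Nat.card (HK sq K S₀ L) - 1 := by
    rw [Nat.card_eq_fintype_card, Nat.card_eq_fintype_card, Fintype.card_subtype_compl, Fintype.card_subtype_eq]
  rw [h3, h4]
  exact Nat.Even.sub_odd Nat.card_pos h2 odd_one

open Classical in
/-- **The parity lemma** -/
theorem odd_card [Finite M] (sq : ∀ m : M, m * m = 1) (K : Set H) {S₀ : Subgroup M} (ne : S₀ ≠ ⊥)
    (inv : ∀ k ∈ K, ∀ s ∈ S₀, k • s ∈ S₀)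
    (simple : ∀ W ≤ S₀, (∀ k ∈ K, ∀ w ∈ W, k • w ∈ W) → W = ⊥ ∨ W = S₀) :
    Odd (Nat.card {S : Subgroup M // ∃ f : S₀ →* M, Function.Injective f ∧
      (∀ k ∈ K, ∀ s s' : S₀, (s' : M) = k • (s : M) → f s' = k • f s) ∧ f.range = S}) := by
  have := Fintype.ofFinite (S₀ → M)
  let N : Finset (S₀ → M) := Finset.univ.filter fun f => f ∈ HK sq K S₀ ⊤ ∧ f ≠ 1
  let r : (S₀ → M) → Subgroup M := fun f => closure (Set.range f)
  have hmem : ∀ f : S₀ → M, f ∈ N ↔ f ∈ HK sq K S₀ ⊤ ∧ f ≠ 1 := fun f => by simp [N]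
  -- the inclusion
  have h1 : S₀.subtype.toFun ∈ N := by
    rw [hmem]
    refine ⟨⟨fun _ _ => rfl, fun k _ s s' h => h, fun _ => mem_top _⟩, fun h => ne ?_⟩
    rw [eq_bot_iff]
    intro s hs
    exact mem_bot.2 (congrFun h ⟨s, hs⟩)
  have hcard : ∀ (p : (S₀ → M) → Prop) [DecidablePred p], (Finset.univ.filter p).card = Nat.card {f // p f} :=
    fun p _ => by rw [Nat.card_eq_fintype_card, Fintype.card_subtype]
  have h2 : Odd N.card := by
    have h3 := odd_ne_one ((hmem _).1 h1).1 ((hmem _).1 h1).2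
    rwa [← hcard] at h3
  rw [Finset.card_eq_sum_card_image r N, Finset.odd_sum_iff_odd_card_odd] at h2
  have h3 : (N.image r).filter (fun b => Odd (N.filter fun a => r a = b).card) = N.image r := by
    rw [Finset.filter_eq_self]
    intro S hS
    obtain ⟨f, hf, hfS⟩ := Finset.mem_image.1 hS
    obtain ⟨hf1, hf2⟩ := (hmem f).1 hf
    have h4 : N.filter (fun a => r a = S) = Finset.univ.filter fun a => a ∈ HK sq K S₀ S ∧ a ≠ 1 := by
      ext a
      rw [Finset.mem_filter, hmem, Finset.mem_filter]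
      constructor
      · rintro ⟨⟨ha1, ha2⟩, ha3⟩
        refine ⟨Finset.mem_univ _, ⟨ha1.1, ha1.2.1, fun s => ?_⟩, ha2⟩
        rw [← ha3]
        exact subset_closure ⟨s, rfl⟩
      · rintro ⟨-, ha1, ha2⟩
        have ha3 : a ∈ HK sq K S₀ ⊤ := ⟨ha1.1, ha1.2.1, fun _ => mem_top _⟩
        refine ⟨⟨ha3, ha2⟩, ?_⟩
        refine eq_of_le_of_card_ge ((closure_le _).2 ?_) ?_
        · rintro _ ⟨s, rfl⟩
          exact ha1.2.2 s
        · rw [← hfS, card_range inv simple hf1 hf2]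
          exact (card_range inv simple ha3 ha2).ge
    rw [h4, hcard]
    refine odd_ne_one (f := f) ⟨hf1.1, hf1.2.1, fun s => ?_⟩ hf2
    rw [← hfS]
    exact subset_closure ⟨s, rfl⟩
  rw [h3] at h2
  have h5 : Nat.card {S : Subgroup M // ∃ f : S₀ →* M, Function.Injective f ∧
      (∀ k ∈ K, ∀ s s' : S₀, (s' : M) = k • (s : M) → f s' = k • f s) ∧ f.range = S} = (N.image r).card := by
    rw [← Fintype.card_coe, ← Nat.card_eq_fintype_card]
    refine Nat.card_congr (Equiv.subtypeEquivRight fun S => ?_)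
    rw [Finset.mem_image]
    constructor
    · rintro ⟨f, hf1, hf2, rfl⟩
      have hf : (f : S₀ → M) ∈ HK sq K S₀ ⊤ := ⟨fun s t => map_mul f s t, hf2, fun _ => mem_top _⟩
      refine ⟨f, (hmem _).2 ⟨hf, fun h => ne ?_⟩, ?_⟩
      · rw [eq_bot_iff]
        intro s hs
        have h6 : f ⟨s, hs⟩ = f 1 := by rw [map_one]; exact congrFun h ⟨s, hs⟩
        exact mem_bot.2 (congrArg Subtype.val (hf1 h6))
      · show closure (Set.range f) = f.range
        rw [← MonoidHom.coe_range, closure_eq]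
    · rintro ⟨f, hf, rfl⟩
      obtain ⟨hf1, hf2⟩ := (hmem f).1 hf
      exact ⟨toHom hf1, inj inv simple hf1 hf2, hf1.2.1, (range_eq hf1).symm⟩
  rw [h5]
  exact h2

end Cfsg.Agent.Omega.ML.Ex.IrrPar

end

end

-- merged: Cfsg.Agent.Mrg.Omega.TwoF.TitsInv
section

/-!
# The Tits group: the involutions of `5² : 4A₄` on modules (helper956)

`K ≅ ²F₄(2)′`, `E = ⟨a, b⟩ = 5²`, `t` of order 4, `e^t = e²` on `E`; `x 1` interchanges `a` and `b`, `x 2` has order 3 and
commutes with `t`.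

* `index_grp` : `2^24 ≤ |V : C_V(E)|` for every faithful action on an elementary abelian 2-group `V`;
* **`InvB K`** : two involutions `u₁` (commuting with an element of order 5), `u₂` (commuting with an element of order 3)
  with `|V : C_V(u_i)| ≥ 2^6` for every nontrivial `V`;
* `invB` : `InvB K` for `IsoTits K`.
-/

set_option autoImplicit false
set_option maxRecDepth 100000

namespace Cfsg.Agent.Omega.TwoF.TitsInv

open Subgroup Cfsg.Agent.Omega.TwoF.Orb Cfsg.Agent.Omega.TwoF.Scalar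
open Cfsg.Agent.ClassTwoFusion.Quad Cfsg.Agent.Omega.ML

universe u v w

section abs

variable {K : Type*} [Group K] {a b t : K}

/-- **`2^24 ≤ |V : C_V(E)|`** -/
theorem index_grp (h : Two a b) {x : Fin 6 → K} {n : Fin 6 → ℕ}
    (hn : ∀ k, n k % 5 ≠ 0) (hg : ∀ k, Good (grp h) t (x k))
    (ha : ∀ k, x k * a * (x k)⁻¹ = (a ^ px k * b ^ qx k) ^ n k) {V : Type*} [CommGroup V] [Finite V]
    (h2 : ∀ v : V, v ^ 2 = 1) (φ : K →* MulAut V) (hE : fx φ (grp h) ≠ ⊤) : 2 ^ 24 ≤ (fx φ (grp h)).index := by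
  have : Fact (Nat.Prime 5) := ⟨by norm_num⟩
  have : Fact (Nat.Prime 2) := ⟨Nat.prime_two⟩
  have hV : IsPGroup 2 V := fun x => ⟨1, by rw [pow_one]; exact h2 x⟩
  obtain ⟨H, hH, hi, hne⟩ := (elem_grp h).exists_hyperplane (ℓ := 2) (by norm_num) hV hE
  obtain ⟨g, hg1, hg2⟩ := points hn hg ha hH hi
  have h3 := (elem_grp h).pow_le_index (ℓ := 2) (by norm_num) hV hH hi hne g (fun i => (hg1 i).1) hg2
  rw [Fintype.card_fin, Nat.cast_ofNat, ord_two, ← pow_mul] at h3
  exact h3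

/-- the action of an abstract representation -/
theorem index_cv_eq {V : Type*} [CommGroup V] (φ : K →* MulAut V) (x : K) :
    letI : MulDistribMulAction K V := MulDistribMulAction.compHom V φ
    cv V ({x} : Set K) = fx φ (zpowers x) := by
  let _ : MulDistribMulAction K V := MulDistribMulAction.compHom V φ
  ext v
  rw [mem_cv_singleton, mem_fx]
  constructor
  · intro h1 y hy
    have h2 : zpowers x ≤ MulAction.stabilizer K v := by
      rw [zpowers_le]
      exact MulAction.mem_stabilizer_iff.2 h1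
    exact MulAction.mem_stabilizer_iff.1 (h2 hy)
  · intro h1
    exact h1 x (mem_zpowers x)

/-- **(INV)** for `fx` -/
theorem inv_fx {V : Type*} [CommGroup V] [Finite V] (φ : K →* MulAut V) {x w : K} {n : ℕ} (hx : x * x = 1)
    (hw : x * w * x⁻¹ = w⁻¹) (ho : Odd n) (hn : w ^ n = 1) :
    (fx φ (zpowers w)).index ≤ (fx φ (zpowers x)).index ^ 2 := by
  let _ : MulDistribMulAction K V := MulDistribMulAction.compHom V φ
  have h1 := InvFrob.inv_index (M := V) hx hw ho hn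
  rw [index_cv_eq φ w, index_cv_eq φ x] at h1
  exact h1

theorem conj_fx {V : Type*} [CommGroup V] [Finite V] (φ : K →* MulAut V) (g x : K) :
    (fx φ (zpowers (g * x * g⁻¹))).index = (fx φ (zpowers x)).index := by
  let _ : MulDistribMulAction K V := MulDistribMulAction.compHom V φ
  have h1 := InvFrob.index_cv_conj (M := V) g x
  rw [index_cv_eq φ (g * x * g⁻¹), index_cv_eq φ x] at h1
  exact h1

/-- `|V : C_V(E)| ≤ |V : C_V(a)| |V : C_V(b)|` -/
theorem index_grp_le (h : Two a b) {V : Type*} [CommGroup V] [Finite V] (φ : K →* MulAut V) :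
    (fx φ (grp h)).index ≤ (fx φ (zpowers a)).index * (fx φ (zpowers b)).index := by
  have h1 : fx φ (zpowers a) ⊓ fx φ (zpowers b) ≤ fx φ (grp h) := by
    rw [← fx_sup]
    refine fx_anti ?_
    rintro _ ⟨i, j, rfl⟩
    exact mul_mem (pow_mem (mem_sup_left (mem_zpowers a)) _) (pow_mem (mem_sup_right (mem_zpowers b)) _)
  calc (fx φ (grp h)).index ≤ (fx φ (zpowers a) ⊓ fx φ (zpowers b)).index :=
        Nat.le_of_dvd (Nat.pos_of_ne_zero Subgroup.FiniteIndex.index_ne_zero) (Subgroup.index_dvd_of_le h1)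
    _ ≤ _ := Subgroup.index_inf_le

end abs

/-- two involutions with large commutator spaces -/
def InvB (K : Type v) [Group K] : Prop :=
  ∃ u₁ u₂ : K, u₁ * u₁ = 1 ∧ u₂ * u₂ = 1 ∧ u₁ ≠ 1 ∧ u₂ ≠ 1 ∧ (∃ g : K, g ^ 5 = 1 ∧ g ≠ 1 ∧ g * u₁ = u₁ * g) ∧
    (∃ g : K, g ^ 3 = 1 ∧ g ≠ 1 ∧ g * u₂ = u₂ * g) ∧
    ∀ (V : Type w) [CommGroup V] [Finite V] (φ : K →* MulAut V), (∀ v : V, v ^ 2 = 1) → φ ≠ 1 →
      2 ^ 6 ≤ (fx φ (zpowers u₁)).index ∧ 2 ^ 6 ≤ (fx φ (zpowers u₂)).index

theorem InvB.equiv {K : Type u} {K' : Type v} [Group K] [Group K'] (e : K ≃* K') (h : InvB.{u, w} K) :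
    InvB.{v, w} K' := by
  obtain ⟨u₁, u₂, h1, h2, h3, h4, ⟨g, h5, h6, h7⟩, ⟨g', h8, h9, h10⟩, H⟩ := h
  refine ⟨e u₁, e u₂, by rw [← map_mul, h1, map_one], by rw [← map_mul, h2, map_one], ?_, ?_,
    ⟨e g, by rw [← map_pow, h5, map_one], ?_, by rw [← map_mul, h7, map_mul]⟩,
    ⟨e g', by rw [← map_pow, h8, map_one], ?_, by rw [← map_mul, h10, map_mul]⟩, ?_⟩
  · intro hc; exact h3 (e.injective (hc.trans (map_one e).symm))
  · intro hc; exact h4 (e.injective (hc.trans (map_one e).symm))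
  · intro hc; exact h6 (e.injective (hc.trans (map_one e).symm))
  · intro hc; exact h9 (e.injective (hc.trans (map_one e).symm))
  intro V _ _ φ hV hφ
  have h11 : φ.comp e.toMonoidHom ≠ 1 := by
    intro hc
    apply hφ
    ext k v
    have h12 := DFunLike.congr_fun hc (e.symm k)
    have h13 : φ (e (e.symm k)) = 1 := h12
    rw [e.apply_symm_apply] at h13
    rw [h13]
    rfl
  have h12 := H V (φ.comp e.toMonoidHom) hV h11
  have h13 : ∀ x : K, fx (φ.comp e.toMonoidHom) (zpowers x) = fx φ (zpowers (e x)) := by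
    intro x
    ext v
    rw [mem_fx, mem_fx]
    constructor
    · rintro h14 _ ⟨n, rfl⟩
      have h15 := h14 (x ^ n) ⟨n, rfl⟩
      have h16 : φ (e (x ^ n)) v = v := h15
      rw [map_zpow] at h16
      exact h16
    · rintro h14 _ ⟨n, rfl⟩
      have h15 := h14 (e x ^ n) ⟨n, rfl⟩
      show φ (e (x ^ n)) v = v
      rw [map_zpow]
      exact h15
  rw [h13, h13] at h12
  exact h12

open Cfsg.Agent.ChevalleyStructure.Tits.Pack Cfsg.Agent.ChevalleyStructure.Tits.Data
  Cfsg.Agent.ChevalleyStructure.Tits.Sat Cfsg.Agent.ChevalleyStructure.Tits.Final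
  Cfsg.Agent.ChevalleyStructure.Tits.Mat Cfsg.Agent.ChevalleyStructure.Tits.Order
  Cfsg.Agent.ChevalleyStructure.Tits.Main Cfsg.Agent.Omega.TwoF.Tits
open scoped MatrixGroups

theorem t4 : t ^ 4 = 1 := by
  apply Subtype.ext
  have h : ((t ^ 4 : C) : H0) = wH (List.replicate 4 wt).flatten := by rw [wH_rep]; rfl
  rw [h]
  exact rel (v := []) (by decide +kernel)

theorem x1_sq : x 1 * x 1 = 1 := by
  apply Subtype.ext
  show wH (wx 1) * wH (wx 1) = _
  rw [← wH_append]
  exact rel (v := []) (by decide +kernel)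

theorem x2_cube : x 2 ^ 3 = 1 := by
  apply Subtype.ext
  have h : ((x 2 ^ 3 : C) : H0) = wH (List.replicate 3 (wx 2)).flatten := by rw [wH_rep]; rfl
  rw [h]
  exact rel (v := []) (by decide +kernel)

theorem x1_a : x 1 * a * (x 1)⁻¹ = b := by
  rw [x_a]
  show a ^ 0 * b ^ 1 = b
  rw [pow_zero, one_mul, pow_one]

theorem x1_b : x 1 * b * (x 1)⁻¹ = a := by
  rw [x_b]
  show a ^ 1 * b ^ 0 = a
  rw [pow_zero, mul_one, pow_one]

theorem x2_t : x 2 * t = t * x 2 := by
  have h := x_t 2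
  have h1 : pe 2 = 0 := rfl
  rw [h1, pow_zero, pow_zero, mul_one, mul_one] at h
  rw [mul_assoc, inv_mul_eq_iff_eq_mul] at h
  exact h.symm

theorem x2_ne : x 2 ≠ 1 := by
  intro h
  have h1 := x_a 2
  rw [h, one_mul, inv_one, mul_one] at h1
  have h2 : a ^ 1 * b ^ 0 = a ^ 1 * b ^ 1 := by
    rw [pow_one, pow_zero, mul_one, pow_one]
    exact h1.trans (by show a ^ 1 * b ^ 1 = a * b; rw [pow_one, pow_one])
  have h3 := (two.eq_iff 1 0 1 1).1 h2
  omega

theorem a_ne : a ≠ 1 := a1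

theorem inv_of_pow {w : C} (h5 : w ^ 5 = 1) : w ^ 4 = w⁻¹ := by
  rw [eq_inv_iff_mul_eq_one, ← pow_succ]
  exact h5

theorem tt_a : (t * t) * a * (t * t)⁻¹ = a⁻¹ := by
  have h1 : (t * t) * a * (t * t)⁻¹ = t * (t * a * t⁻¹) * t⁻¹ := by group
  have h2 : t * a ^ 2 * t⁻¹ = (t * a * t⁻¹) ^ 2 := by rw [conj_pow]
  rw [h1, ta, h2, ta, ← pow_mul]
  exact inv_of_pow a5

theorem tt_b : (t * t) * b * (t * t)⁻¹ = b⁻¹ := by
  have h1 : (t * t) * b * (t * t)⁻¹ = t * (t * b * t⁻¹) * t⁻¹ := by group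
  have h2 : t * b ^ 2 * t⁻¹ = (t * b * t⁻¹) ^ 2 := by rw [conj_pow]
  rw [h1, tb, h2, tb, ← pow_mul]
  exact inv_of_pow b5

theorem tt_sq : (t * t) * (t * t) = 1 := by
  calc (t * t) * (t * t) = t ^ 2 * t ^ 2 := by rw [pow_two]
    _ = t ^ (2 + 2) := (pow_add t 2 2).symm
    _ = 1 := t4

theorem tt_ne : t * t ≠ 1 := by
  intro h
  have h1 := tt_a
  rw [h, one_mul, inv_one, mul_one] at h1
  have h2 : a ^ 2 * b ^ 0 = a ^ 0 * b ^ 0 := by
    rw [pow_zero, mul_one, pow_zero, mul_one, pow_two]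
    nth_rewrite 1 [h1]
    rw [inv_mul_cancel]
  have h3 := (two.eq_iff 2 0 0 0).1 h2
  omega

theorem x1_ne : x 1 ≠ 1 := by
  intro h
  have h1 := x1_a
  rw [h, one_mul, inv_one, mul_one] at h1
  exact b1 (h1 ▸ mem_zpowers _)

theorem x1_c : x 1 * (a * b) = (a * b) * x 1 := by
  have h1 : x 1 * (a * b) * (x 1)⁻¹ = (x 1 * a * (x 1)⁻¹) * (x 1 * b * (x 1)⁻¹) := by group
  rw [x1_a, x1_b, ← comm_ab] at h1
  rwa [mul_inv_eq_iff_eq_mul] at h1

theorem ab_ne : a * b ≠ 1 := by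
  intro h
  have h2 : a ^ 1 * b ^ 1 = a ^ 0 * b ^ 0 := by rw [pow_one, pow_one, pow_zero, pow_zero, mul_one, h]
  have h3 := (two.eq_iff 1 1 0 0).1 h2
  omega

theorem ab_pow : (a * b) ^ 5 = 1 := by
  have h1 := (elem_grp two).pow (a ^ 1 * b ^ 1) ⟨1, 1, rfl⟩
  rwa [pow_one, pow_one] at h1

/-- `x 1` inverts `a b⁻¹ = x 5 a (x 5)⁻¹` -/
theorem x1_inv : x 1 * (x 5 * a * (x 5)⁻¹) * (x 1)⁻¹ = (x 5 * a * (x 5)⁻¹)⁻¹ := by
  have h1 : x 5 * a * (x 5)⁻¹ = a * b⁻¹ := by
    rw [x_a]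
    show a ^ 1 * b ^ 4 = a * b⁻¹
    rw [pow_one, inv_of_pow b5]
  have h2 : x 1 * (a * b⁻¹) * (x 1)⁻¹ = (x 1 * a * (x 1)⁻¹) * (x 1 * b * (x 1)⁻¹)⁻¹ := by group
  rw [h1, h2, x1_a, x1_b]
  group

theorem invB_C : InvB.{0, w} C := by
  have hsim : IsSimpleGroup C := H0_result.2.1
  refine ⟨x 1, t * t, x1_sq, tt_sq, x1_ne, tt_ne, ⟨a * b, ab_pow, ab_ne, x1_c.symm⟩,
    ⟨x 2, x2_cube, x2_ne, ?_⟩, ?_⟩
  · rw [← mul_assoc, x2_t, mul_assoc, x2_t, mul_assoc]
  intro V _ _ φ hV hφ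
  have hker : φ.ker = ⊥ := by
    rcases hsim.eq_bot_or_eq_top_of_normal φ.ker inferInstance with h1 | h1
    · exact h1
    · exfalso
      apply hφ
      ext k v
      have h2 : k ∈ φ.ker := h1 ▸ mem_top k
      rw [MonoidHom.mem_ker.1 h2]
      rfl
  have hE : fx φ (grp two) ≠ ⊤ := by
    intro htop
    apply a_ne
    have h1 : a ∈ φ.ker := by
      rw [MonoidHom.mem_ker]
      ext v
      have h2 : v ∈ fx φ (grp two) := htop ▸ mem_top v
      have h3 := mem_fx.1 h2 a ⟨1, 0, by rw [pow_one, pow_zero, mul_one]⟩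
      rw [h3]
      rfl
    rw [hker] at h1
    exact mem_bot.1 h1
  have h24 := index_grp two (n := fun _ => 1) (fun _ => by decide) good (fun k => by rw [pow_one]; exact x_a k) hV φ hE
  have hle := h24.trans (index_grp_le two φ)
  have hodd : Odd 5 := by decide
  -- `b` is a conjugate of `a`
  have hb : (fx φ (zpowers b)).index = (fx φ (zpowers a)).index := by
    rw [← x1_a]
    exact conj_fx φ (x 1) a
  rw [hb] at hle
  have key : ∀ n : ℕ, (fx φ (zpowers a)).index ≤ n ^ 2 → 2 ^ 6 ≤ n := by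
    intro n hn
    by_contra hc
    push Not at hc
    have h1 : n ^ 2 < (2 ^ 6) ^ 2 := Nat.pow_lt_pow_left hc (by norm_num)
    have h2 : (fx φ (zpowers a)).index < 2 ^ 12 := by
      refine lt_of_le_of_lt hn (lt_of_lt_of_eq h1 (by norm_num))
    have h3 : (fx φ (zpowers a)).index * (fx φ (zpowers a)).index < 2 ^ 12 * 2 ^ 12 :=
      Nat.mul_lt_mul'' h2 h2
    have h4 : (2 : ℕ) ^ 12 * 2 ^ 12 = 2 ^ 24 := by norm_num
    omega
  constructor
  · apply key
    have h1 := inv_fx φ x1_sq x1_inv hodd (by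
      rw [conj_pow, a5, mul_one, mul_inv_cancel])
    rwa [conj_fx] at h1
  · exact key _ (inv_fx φ tt_sq tt_a hodd a5)

theorem invB_aux (T : Subgroup (GL I52 (ZMod 2))) (hT : T = H0) : InvB.{0, w} (commutator T) := by
  subst hT
  exact invB_C

theorem invB_of {G : Type*} {K : Type v} [Group G] [Group K] (T : Subgroup G) (h : InvB.{_, w} (commutator T))
    (e : K ≃* commutator T) : InvB.{v, w} K := h.equiv e.symm

/-- **the Tits group** -/
theorem invB {K : Type v} [Group K] (h : Cfsg.Lie.IsoTits K) : InvB.{v, w} K := by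
  obtain ⟨T, hT, ⟨e⟩⟩ := TitsAut.exists_equiv h
  exact invB_of T (invB_aux T hT) e

end Cfsg.Agent.Omega.TwoF.TitsInv

end

-- merged: Cfsg.Agent.Mrg.Omega.ML.Ex.RowTitsX
section

section


/-!
# Exact and low configurations: the row of the Tits group (helper956)

`|A| ≤ 2^5`, both classes of involutions `x` of `K` invert elements of `5²` and satisfy `|M : C_M(x)| ≥ 2^6`.
Neither `low` nor `nmax` nor `atom` is used.
-/

set_option autoImplicit false

namespace Cfsg.Agent.Omega.ML.Ex.RowTitsX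

open Subgroup Cfsg Cfsg.Agent.ZN Cfsg.Agent.TitsK Cfsg.Agent.Omega.TwoF Cfsg.Agent.Omega.ML.Rows
open Cfsg.Agent.Omega.TwoF.Orb Cfsg.Agent.TitsK.Abs
open Cfsg.Agent.ClassTwoFusion.Quad

universe u v w

/-- the abstract core: every involution of `H` is conjugate to `u₁` or `u₂` -/
theorem exists_conj {H : Type u} [Group H] {K : Subgroup H} {G : Type v} [Group G] [Finite G] (D : TData G)
    (three : ∀ g ∈ D.H, g ^ 3 = 1 → g * D.z * g⁻¹ = D.z → g = 1)
    (five : ∀ g ∈ D.H, g ^ 5 = 1 → g * D.d * g⁻¹ = D.d → g = 1)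
    {φ : H →* G} (hφ : Function.Injective φ) (hT : ∀ t ∈ D.T, ∃ k ∈ K, φ k = t) (hK : ∀ k ∈ K, φ k ∈ D.T)
    (hH : ∀ x, φ x ∈ D.H) {u₁ u₂ : H} (hu₁ : u₁ ∈ K) (hu₂ : u₂ ∈ K) (h1 : u₁ * u₁ = 1) (h2 : u₂ * u₂ = 1)
    (h3 : u₁ ≠ 1) (h4 : u₂ ≠ 1) (h5 : ∃ g ∈ K, g ^ 5 = 1 ∧ g ≠ 1 ∧ g * u₁ = u₁ * g)
    (h6 : ∃ g ∈ K, g ^ 3 = 1 ∧ g ≠ 1 ∧ g * u₂ = u₂ * g) {x : H} (hx : x * x = 1) (hx1 : x ≠ 1) :
    ∃ g : H, x = g * u₁ * g⁻¹ ∨ x = g * u₂ * g⁻¹ := by
  have hone : ∀ {y : H}, y ≠ 1 → φ y ≠ 1 := fun {y} hy h => hy (hφ (h.trans (map_one φ).symm))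
  -- `φ x ∈ T`
  have hxT : φ x ∈ D.T := by
    have hp : IsPGroup 2 ↥(zpowers (φ x)) := by
      have h7 : (φ x) ^ 2 = 1 := by rw [pow_two, ← map_mul, hx, map_one]
      have : Fact (Nat.Prime 2) := ⟨Nat.prime_two⟩
      have ho : orderOf (φ x) = 2 := orderOf_eq_prime h7 (hone hx1)
      exact IsPGroup.of_card (n := 1) (by rw [Nat.card_zpowers, ho, pow_one])
    obtain ⟨g, hg, h⟩ := exists_conj_sub D.U_le D.isPGroup_U D.odd_U
      (zpowers_le.2 (hH x) : zpowers (φ x) ≤ D.H) hp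
    have h7 := h (φ x) (mem_zpowers _)
    have h8 : g * φ x * g⁻¹ * (g * φ x * g⁻¹) = 1 := by
      have e : g * φ x * g⁻¹ * (g * φ x * g⁻¹) = g * (φ x * φ x) * g⁻¹ := by group
      rw [e, ← map_mul, hx, map_one]
      group
    have h9 := D.no_outer _ h7 h8
    have h10 := D.T_conj g⁻¹ (inv_mem hg) _ h9
    have e : g⁻¹ * (g * φ x * g⁻¹) * g⁻¹⁻¹ = φ x := by group
    rwa [e] at h10
  have hsq : ∀ {y : H}, y * y = 1 → φ y * φ y = 1 := fun {y} hy => by rw [← map_mul, hy, map_one]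
  -- `u₁ ~ z`
  have hz : ∃ t ∈ D.T, t * φ u₁ * t⁻¹ = D.z := by
    rcases D.invol_cases (hK _ hu₁) (hsq h1) (hone h3) with h | ⟨t, ht, h⟩
    · exact h
    · exfalso
      obtain ⟨g, -, hg5, hg1, hgu⟩ := h5
      have h7 := five (t * φ g * t⁻¹) (D.H.mul_mem (D.H.mul_mem (D.T_le ht) (hH g)) (D.H.inv_mem (D.T_le ht)))
        (by rw [conj_pow, ← map_pow, hg5, map_one]; group) (by
          rw [← h]
          have e1 : φ g * φ u₁ = φ u₁ * φ g := by rw [← map_mul, hgu, map_mul]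
          calc t * φ g * t⁻¹ * (t * φ u₁ * t⁻¹) * (t * φ g * t⁻¹)⁻¹ = t * (φ g * φ u₁) * (φ g)⁻¹ * t⁻¹ := by group
            _ = t * φ u₁ * t⁻¹ := by rw [e1]; group)
      apply hone hg1
      have e : φ g = t⁻¹ * (t * φ g * t⁻¹) * t := by group
      rw [e, h7]
      group
  -- `u₂ ~ d`
  have hd : ∃ t ∈ D.T, t * φ u₂ * t⁻¹ = D.d := by
    rcases D.invol_cases (hK _ hu₂) (hsq h2) (hone h4) with ⟨t, ht, h⟩ | h
    · exfalso
      obtain ⟨g, -, hg5, hg1, hgu⟩ := h6
      have h7 := three (t * φ g * t⁻¹) (D.H.mul_mem (D.H.mul_mem (D.T_le ht) (hH g)) (D.H.inv_mem (D.T_le ht)))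
        (by rw [conj_pow, ← map_pow, hg5, map_one]; group) (by
          rw [← h]
          have e1 : φ g * φ u₂ = φ u₂ * φ g := by rw [← map_mul, hgu, map_mul]
          calc t * φ g * t⁻¹ * (t * φ u₂ * t⁻¹) * (t * φ g * t⁻¹)⁻¹ = t * (φ g * φ u₂) * (φ g)⁻¹ * t⁻¹ := by group
            _ = t * φ u₂ * t⁻¹ := by rw [e1]; group)
      apply hone hg1
      have e : φ g = t⁻¹ * (t * φ g * t⁻¹) * t := by group
      rw [e, h7]
      group
    · exact h
  have key : ∀ {u : H} {y : G}, (∃ t ∈ D.T, t * φ u * t⁻¹ = y) → (∃ t ∈ D.T, t * φ x * t⁻¹ = y) →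
      ∃ g : H, x = g * u * g⁻¹ := by
    rintro u y ⟨t, ht, h7⟩ ⟨s, hs, h8⟩
    obtain ⟨k, -, hk⟩ := hT _ (D.T.mul_mem (D.T.inv_mem hs) ht)
    refine ⟨k, hφ ?_⟩
    rw [map_mul, map_mul, map_inv, hk]
    have e : φ x = s⁻¹ * (s * φ x * s⁻¹) * s := by group
    rw [e, h8, ← h7]
    group
  rcases D.invol_cases hxT (hsq hx) (hone hx1) with h | h
  · obtain ⟨g, hg⟩ := key hz h
    exact ⟨g, Or.inl hg⟩
  · obtain ⟨g, hg⟩ := key hd h
    exact ⟨g, Or.inr hg⟩

/-- **The row of the Tits group.** -/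
theorem deadX : DeadX.{u, v} @Lie.IsoTits := by
  intro H _ _ M _ _ _ K T A h hS
  have hn := h.norm
  have hsim := h.simple
  have hA : Nat.card A ≤ 2 ^ 5 := h.asx.card_le_of_rk (RowTool.toRK (TitsAut.center_iso hS) (rk_five hS))
  -- the two involutions
  obtain ⟨u₁, u₂, h1, h2, h3, h4, ⟨g₅, h5, h6, h7⟩, ⟨g₃, h8, h9, h10⟩, hB⟩ := TitsInv.invB.{u, v} hS
  -- the action
  let _ : CommGroup M := { ‹Group M› with mul_comm := h.comm }
  let φ : K →* MulAut M := (MulDistribMulAction.toMulAut H M).comp K.subtype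
  have hφ : φ ≠ 1 := by
    intro hc
    obtain ⟨x, hx⟩ := exists_ne (1 : K)
    refine hx (Subtype.ext (h.faith x fun m => ?_))
    exact congrArg (fun e : MulAut M => e m) (DFunLike.congr_fun hc x)
  obtain ⟨hb1, hb2⟩ := hB M φ (fun m => by rw [pow_two]; exact h.sq m) hφ
  have hfx : ∀ x : K, fx φ (zpowers x) = cv M ({(x : H)} : Set H) := by
    intro x
    ext m
    rw [mem_fx, mem_cv_singleton]
    constructor
    · intro hm
      exact hm x (mem_zpowers x)
    · intro hm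
      have hz : zpowers (x : H) ≤ MulAction.stabilizer H m := by
        rw [zpowers_le]
        exact MulAction.mem_stabilizer_iff.2 hm
      rintro _ ⟨n, rfl⟩
      show ((x ^ n : K) : H) • m = m
      have h11 : ((x ^ n : K) : H) ∈ zpowers (x : H) := ⟨n, rfl⟩
      exact MulAction.mem_stabilizer_iff.1 (hz h11)
  rw [hfx] at hb1 hb2
  -- an involution of `A`
  obtain ⟨x, hxA, hx1⟩ : ∃ x ∈ A, x ≠ 1 := by
    by_contra hc
    push Not at hc
    exact h.A_ne_bot ((eq_bot_iff_forall _).2 hc)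
  -- the embedding
  obtain ⟨e⟩ := hS
  obtain ⟨e'⟩ := TitsK.exists_equiv
  have e₀ : ↥K ≃* ↥(tdata.T) := e.trans e'
  obtain ⟨ψ, hψ1, hψ2, hψ3⟩ := RowTits.exists_embed tdata hn e₀ h.cen
  obtain ⟨g, hg⟩ := exists_conj (K := K) tdata (fun g hg h3 hz => three_z hg h3 hz) (fun g hg h5 hd => five_d hg h5 hd)
    hψ1 (fun t ht => ⟨e₀.symm ⟨t, ht⟩, (e₀.symm ⟨t, ht⟩).2, by rw [hψ2, e₀.apply_symm_apply]⟩)
    (fun k hk => by rw [hψ2 ⟨k, hk⟩]; exact (e₀ ⟨k, hk⟩).2) hψ3 (u₁ := (u₁ : H)) (u₂ := (u₂ : H)) u₁.2 u₂.2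
    (by rw [← coe_mul, h1, coe_one]) (by rw [← coe_mul, h2, coe_one])
    (fun hc => h3 (Subtype.ext hc)) (fun hc => h4 (Subtype.ext hc))
    ⟨g₅, g₅.2, by rw [← coe_pow, h5, coe_one], fun hc => h6 (Subtype.ext hc), by rw [← coe_mul, h7, coe_mul]⟩
    ⟨g₃, g₃.2, by rw [← coe_pow, h8, coe_one], fun hc => h9 (Subtype.ext hc), by rw [← coe_mul, h10, coe_mul]⟩
    (h.el x hxA) hx1
  have hle : (cv M ({x} : Set H)).index ≤ 2 ^ 5 := (Gen.index_le_card h hxA).trans hA
  have hge : 2 ^ 6 ≤ (cv M ({x} : Set H)).index := by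
    rcases hg with hg | hg
    · rw [hg, InvFrob.index_cv_conj]
      exact hb1
    · rw [hg, InvFrob.index_cv_conj]
      exact hb2
  omega

end Cfsg.Agent.Omega.ML.Ex.RowTitsX

end

section


/-!
# The K-list for EXACT subgroups: the row `L₂(q)`, `q` odd (helper786)

* `exists_central` : an involution `t ∈ K ∩ Z(T)`;
* `card_le_four_of` : `q` a square: an elementary abelian subgroup of `O₂(C_X(t))` has order at most 4;
* `card_le_four` : the same for all `q ≠ 9` for elementary abelian groups containing `t`;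
* `exists_mem` : in `InX H M K T A` with `K ≅ L₂(q)`: `|A| = 4`, and `A ∩ K` contains an involution;
* **`deadX`** : `DeadX` for `L₂(q)`, `q` odd, `q ≠ 9`, not of Lie type in characteristic 2.
-/

set_option autoImplicit false
set_option linter.unusedSectionVars false
set_option linter.unusedSimpArgs false

namespace Cfsg.Agent.Omega.ML.Ex.RowLTwoX

open Subgroup Cfsg Matrix Cfsg.Agent.GH.L2Aut Cfsg.Agent.Lib.SL2Mat Cfsg.Agent.Omega.ML
  Cfsg.Agent.ClassTwoFusion.Quad
open Cfsg.Agent.MinSimple.VModule (o2_isPGroup o2_le le_o2 le_normalizer_o2)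
open Cfsg.Agent.ZN (o2)

universe u v

/-- an involution of `S ∩ Z(T)` -/
theorem exists_central {X : Type*} [Group X] [Finite X] {S T A : Subgroup X} (h : ASx S T A)
    (hev : 2 ∣ Nat.card S) : ∃ t : X, t ∈ T ∧ t ∈ S ∧ (∀ x ∈ T, x * t = t * x) ∧ t * t = 1 ∧ t ≠ 1 := by
  have hS := h.norm
  have : Fact (Nat.Prime 2) := ⟨Nat.prime_two⟩
  have hTS : (T ⊓ S : Subgroup X) ≠ ⊥ := by
    intro h0
    have h1 := SignalizersComponents.PCompCore.relIndex_dvd_index_of_normal_right T S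
    rw [← inf_relIndex_right, h0, relIndex_bot_left] at h1
    exact h.syl (hev.trans h1)
  have hn : ((T ⊓ S).subgroupOf T).Normal := by
    rw [inf_subgroupOf_left]
    exact hS.subgroupOf T
  have hne : (T ⊓ S).subgroupOf T ≠ ⊥ := by
    intro h0
    apply hTS
    rw [← map_subgroupOf_eq_of_le (inf_le_left : T ⊓ S ≤ T), h0, Subgroup.map_bot]
  obtain ⟨t', ht'⟩ : ∃ t' : X, t' ∈ T ⊓ S ∧ (∀ x ∈ T, x * t' = t' * x) ∧ t' ≠ 1 := by
    obtain ⟨v, hv1, hv2, hv3⟩ := GTwoFour.Tools.exists_mem_center_of_normal h.two _ hne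
    refine ⟨v, hv1, fun x hx => ?_, fun h0 => hv3 (Subtype.ext h0)⟩
    exact congrArg Subtype.val (mem_center_iff.1 hv2 ⟨x, hx⟩)
  obtain ⟨ht1, ht2, ht3⟩ := ht'
  obtain ⟨k, hk⟩ := h.two ⟨t', ht1.1⟩
  have hk' : t' ^ 2 ^ k = 1 := congrArg Subtype.val hk
  have hord : 2 ∣ orderOf t' := by
    obtain ⟨j, -, hj⟩ := (Nat.dvd_prime_pow Nat.prime_two).1 (orderOf_dvd_of_pow_eq_one hk')
    rcases Nat.eq_zero_or_pos j with rfl | hj0
    · rw [pow_zero, orderOf_eq_one_iff] at hj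
      exact absurd hj ht3
    · rw [hj]; exact dvd_pow_self 2 hj0.ne'
  obtain ⟨m, hm⟩ := hord
  have hpos : 0 < orderOf t' := orderOf_pos t'
  refine ⟨t' ^ m, pow_mem ht1.1 m, pow_mem ht1.2 m, fun x hx => ?_, ?_, ?_⟩
  · exact (show Commute x t' from ht2 x hx).pow_right m
  · rw [← pow_add, ← two_mul, ← hm, pow_orderOf_eq_one]
  · intro h0
    have := Nat.le_of_dvd (by omega) (orderOf_dvd_of_pow_eq_one h0)
    omega

theorem centralizer_ne_top {X : Type*} [Group X] {S : Subgroup X} (hcen : centralizer (S : Set X) = ⊥) {t : X}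
    (ht1 : t ≠ 1) : centralizer ({t} : Set X) ≠ ⊤ := by
  intro h0
  apply ht1
  have h1 : t ∈ centralizer (S : Set X) := by
    rw [mem_centralizer_iff]
    intro y _
    have : y ∈ centralizer ({t} : Set X) := by rw [h0]; exact mem_top y
    exact mem_centralizer_singleton_iff.1 this
  rwa [hcen, mem_bot] at h1

/-- **`S ≅ PSL₂(F)`, `-1` a square, `r` an odd divisor of `|F| - 1`** -/
theorem card_le_four_of {X : Type*} [Group X] [Finite X] {S A : Subgroup X} (hS : S.Normal)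
    (hcen : centralizer (S : Set X) = ⊥) {F : Type*} [Field F] [Finite F] (R : GH.L2Aut.Rep F S) {i : Fˣ}
    (hi : (i : F) * i = -1) {z : Fˣ} {r : ℕ} (hr : Odd r) (hzr : z ^ r = 1) (hz : z ≠ 1) {t : X} (htS : t ∈ S)
    (htt : t * t = 1) (ht1' : t ≠ 1) (hAR : A ≤ o2 (centralizer ({t} : Set X))) (hel : ∀ a ∈ A, a * a = 1) :
    Nat.card A ≤ 4 := by
  obtain ⟨g, hg⟩ := R.inv_conj (RowLTwoOdd.pi_dg_sq R hi) (RowLTwoOdd.pi_dg_ne R hi) (t := (⟨t, htS⟩ : S))
    (Subtype.ext htt) (fun h0 => ht1' (congrArg Subtype.val h0))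
  let R' : GH.L2Aut.Rep F S := RowLTwoOdd.conjRep R g
  have hRt : R'.π (RowLTwoOdd.dg i) = (⟨t, htS⟩ : S) := by
    change g * R.π (RowLTwoOdd.dg i) * g⁻¹ = _
    exact hg
  set Q := o2 (centralizer ({t} : Set X)) with hQ
  set c : S := R'.π (RowLTwoOdd.dg z) with hc
  have hct : (c : X) * t = t * c := by
    have h1 := RowLTwoOdd.pi_dg_comm R' z i
    rw [hRt] at h1
    exact congrArg Subtype.val h1
  have hcR : (c : X) ∈ centralizer ({t} : Set X) := mem_centralizer_singleton_iff.2 hct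
  have hcr : c ^ r = 1 := by rw [hc, ← map_pow, RowLTwoOdd.dg_pow, hzr, RowLTwoOdd.dg_one, map_one]
  -- `A` centralises `c`
  have hAc : ∀ a ∈ A, a * (c : X) * a⁻¹ = c := by
    intro a ha
    have haQ : a ∈ Q := hAR ha
    have haR : a ∈ centralizer ({t} : Set X) := o2_le _ haQ
    let k : S := ⟨a * (c : X) * a⁻¹, hS.conj_mem _ c.2 a⟩
    have hkt : k * R'.π (RowLTwoOdd.dg i) = R'.π (RowLTwoOdd.dg i) * k := by
      rw [hRt]
      apply Subtype.ext
      change a * (c : X) * a⁻¹ * t = t * (a * (c : X) * a⁻¹)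
      have h1 : a * t = t * a := mem_centralizer_singleton_iff.1 haR
      have h2 : a⁻¹ * t = t * a⁻¹ := by
        rw [inv_mul_eq_iff_eq_mul, ← mul_assoc, h1, mul_inv_cancel_right]
      calc a * (c : X) * a⁻¹ * t = a * (c : X) * (a⁻¹ * t) := by group
        _ = a * ((c : X) * t) * a⁻¹ := by rw [h2]; group
        _ = a * t * (c : X) * a⁻¹ := by rw [hct]; group
        _ = t * (a * (c : X) * a⁻¹) := by rw [h1]; group
    have hkr : k ^ r = 1 := by
      apply Subtype.ext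
      change (a * (c : X) * a⁻¹) ^ r = 1
      rw [conj_pow]
      have : (c : X) ^ r = 1 := congrArg Subtype.val hcr
      rw [this, mul_one, mul_inv_cancel]
    obtain ⟨μ, hμ⟩ := RowLTwoOdd.exists_dg R' hi hkt hr hkr
    have hkc : Commute k c := by
      rw [hμ]
      exact RowLTwoOdd.pi_dg_comm R' μ z
    have h1 : (k * c⁻¹) ^ r = 1 := by
      rw [(hkc.inv_right).mul_pow, hkr, inv_pow, hcr, inv_one, one_mul]
    have h2 : ((k * c⁻¹ : S) : X) ∈ Q := by
      have h3 : ((k * c⁻¹ : S) : X) = a * ((c : X) * a⁻¹ * (c : X)⁻¹) := by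
        change a * (c : X) * a⁻¹ * (c : X)⁻¹ = _
        group
      rw [h3]
      exact mul_mem haQ ((mem_normalizer_iff.1 (le_normalizer_o2 _ hcR) _).1 (inv_mem haQ))
    obtain ⟨m, hm⟩ := o2_isPGroup (centralizer ({t} : Set X)) ⟨_, h2⟩
    have hm' : ((k * c⁻¹ : S) : X) ^ 2 ^ m = 1 := congrArg Subtype.val hm
    have h4 : ((k * c⁻¹ : S) : X) ^ r = 1 := congrArg Subtype.val h1
    have h5 : orderOf ((k * c⁻¹ : S) : X) ∣ Nat.gcd (2 ^ m) r :=
      Nat.dvd_gcd (orderOf_dvd_of_pow_eq_one hm') (orderOf_dvd_of_pow_eq_one h4)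
    have h6 : Nat.gcd (2 ^ m) r = 1 := by
      apply Nat.Coprime.pow_left
      rw [Nat.coprime_two_left]
      exact hr
    rw [h6, Nat.dvd_one, orderOf_eq_one_iff] at h5
    have h7 : a * (c : X) * a⁻¹ * (c : X)⁻¹ = 1 := h5
    rwa [mul_inv_eq_one] at h7
  -- the action on `S`
  let f : X →* MulAut S := MulAut.conjNormal
  have hfi : Function.Injective f := by
    rw [injective_iff_map_eq_one]
    intro x hx
    have h2 : x ∈ centralizer (S : Set X) := by
      rw [mem_centralizer_iff]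
      intro y hy
      have h3 := congrArg (fun φ : MulAut S => ((φ ⟨y, hy⟩ : S) : X)) hx
      have h4 : x * y * x⁻¹ = y := h3
      calc y * x = (x * y * x⁻¹) * x := by rw [h4]
        _ = x * y := by group
    rw [hcen, mem_bot] at h2
    exact h2
  rw [← card_map_of_injective hfi]
  refine RowLTwoOdd.card_le_four R' hr hzr hz (A.map f) ?_ ?_
  · rintro _ ⟨x, hx, rfl⟩
    rw [← map_mul, hel x hx, map_one]
  · rintro _ ⟨x, hx, rfl⟩
    exact Subtype.ext (hAc x hx)


/-- **`S ≅ L₂(q)`, `q` odd, `q ≠ 9`** -/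
theorem card_le_four {X : Type*} [Group X] [Finite X] {S A : Subgroup X} (hS : S.Normal)
    (hcen : centralizer (S : Set X) = ⊥) {F : Type*} [Field F] [Fintype F] (hodd : Odd (Fintype.card F))
    (h3 : 3 < Fintype.card F) (h9 : Fintype.card F ≠ 9) (e : S ≃* Matrix.ProjectiveSpecialLinearGroup (Fin 2) F)
    {t : X} (htS : t ∈ S) (htt : t * t = 1) (ht1 : t ≠ 1) (hA : A ≤ o2 (centralizer ({t} : Set X)))
    (hel : ∀ a ∈ A, a * a = 1) : Nat.card A ≤ 4 := by
  have h2 : (2 : F) ≠ 0 := two_ne_zero_of_odd hodd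
  by_cases hF : ∀ σ : F ≃+* F, σ * σ = 1 → σ = 1
  · exact (TwoF.RkPSL.rkAut_two_odd h2 hF).of_normal e hcen A hel
  · push Not at hF
    obtain ⟨σ, hσ, hσ1⟩ := hF
    have hs : ∀ x, σ (σ x) = x := fun x => DFunLike.congr_fun hσ x
    have hcard := HKS.PGammaInv.card_sq h2 hs hσ1
    set q := Nat.card (HKS.PGammaInv.fixF σ) with hq
    have hqodd : Odd q := by
      by_contra hcon
      rw [Nat.not_odd_iff_even] at hcon
      rw [hcard] at hodd
      exact (Nat.not_even_iff_odd.2 hodd) (Nat.even_pow.2 ⟨hcon, two_ne_zero⟩)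
    have hq1 : 1 < q := by
      by_contra hcon
      have h5 : q ≤ 1 := by omega
      have h6 : q ^ 2 ≤ 1 := by
        calc q ^ 2 ≤ 1 ^ 2 := Nat.pow_le_pow_left h5 2
          _ = 1 := one_pow 2
      omega
    have hq3 : q ≠ 3 := by
      intro h0
      rw [h0] at hcard
      exact h9 hcard
    obtain ⟨r, hr, hro, hrd⟩ := RowLTwoOdd.exists_odd_prime hq1 hq3 hqodd
    have hu : Nat.card Fˣ = Fintype.card F - 1 := by
      rw [Nat.card_units, Nat.card_eq_fintype_card]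
    have : Fact r.Prime := ⟨hr⟩
    obtain ⟨z, hz⟩ := exists_prime_orderOf_dvd_card' (G := Fˣ) r (by rw [hu, hcard]; exact hrd)
    have hz1 : z ≠ 1 := by
      rintro rfl
      rw [orderOf_one] at hz
      exact hr.one_lt.ne hz
    have hzr : z ^ r = 1 := by rw [← hz, pow_orderOf_eq_one]
    obtain ⟨i, hi⟩ : ∃ i : Fˣ, (i : F) * i = -1 := by
      have h4 : Fintype.card F % 4 ≠ 3 := by
        obtain ⟨m, hm⟩ := hqodd
        rw [hcard, hm]
        have : (2 * m + 1) ^ 2 = 4 * (m * m + m) + 1 := by ring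
        omega
      obtain ⟨i, hi⟩ := FiniteField.isSquare_neg_one_iff.2 h4
      have hi0 : i ≠ 0 := by
        rintro rfl
        rw [mul_zero, neg_eq_zero] at hi
        exact one_ne_zero hi
      exact ⟨Units.mk0 i hi0, hi.symm⟩
    exact card_le_four_of hS hcen (GH.L2Aut.Rep.ofEquiv h2 e) hi hro hzr hz1 htS htt ht1 hA hel

section module

variable {H : Type u} [Group H] {M : Type v} [Group M] [MulDistribMulAction H M] {K T A : Subgroup H}

/-- **`|A| = 4` and `A ∩ K ≠ 1`.** -/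
theorem exists_mem [Finite H] (h : InX H M K T A) {F : Type*} [Field F] [Fintype F]
    (hodd : Odd (Fintype.card F)) (h3 : 3 < Fintype.card F) (h9 : Fintype.card F ≠ 9)
    (e : K ≃* Matrix.ProjectiveSpecialLinearGroup (Fin 2) F) :
    Nat.card A = 4 ∧ ∃ t : K, (t : H) ∈ A ∧ t ≠ 1 := by
  have h2 : (2 : F) ≠ 0 := two_ne_zero_of_odd hodd
  let R := GH.L2Aut.Rep.ofEquiv h2 e
  have hev : 2 ∣ Nat.card K := by
    have hw : wm (1 : F) one_ne_zero * wm 1 one_ne_zero = -1 := by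
      refine ext_ent ?_ ?_ ?_ ?_ <;> simp [ent_mul, LTwoMat.ent_neg]
    have h5 : R.π (wm 1 one_ne_zero) * R.π (wm 1 one_ne_zero) = 1 := by
      rw [← map_mul, hw, R.ker]
      exact Or.inr rfl
    have h6 : R.π (wm 1 one_ne_zero) ≠ 1 := by
      intro h0
      rcases (R.ker _).1 h0 with h1 | h1
      · rw [h1, one_mul] at hw
        exact R.neg_one_ne_one hw.symm
      · rw [h1, neg_mul_neg, one_mul] at hw
        exact R.neg_one_ne_one hw.symm
    have h7 : orderOf (R.π (wm 1 one_ne_zero)) = 2 := orderOf_eq_prime (by rw [pow_two]; exact h5) h6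
    rw [← h7]
    exact orderOf_dvd_natCard _
  obtain ⟨t, htT, htK, htc, htt, ht1⟩ := exists_central h.asx hev
  have hTR : T ≤ centralizer ({t} : Set H) := fun x hx => mem_centralizer_singleton_iff.2 (htc x hx)
  have hRne := centralizer_ne_top h.cen ht1
  have hAR := h.low _ hTR hRne
  -- `t` is in `O₂(C(t))`
  have htR : t ∈ o2 (centralizer ({t} : Set H)) := by
    have h5 : zpowers t ≤ o2 (centralizer ({t} : Set H)) := by
      refine le_o2 ?_ ?_ ?_
      · rw [zpowers_le]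
        exact mem_centralizer_singleton_iff.2 rfl
      · exact h.two.to_le (by rwa [zpowers_le])
      · intro x hx
        have h6 : x * t = t * x := mem_centralizer_singleton_iff.1 hx
        rw [mem_normalizer_iff]
        intro y
        have h7 : ∀ y ∈ zpowers t, x * y * x⁻¹ = y := by
          rintro _ ⟨k, rfl⟩
          have : Commute x (t ^ k) := (show Commute x t from h6).zpow_right k
          rw [mul_inv_eq_iff_eq_mul]
          exact this
        constructor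
        · intro hy
          rw [h7 y hy]
          exact hy
        · intro hy
          have h8 : x⁻¹ * (x * y * x⁻¹) * x = x * y * x⁻¹ := by
            have h9 := h7 _ hy
            calc x⁻¹ * (x * y * x⁻¹) * x = x⁻¹ * (x * (x * y * x⁻¹) * x⁻¹) * x := by rw [h9]
              _ = x * y * x⁻¹ := by group
          have h9 : y = x * y * x⁻¹ := by
            rw [← h8]
            group
          rw [h9]
          exact hy
    exact h5 (mem_zpowers t)
  have hAt : ∀ a ∈ A, a * t = t * a := fun a ha => htc a (h.AT ha)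
  -- `B = A ⟨t⟩`
  have hB : A ⊔ zpowers t ≤ o2 (centralizer ({t} : Set H)) := sup_le hAR (by rwa [zpowers_le])
  have htn : ∀ k : ℤ, t ^ k * t ^ k = 1 := by
    intro k
    rw [← (Commute.refl t).mul_zpow, htt, _root_.one_zpow]
  have hBel : ∀ b ∈ A ⊔ zpowers t, b * b = 1 := by
    intro b hb
    have hn : A ≤ normalizer (zpowers t : Set H) := by
      intro a ha
      have h5 : ∀ k : ℤ, a * t ^ k = t ^ k * a := fun k => ((show Commute a t from hAt a ha).zpow_right k).eq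
      rw [mem_normalizer_iff]
      intro y
      constructor
      · rintro ⟨k, rfl⟩
        refine ⟨k, ?_⟩
        change t ^ k = a * t ^ k * a⁻¹
        rw [h5, mul_inv_cancel_right]
      · rintro ⟨k, hk⟩
        refine ⟨k, ?_⟩
        change t ^ k = y
        have hk' : t ^ k = a * y * a⁻¹ := hk
        have h6 : a⁻¹ * t ^ k * a = t ^ k := by rw [mul_assoc, ← h5, inv_mul_cancel_left]
        rw [← h6, hk']
        group
    have hb' : b ∈ ((A ⊔ zpowers t : Subgroup H) : Set H) := hb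
    rw [coe_mul_of_left_le_normalizer_right _ _ hn] at hb'
    obtain ⟨a, ha, z, ⟨k, rfl⟩, rfl⟩ := Set.mem_mul.1 hb'
    change a * t ^ k * (a * t ^ k) = 1
    have h5 : a * t ^ k = t ^ k * a := ((show Commute a t from hAt a ha).zpow_right k).eq
    calc a * t ^ k * (a * t ^ k) = a * (t ^ k * a) * t ^ k := by group
      _ = (a * a) * (t ^ k * t ^ k) := by rw [← h5]; group
      _ = 1 := by rw [h.el a ha, htn, one_mul]
  have h5 := card_le_four h.norm h.cen hodd h3 h9 e htK htt ht1 hB hBel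
  have h6 : A ≤ A ⊔ zpowers t := le_sup_left
  have h7 : Nat.card A ≤ Nat.card (A ⊔ zpowers t : Subgroup H) := card_le_of_le h6
  have h8 := h.four
  have h9' : Nat.card A = 4 := by omega
  refine ⟨h9', ⟨t, htK⟩, ?_, fun h0 => ht1 (congrArg Subtype.val h0)⟩
  have h10 : A = A ⊔ zpowers t := eq_of_le_of_card_ge h6 (by omega)
  change t ∈ A
  rw [h10]
  exact le_sup_right (a := A) (mem_zpowers t)

variable {F : Type*} [Field F] [Fintype F]

local notation "SL2" => Matrix.SpecialLinearGroup (Fin 2) F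

/-- all `π(w)`, `w² = -1`, are conjugate to `t ∈ A` -/
theorem exists_conj (R : GH.L2Aut.Rep F K) {t : K} (htt : t * t = 1) (ht : t ≠ 1) {w : SL2} (hw : w * w = -1) :
    ∃ g : H, ((R.π w : K) : H) = g * t * g⁻¹ := by
  have h1 : R.π w * R.π w = 1 := by
    rw [← map_mul, hw, R.ker]
    exact Or.inr rfl
  have h2 : R.π w ≠ 1 := by
    intro h0
    rcases (R.ker _).1 h0 with h1 | h1
    · rw [h1, one_mul] at hw
      exact R.neg_one_ne_one hw.symm
    · rw [h1, neg_mul_neg, one_mul] at hw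
      exact R.neg_one_ne_one hw.symm
  obtain ⟨g, hg⟩ := R.inv_conj htt ht h1 h2
  refine ⟨g, ?_⟩
  rw [← hg]
  rfl

/-- **The situation `InX` does not occur.** -/
theorem false_of [Finite H] [Finite M] (h : InX H M K T A) (hodd : Odd (Fintype.card F)) (h11 : 11 ≤ Fintype.card F)
    (e : K ≃* Matrix.ProjectiveSpecialLinearGroup (Fin 2) F) : False := by
  have h2 : (2 : F) ≠ 0 := two_ne_zero_of_odd hodd
  let R := GH.L2Aut.Rep.ofEquiv h2 e
  obtain ⟨h4, t, htA, ht1⟩ := exists_mem h hodd (by omega) (by omega) e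
  have htt : t * t = 1 := Subtype.ext (h.el _ htA)
  by_cases h13 : 13 ≤ Fintype.card F
  · obtain ⟨w, v, hw, hv, n, hn, hn7, hnd⟩ := LTwoMat.exists_order R hodd h13
    obtain ⟨x, hx⟩ := exists_conj R htt ht1 hw
    obtain ⟨y, hy⟩ := exists_conj R htt ht1 hv
    have h5 : orderOf (R.π w * R.π v) = orderOf ((x * t * x⁻¹) * (y * t * y⁻¹)) := by
      rw [← hx, ← hy, ← Subgroup.orderOf_coe]
      rfl
    rcases h.order_mul h4 htA htA x y (h5 ▸ hnd) hn with h6 | h6 | h6 <;> omega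
  · -- `q = 11`
    have hq : Fintype.card F = 11 := by
      obtain ⟨m, hm⟩ := hodd
      omega
    obtain ⟨w, hw, c, hc, hu⟩ := LTwoMat.exists_four R (by omega)
    have h5 : ∀ i, (cv M ({((R.π (w i) : K) : H)} : Set H)).index ≤ 4 := by
      intro i
      obtain ⟨x, hx⟩ := exists_conj R htt ht1 (hw i)
      rw [hx, cv_conj_index]
      exact h.index_le_four h4 htA
    set u : H := ((R.π (up c) : K) : H) with hu'
    have h6 := Gen.index_le_pow (M := M) (fun i => ((R.π (w i) : K) : H)) h5 (J := zpowers u) (by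
      rw [zpowers_le, hu', hu]
      have h7 : ∀ i, ((R.π (w i) : K) : H) ∈ closure (Set.range fun i => ((R.π (w i) : K) : H)) :=
        fun i => subset_closure ⟨i, rfl⟩
      exact mul_mem (mul_mem (mul_mem (h7 0) (h7 1)) (h7 2)) (h7 3))
    have hp : Fact (Nat.Prime 11) := ⟨by norm_num⟩
    have hchar : ((11 : ℕ) : F) = 0 := by
      rw [← hq]
      exact Nat.cast_card_eq_zero F
    have hup : u ^ 11 = 1 := by
      have : (R.π (up c)) ^ 11 = 1 := by
        rw [← map_pow, LTwoMat.up_pow, hchar, zero_mul, up_zero, map_one]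
      rw [hu', ← Subgroup.coe_pow, this, Subgroup.coe_one]
    have hu1 : u ≠ 1 := by
      intro h0
      have h7 : R.π (up c) = 1 := Subtype.ext h0
      rcases (R.ker _).1 h7 with h8 | h8
      · exact hc (up_inj (h8.trans up_zero.symm))
      · have h9 := congrArg (fun x => ent x 0 0) h8
        have h10 : (1 : F) = -1 := h9
        exact h2 (by linear_combination h10)
    have h7 := Gen.pow_le_index h (u := u) (r := 11) (k := 10) (by norm_num) (by decide) hup hu1 InvFrob.ord_11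
    have h8 : (cv M ({u} : Set H)).index ≤ (cv M ((zpowers u : Subgroup H) : Set H)).index :=
      Nat.le_of_dvd (Nat.pos_of_ne_zero Subgroup.index_ne_zero_of_finite)
        (Subgroup.index_dvd_of_le (cv_anti (by simp)))
    have h9 := (h7.trans h8).trans h6
    norm_num at h9

end module

/-- `PSL₂(7) = PSL₃(2)` -/
theorem charTwo_seven {K : Type u} [Group K] {F : Type} [Field F] [Fintype F] (hF : Fintype.card F = 7)
    (e : K ≃* Matrix.ProjectiveSpecialLinearGroup (Fin 2) F) : IsLieTypeChar 2 K := by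
  obtain ⟨f⟩ := S0255.result (K := ZMod 2) hF (by simp)
  exact Or.inl ⟨ZMod 2, inferInstance, inferInstance, inferInstance, 3, by norm_num, by norm_num, ⟨e.trans f⟩⟩

/-- **The row `L₂(q)`, `q` odd.** -/
theorem deadX : DeadX.{u, v} fun S _ => ¬ IsLieTypeChar 2 S ∧ ∃ (F : Type) (_ : Field F) (_ : Fintype F),
    Odd (Fintype.card F) ∧ 3 < Fintype.card F ∧ Fintype.card F ≠ 9 ∧
      Nonempty (S ≃* Matrix.ProjectiveSpecialLinearGroup (Fin 2) F) := by
  rintro H _ _ M _ _ _ K T A h ⟨hn, F, _, _, hodd, h3, h9, ⟨e⟩⟩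
  have h5 : Fintype.card F ≠ 5 := by
    intro h0
    obtain ⟨f⟩ := S0253.result h0
    exact hn (KFacts.charTwo_alt_five (e.trans f))
  have h7 : Fintype.card F ≠ 7 := fun h0 => hn (charTwo_seven h0 e)
  refine false_of h hodd ?_ e
  obtain ⟨m, hm⟩ := hodd
  omega

end Cfsg.Agent.Omega.ML.Ex.RowLTwoX

end

section


/-!
# The K-list for EXACT subgroups: the two modules of (EXL) (helper441)

THEOREM RED gives an exact ATOM `A` of a faithful module `N` (not irreducible, every proper submodule is centralised by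
`K`), and the irreducible module `M = N / C_N(K)`, for which `A` is exact and sub-exact but not necessarily an atom.  A
row of the K-list may use either of the two:

* `InX H M K T A` (Def.lean) : `M` irreducible, `A` exact and sub-exact;
* **`InA H N K T A`** : `N` faithful, `A` an exact ATOM (nothing about submodules);
* `DeadA 𝒮` : the row over `InA`;  **`Row 𝒮`** : the row over both;  `DeadX.row`, `DeadA.row`, `Row.mono`, `Row.or`;
* `InX.toA` : `InX` and `Atm M A` give `InA` for the same module;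
* `InA.{asx, comm, A_ne_bot, A_two, A_comm, M_two, le_index, index_le, hyp, cv_four, index_four, four_le_index, ne_top,
  index_le_four, atm}`.
-/

set_option autoImplicit false

namespace Cfsg.Agent.Omega.ML.Ex

open Subgroup Cfsg Cfsg.Agent.ZN Cfsg.Agent.Omega.NOThree.NoOver Cfsg.Agent.Omega.ML.CD
open Cfsg.Agent.ClassTwoFusion.Quad

universe u v

/-- The situation of (EXL) with an exact atom on a faithful module (not assumed to be irreducible). -/
structure InA (H : Type u) [Group H] (M : Type v) [Group M] [MulDistribMulAction H M] (K T A : Subgroup H) :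
    Prop where
  sq : ∀ m : M, m * m = 1
  faith : ∀ h : H, (∀ m : M, h • m = m) → h = 1
  norm : K.Normal
  simple : IsSimpleGroup K
  cen : centralizer (K : Set H) = ⊥
  gen : K ⊔ T = ⊤
  two : IsPGroup 2 T
  syl : ¬ 2 ∣ T.index
  AT : A ≤ T
  el : ∀ a ∈ A, a * a = 1
  four : 4 ≤ Nat.card A
  exact : (cv M (A : Set H)).index = Nat.card A
  atom : ∀ C : Subgroup H, C ≤ A → C ≠ ⊥ → C ≠ A → Nat.card C < (cv M (C : Set H)).index
  low : ∀ R : Subgroup H, T ≤ R → R ≠ ⊤ → A ≤ o2 R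
  nmax : ¬ ∃ N : Subgroup H, N ≠ ⊤ ∧ ∀ R : Subgroup H, T ≤ R → R ≠ ⊤ → R ≤ N

/-- The row of the class `𝒮` over `InA`. -/
def DeadA (𝒮 : ∀ (S : Type u) [Group S], Prop) : Prop :=
  ∀ (H : Type u) [Group H] [Finite H] (M : Type v) [Group M] [Finite M] [MulDistribMulAction H M]
    (K T A : Subgroup H), InA H M K T A → 𝒮 K → False

/-- **The row of the class `𝒮` with both modules.** -/
def Row (𝒮 : ∀ (S : Type u) [Group S], Prop) : Prop :=
  ∀ (H : Type u) [Group H] [Finite H] (M : Type v) [Group M] [Finite M] [MulDistribMulAction H M]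
    (N : Type v) [Group N] [Finite N] [MulDistribMulAction H N] (K T A : Subgroup H),
    InX H M K T A → InA H N K T A → 𝒮 K → False

theorem DeadX.row {𝒮 : ∀ (S : Type u) [Group S], Prop} (h : DeadX.{u, v} 𝒮) : Row.{u, v} 𝒮 :=
  fun H _ _ M _ _ _ _ _ _ _ K T A hI _ hS => h H M K T A hI hS

theorem DeadA.row {𝒮 : ∀ (S : Type u) [Group S], Prop} (h : DeadA.{u, v} 𝒮) : Row.{u, v} 𝒮 :=
  fun H _ _ _ _ _ _ N _ _ _ K T A _ hI hS => h H N K T A hI hS

/-- smaller classes -/
theorem Row.mono {𝒮 𝒮' : ∀ (S : Type u) [Group S], Prop} (h : Row.{u, v} 𝒮)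
    (h' : ∀ (S : Type u) [Group S], 𝒮' S → 𝒮 S) : Row.{u, v} 𝒮' :=
  fun H _ _ M _ _ _ N _ _ _ K T A hI hA hS => h H M N K T A hI hA (h' _ hS)

theorem Row.or {𝒮 𝒮' : ∀ (S : Type u) [Group S], Prop} (h : Row.{u, v} 𝒮) (h' : Row.{u, v} 𝒮') :
    Row.{u, v} fun S _ => 𝒮 S ∨ 𝒮' S :=
  fun H _ _ M _ _ _ N _ _ _ K T A hI hA hS =>
    hS.elim (fun h1 => h H M N K T A hI hA h1) fun h1 => h' H M N K T A hI hA h1

section module

variable {H : Type u} [Group H] {M : Type v} [Group M] [MulDistribMulAction H M] {K T A : Subgroup H}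

/-- `InX` and an atom of the irreducible module -/
theorem InX.toA (h : InX H M K T A) (hat : Atm M A) : InA H M K T A where
  sq := h.sq
  faith := h.faith
  norm := h.norm
  simple := h.simple
  cen := h.cen
  gen := h.gen
  two := h.two
  syl := h.syl
  AT := h.AT
  el := h.el
  four := h.four
  exact := h.exact
  atom := hat
  low := h.low
  nmax := h.nmax

/-- the same `K`, `T`, `A` and another module -/
theorem InX.toA' {N : Type v} [Group N] [MulDistribMulAction H N] (h : InX H M K T A) (sq : ∀ m : N, m * m = 1)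
    (faith : ∀ h : H, (∀ m : N, h • m = m) → h = 1) (exact : (cv N (A : Set H)).index = Nat.card A)
    (hat : Atm N A) : InA H N K T A where
  sq := sq
  faith := faith
  norm := h.norm
  simple := h.simple
  cen := h.cen
  gen := h.gen
  two := h.two
  syl := h.syl
  AT := h.AT
  el := h.el
  four := h.four
  exact := exact
  atom := hat
  low := h.low
  nmax := h.nmax

namespace InA

/-- The group-theoretic part. -/
theorem asx (h : InA H M K T A) : ASx K T A where
  norm := h.norm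
  simple := h.simple
  cen := h.cen
  gen := h.gen
  two := h.two
  syl := h.syl
  AT := h.AT
  el := h.el
  low := h.low
  nmax := h.nmax

theorem atm (h : InA H M K T A) : Atm M A := h.atom

theorem comm (h : InA H M K T A) (x y : M) : x * y = y * x := by
  have h1 : ∀ z : M, z⁻¹ = z := fun z => inv_eq_of_mul_eq_one_right (h.sq z)
  calc x * y = (x * y)⁻¹ := (h1 _).symm
    _ = y⁻¹ * x⁻¹ := mul_inv_rev _ _
    _ = y * x := by rw [h1, h1]

theorem A_ne_bot (h : InA H M K T A) : A ≠ ⊥ := by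
  intro h1
  have h2 := h.four
  rw [h1, card_bot] at h2
  omega

theorem A_two (h : InA H M K T A) : IsPGroup 2 A := h.two.to_le h.AT

theorem A_comm (h : InA H M K T A) : ∀ a ∈ A, ∀ b ∈ A, a * b = b * a := by
  intro a ha b hb
  have h1 : ∀ z ∈ A, z⁻¹ = z := fun z hz => inv_eq_of_mul_eq_one_right (h.el z hz)
  calc a * b = (a * b)⁻¹ := (h1 _ (A.mul_mem ha hb)).symm
    _ = b⁻¹ * a⁻¹ := mul_inv_rev _ _
    _ = b * a := by rw [h1 _ ha, h1 _ hb]

theorem M_two (h : InA H M K T A) [Finite M] : IsPGroup 2 M := by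
  intro m
  exact ⟨1, by rw [pow_one, pow_two, h.sq]⟩

/-- sub-exactness -/
theorem le_index (h : InA H M K T A) [Finite M] {C : Subgroup H} (hC : C ≤ A) :
    Nat.card C ≤ (cv M (C : Set H)).index := by
  by_cases h1 : C = ⊥
  · rw [h1, card_bot]
    exact Nat.one_le_iff_ne_zero.2 index_ne_zero_of_finite
  · by_cases h2 : C = A
    · rw [h2, h.exact]
    · exact (h.atom C hC h1 h2).le

/-- `|M : C_M(C)| ≤ |A|` for `C ≤ A` -/
theorem index_le (h : InA H M K T A) [Finite M] {C : Set H} (hC : C ⊆ A) : (cv M C).index ≤ Nat.card A := by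
  rw [← h.exact]
  have h1 : cv M (A : Set H) ≤ cv M C := cv_anti hC
  exact Nat.le_of_dvd (Nat.pos_of_ne_zero index_ne_zero_of_finite) (index_dvd_of_le h1)

/-- **`|A| = 4`**: `|M : C_M(a)| ≤ 4` for all `a ∈ A`. -/
theorem index_le_four (h : InA H M K T A) [Finite M] (h4 : Nat.card A = 4) {a : H} (ha : a ∈ A) :
    (cv M ({a} : Set H)).index ≤ 4 := by
  rw [← h4]
  exact h.index_le (Set.singleton_subset_iff.2 ha)

/-- **Hyperplanes**: `C_M(D) = C_M(A)` if `|A| ≤ 2 |D|`, `D ≠ 1`. -/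
theorem hyp (h : InA H M K T A) [Finite H] [Finite M] {D : Subgroup H} (hD : D ≤ A) (h1 : D ≠ ⊥)
    (h2 : Nat.card A ≤ 2 * Nat.card D) : cv M (D : Set H) = cv M (A : Set H) := by
  by_cases hDA : D = A
  · rw [hDA]
  have hle : cv M (A : Set H) ≤ cv M (D : Set H) := cv_anti (SetLike.coe_subset_coe.2 hD)
  refine le_antisymm ?_ hle
  rw [← relIndex_eq_one]
  have h3 := h.atom D hD h1 hDA
  have h4 : (cv M (A : Set H)).relIndex (cv M (D : Set H)) * (cv M (D : Set H)).index =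
      (cv M (A : Set H)).index := relIndex_mul_index hle
  rw [h.exact] at h4
  have h5 : (cv M (A : Set H)).relIndex (cv M (D : Set H)) ≠ 0 := relIndex_ne _ _
  by_contra h6
  have h7 : 2 ≤ (cv M (A : Set H)).relIndex (cv M (D : Set H)) := by omega
  have h8 : 2 * (cv M (D : Set H)).index ≤ Nat.card A := by
    rw [← h4]
    exact Nat.mul_le_mul_right _ h7
  omega

/-- **`|A| = 4`**: `C_M(a) = C_M(A)` for all `a ∈ A#`. -/
theorem cv_four (h : InA H M K T A) [Finite H] [Finite M] (h4 : Nat.card A = 4) {a : H} (ha : a ∈ A) (ha1 : a ≠ 1) :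
    cv M ({a} : Set H) = cv M (A : Set H) := by
  have h1 : zpowers a ≤ A := by rwa [zpowers_le]
  have h2 : zpowers a ≠ ⊥ := by rwa [Ne, zpowers_eq_bot]
  have h3 : Nat.card (zpowers a) = 2 := by
    rw [Nat.card_zpowers]
    exact orderOf_eq_prime (by rw [pow_two, h.el a ha]) ha1
  have h5 := h.hyp h1 h2 (by rw [h3, h4])
  rw [← h5]
  refine le_antisymm ?_ (cv_anti (by simp))
  intro v hv x hx
  have h6 : zpowers a ≤ MulAction.stabilizer H v := by
    rw [zpowers_le]
    exact MulAction.mem_stabilizer_iff.2 (hv a rfl)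
  exact MulAction.mem_stabilizer_iff.1 (h6 hx)

/-- **`|A| = 4`**: `|M : C_M(a)| = 4` for all `a ∈ A#`. -/
theorem index_four (h : InA H M K T A) [Finite H] [Finite M] (h4 : Nat.card A = 4) {a : H} (ha : a ∈ A)
    (ha1 : a ≠ 1) : (cv M ({a} : Set H)).index = 4 := by
  rw [h.cv_four h4 ha ha1, h.exact, h4]

/-- no transvections in `A`: `|M : C_M(a)| ≥ 4` for `a ∈ A#`. -/
theorem four_le_index (h : InA H M K T A) [Finite H] [Finite M] {a : H} (ha : a ∈ A) (ha1 : a ≠ 1) :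
    4 ≤ (cv M ({a} : Set H)).index := by
  have h1 : zpowers a ≤ A := by rwa [zpowers_le]
  have h2 : zpowers a ≠ ⊥ := by rwa [Ne, zpowers_eq_bot]
  have h3 : Nat.card (zpowers a) = 2 := by
    rw [Nat.card_zpowers]
    exact orderOf_eq_prime (by rw [pow_two, h.el a ha]) ha1
  have hne : zpowers a ≠ A := by
    intro h5
    have := h.four
    rw [← h5, h3] at this
    omega
  have h5 := h.atom _ h1 h2 hne
  rw [h3] at h5
  have h6 : cv M ((zpowers a : Subgroup H) : Set H) = cv M ({a} : Set H) := by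
    refine le_antisymm (cv_anti (by simp)) ?_
    intro v hv x hx
    have h6 : zpowers a ≤ MulAction.stabilizer H v := by
      rw [zpowers_le]
      exact MulAction.mem_stabilizer_iff.2 (hv a rfl)
    exact MulAction.mem_stabilizer_iff.1 (h6 hx)
  rw [h6] at h5
  obtain ⟨n, hn⟩ := (IsPGroup.iff_card.1 h.M_two)
  have h7 : (cv M ({a} : Set H)).index ∣ 2 ^ n := by
    rw [← hn]
    exact index_dvd_card _
  obtain ⟨k, -, hk⟩ := (Nat.dvd_prime_pow Nat.prime_two).1 h7
  rw [hk] at h5 ⊢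
  match k, h5 with
  | 0, h5 => simp at h5
  | 1, h5 => simp at h5
  | k + 2, _ => rw [pow_add]; have := Nat.one_le_two_pow (n := k); omega

theorem ne_top (h : InA H M K T A) : T ≠ ⊤ := h.asx.ne_top

/-- **an irreducible `InA` is an `InX`** -/
theorem toX [Finite M] (h : InA H M K T A)
    (irr : ∀ W : Subgroup M, (∀ h : H, ∀ w ∈ W, h • w ∈ W) → W = ⊥ ∨ W = ⊤) : InX H M K T A where
  sq := h.sq
  faith := h.faith
  irr := irr
  norm := h.norm
  simple := h.simple
  cen := h.cen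
  gen := h.gen
  two := h.two
  syl := h.syl
  AT := h.AT
  el := h.el
  four := h.four
  exact := h.exact
  sub := fun _ hC => h.le_index hC
  low := h.low
  nmax := h.nmax

end InA

end module

end Cfsg.Agent.Omega.ML.Ex

end

section


/-!
# Exact and low configurations: the local criterion of `RowLoc` and inverted elements (helper322)

* `ASx.exists_loc` : for `Loc z P` (`P ∈ Syl₂(S)`, `z` the only involution of `C_S(P)` and of the normal 2-subgroups of
  `C_S(z)`) there is `g ∈ X` with `T ≤ C_X(z^g)`, `A ∩ S ≤ ⟨z^g⟩`;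
* `ASx.card_le_mul_of_loc`, `ASx.mem_of_loc` : `|A| ≤ 2 |X : S|`, and `z^g ∈ A` if `|X : S| < |A|`;
* `InX.index_le_card_of_mem` : `|M : C_M(x)| ≤ |A|`, `x ∈ A`;
* **`InX.false_of_invAt`** : `InvAt x n`, `x ∈ A`, `|A| < 2 ^ n` is impossible;
* `deadX_of_loc` : the row with `Loc z P`, `|Out(S)| < 4` and `InvAt z n`, `2 |Out(S)| < 2 ^ n`.
-/

set_option autoImplicit false

namespace Cfsg.Agent.Omega.ML.Ex

open Subgroup Cfsg Cfsg.Agent.ZN Cfsg.Agent.Omega.ML.RowLoc Cfsg.Agent.Omega.ML.InvChain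
open Cfsg.Agent.Omega.NOThree.NoOver Cfsg.Agent.Omega.ML.CD Cfsg.Agent.ClassTwoFusion.Quad
open Cfsg.Agent.MinSimple.VModule (o2_isPGroup o2_le le_o2 le_normalizer_o2)

universe u v

section group

variable {X : Type u} [Group X] {S T A : Subgroup X}

/-- `|X : S|` divides `|Out(S)|` -/
theorem ASx.index_dvd (h : ASx S T A) {n : ℕ} (hn : (MulAut.conj : S →* MulAut S).range.index ∣ n) : S.index ∣ n := by
  have hSn := h.norm
  have h1 : (MulAut.conj : S →* MulAut S).range.comap (MulAut.conjNormal (H := S)) = S := by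
    ext x
    constructor
    · rintro ⟨s, hs⟩
      have h2 : (s : X)⁻¹ * x ∈ centralizer (S : Set X) := by
        refine mem_centralizer_iff.2 fun y hy => ?_
        have h3 := congrArg (fun α : MulAut S => ((α ⟨y, hy⟩ : S) : X)) hs
        have h4 : (s : X) * y * (s : X)⁻¹ = x * y * x⁻¹ := by
          simpa [MulAut.conj_apply, MulAut.conjNormal_apply] using h3
        calc y * ((s : X)⁻¹ * x) = (s : X)⁻¹ * (s * y * (s : X)⁻¹) * x := by group
          _ = (s : X)⁻¹ * (x * y * x⁻¹) * x := by rw [h4]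
          _ = (s : X)⁻¹ * x * y := by group
      rw [h.cen, mem_bot, inv_mul_eq_one] at h2
      rw [← h2]
      exact s.2
    · intro hx
      refine ⟨⟨x, hx⟩, ?_⟩
      ext y
      simp [MulAut.conj_apply, MulAut.conjNormal_apply]
  have hInn : (MulAut.conj : S →* MulAut S).range.Normal := by
    refine ⟨?_⟩
    rintro _ ⟨s, rfl⟩ α
    refine ⟨α s, ?_⟩
    ext y
    simp [MulAut.conj_apply, MulAut.mul_apply]
  rw [← h1, index_comap]
  exact (relIndex_dvd_index_of_normal _ _).trans hn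

/-- **the local criterion** -/
theorem ASx.exists_loc [Finite X] (h : ASx S T A) {z : S} {P : Subgroup S} (L : Loc z P) :
    ∃ g : X, T ≤ centralizer ({g * z * g⁻¹} : Set X) ∧ ∀ b ∈ A, b ∈ S → b = 1 ∨ b = g * z * g⁻¹ := by
  classical
  have : Fact (Nat.Prime 2) := ⟨Nat.prime_two⟩
  have hSn := h.norm
  -- a Sylow subgroup of `X` containing `P`, conjugate to `T`
  obtain ⟨Q0, hQ0⟩ := (L.pP.map S.subtype).exists_le_sylow
  have hTS : ∃ T0 : Sylow 2 X, (T0 : Subgroup X) = T := by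
    refine ⟨h.two.toSylow h.syl, rfl⟩
  obtain ⟨T0, hT0⟩ := hTS
  obtain ⟨g, hg⟩ := MulAction.exists_smul_eq X Q0 T0
  have hT : ∀ t, t ∈ T ↔ g⁻¹ * t * g ∈ (Q0 : Subgroup X) := by
    intro t
    rw [← hT0, ← hg, Sylow.coe_subgroup_smul, mem_pointwise_smul_iff_inv_smul_mem]
    simp [MulAut.smul_def, ← map_inv]
  -- `Q0 ∩ S = P`
  have hQS : ∀ x : S, (x : X) ∈ (Q0 : Subgroup X) → x ∈ P := by
    intro x hx
    set P0 : Sylow 2 S := L.pP.toSylow L.odd with hP0
    have h1 : (P : Subgroup S) ≤ (Q0 : Subgroup X).subgroupOf S := fun p hp => hQ0 ⟨p, hp, rfl⟩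
    have h2 : IsPGroup 2 ((Q0 : Subgroup X).subgroupOf S) :=
      Q0.isPGroup'.comap_of_injective _ S.subtype_injective
    have h3 : (Q0 : Subgroup X).subgroupOf S = P := P0.is_maximal' h2 h1
    rw [← h3]
    exact hx
  -- conjugation
  have hS : ∀ {x : X} (y : X), x ∈ S → y * x * y⁻¹ ∈ S := fun y hx => hSn.conj_mem _ hx y
  -- `Q0` centralises `z`
  have hz0 : ∀ u ∈ (Q0 : Subgroup X), u * (z : X) = z * u := by
    intro u hu
    have hu' : u⁻¹ ∈ (Q0 : Subgroup X) := inv_mem hu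
    have h1 := L.uniq ⟨u * z * u⁻¹, hS u z.2⟩ (fun p hp => ?_) ?_
    · rcases h1 with h1 | h1
      · exfalso
        apply L.z1
        have h2 : u * (z : X) * u⁻¹ = 1 := congrArg Subtype.val h1
        apply Subtype.ext
        calc (z : X) = u⁻¹ * (u * z * u⁻¹) * u := by group
          _ = 1 := by rw [h2]; group
      · exact mul_inv_eq_iff_eq_mul.1 (congrArg Subtype.val h1)
    · have hpQ : (p : X) ∈ (Q0 : Subgroup X) := hQ0 ⟨p, hp, rfl⟩
      have h2 : (⟨u⁻¹ * p * u⁻¹⁻¹, hS u⁻¹ p.2⟩ : S) ∈ P :=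
        hQS _ (mul_mem (mul_mem hu' hpQ) (inv_mem hu'))
      have h3 := congrArg Subtype.val (L.zc _ h2)
      have h4 : (z : X) * (u⁻¹ * p * u⁻¹⁻¹) = (u⁻¹ * p * u⁻¹⁻¹) * z := h3
      apply Subtype.ext
      show (u * (z : X) * u⁻¹) * p = p * (u * z * u⁻¹)
      calc (u * (z : X) * u⁻¹) * p = u * (z * (u⁻¹ * p * u⁻¹⁻¹)) * u⁻¹ := by group
        _ = u * ((u⁻¹ * p * u⁻¹⁻¹) * z) * u⁻¹ := by rw [h4]
        _ = p * (u * z * u⁻¹) := by group
    · apply Subtype.ext
      show (u * (z : X) * u⁻¹) * (u * z * u⁻¹) = 1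
      calc (u * (z : X) * u⁻¹) * (u * z * u⁻¹) = u * (z * z) * u⁻¹ := by group
        _ = 1 := by
            have h5 : (z : X) * z = 1 := congrArg Subtype.val L.zz
            rw [h5]; group
  -- `z' = g z g⁻¹`, `R = C(z')`
  set z' : X := g * z * g⁻¹ with hz'
  set R : Subgroup X := centralizer ({z'} : Set X) with hR
  have hRm : ∀ x, x ∈ R ↔ x * z' = z' * x := fun x => mem_centralizer_singleton_iff
  have hTR : T ≤ R := by
    intro t ht
    rw [hRm]
    have h1 := hz0 _ ((hT t).1 ht)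
    calc t * (g * z * g⁻¹) = g * ((g⁻¹ * t * g) * z) * g⁻¹ := by group
      _ = g * (z * (g⁻¹ * t * g)) * g⁻¹ := by rw [h1]
      _ = g * z * g⁻¹ * t := by group
  have hz'1 : z' ≠ 1 := by
    intro h1
    apply L.z1
    apply Subtype.ext
    calc (z : X) = g⁻¹ * z' * g := by rw [hz']; group
      _ = 1 := by rw [h1]; group
  have hRt : R ≠ ⊤ := by
    intro h1
    apply hz'1
    have h2 : z' ∈ centralizer (S : Set X) := by
      refine mem_centralizer_iff.2 fun y _ => ?_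
      exact (hRm y).1 (h1 ▸ mem_top y)
    rwa [h.cen, mem_bot] at h2
  have hAR := h.low R hTR hRt
  refine ⟨g, hTR, ?_⟩
  -- `A ∩ S ≤ ⟨z'⟩`
  intro b hb hbS
  let c : S →* X := (MulAut.conj g).toMonoidHom.comp S.subtype
  have hc : ∀ s : S, c s = g * s * g⁻¹ := fun s => rfl
  have hci : Function.Injective c := (MulAut.conj g).injective.comp S.subtype_injective
  have hb' : g⁻¹ * b * g ∈ S := by
    have := hS g⁻¹ hbS
    rwa [inv_inv] at this
  have a1 : ∀ n ∈ (o2 R).comap c, n * z = z * n := by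
    intro n hn
    have h1 := (hRm _).1 (o2_le R hn)
    rw [hc, hz'] at h1
    apply Subtype.ext
    show (n : X) * z = z * n
    calc (n : X) * z = g⁻¹ * (g * n * g⁻¹ * (g * z * g⁻¹)) * g := by group
      _ = g⁻¹ * (g * z * g⁻¹ * (g * n * g⁻¹)) * g := by rw [h1]
      _ = z * n := by group
  have a2 : ∀ k, k * z = z * k → ∀ n ∈ (o2 R).comap c, k * n * k⁻¹ ∈ (o2 R).comap c := by
    intro k hk n hn
    show c (k * n * k⁻¹) ∈ o2 R
    have hk' : (k : X) * z = z * k := congrArg Subtype.val hk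
    have hkR : c k ∈ R := by
      rw [hRm, hc, hz']
      calc g * k * g⁻¹ * (g * z * g⁻¹) = g * (k * z) * g⁻¹ := by group
        _ = g * (z * k) * g⁻¹ := by rw [hk']
        _ = g * z * g⁻¹ * (g * k * g⁻¹) := by group
    have h1 := (mem_normalizer_iff.1 (le_normalizer_o2 R hkR) (c n)).1 hn
    rwa [map_mul, map_mul, map_inv]
  have a3 : (⟨g⁻¹ * b * g, hb'⟩ : S) ∈ (o2 R).comap c := by
    show g * (g⁻¹ * b * g) * g⁻¹ ∈ o2 R
    have : g * (g⁻¹ * b * g) * g⁻¹ = b := by group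
    rw [this]
    exact hAR hb
  have a4 : (⟨g⁻¹ * b * g, hb'⟩ : S) * ⟨g⁻¹ * b * g, hb'⟩ = 1 := by
    apply Subtype.ext
    show (g⁻¹ * b * g) * (g⁻¹ * b * g) = 1
    calc (g⁻¹ * b * g) * (g⁻¹ * b * g) = g⁻¹ * (b * b) * g := by group
      _ = 1 := by rw [h.el b hb]; group
  rcases L.oo ((o2 R).comap c) ((o2_isPGroup R).comap_of_injective _ hci) a1 a2 _ a3 a4 with h1 | h1
  · left
    have h2 : g⁻¹ * b * g = 1 := congrArg Subtype.val h1
    calc b = g * (g⁻¹ * b * g) * g⁻¹ := by group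
      _ = 1 := by rw [h2]; group
  · right
    have h2 : g⁻¹ * b * g = z := congrArg Subtype.val h1
    calc b = g * (g⁻¹ * b * g) * g⁻¹ := by group
      _ = z' := by rw [h2]

/-- `|A| ≤ |A ∩ S| |X : S|` -/
theorem ASx.card_le_inf_mul [Finite X] (h : ASx S T A) : Nat.card A ≤ Nat.card (S.subgroupOf A) * S.index := by
  have hSn := h.norm
  have h4 : Nat.card (S.subgroupOf A) * (S.subgroupOf A).index = Nat.card A := card_mul_index _
  have h5 : (S.subgroupOf A).index ≤ S.index := by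
    have h6 : S.relIndex A ∣ S.index := relIndex_dvd_index_of_normal _ _
    exact Nat.le_of_dvd (Nat.pos_of_ne_zero index_ne_zero_of_finite) h6
  calc Nat.card A = Nat.card (S.subgroupOf A) * (S.subgroupOf A).index := h4.symm
    _ ≤ _ := Nat.mul_le_mul_left _ h5

/-- `|A ∩ S| ≤ 2` if `A ∩ S ≤ {1, y}` -/
theorem card_subgroupOf_le_two [Finite X] {y : X} (hy : ∀ b ∈ A, b ∈ S → b = 1 ∨ b = y) :
    Nat.card (S.subgroupOf A) ≤ 2 := by
  have h2 : ((S.subgroupOf A : Subgroup A) : Set A) ⊆ Subtype.val ⁻¹' ({1, y} : Set X) := by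
    intro b hb
    rcases hy b b.2 (mem_subgroupOf.1 hb) with e | e
    · left; exact e
    · right; exact e
  have h3 : Nat.card (S.subgroupOf A) = (((S.subgroupOf A : Subgroup A) : Set A)).ncard := rfl
  rw [h3, ← Set.ncard_image_of_injective _ (Subtype.val_injective (p := fun x => x ∈ A))]
  refine (Set.ncard_le_ncard (t := ({1, y} : Set X)) ?_ (Set.toFinite _)).trans ?_
  · rintro _ ⟨b, hb, rfl⟩
    exact h2 hb
  · exact (Set.ncard_insert_le _ _).trans (by rw [Set.ncard_singleton])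

/-- `|A| ≤ 2 |X : S|` -/
theorem ASx.card_le_mul_of_loc [Finite X] (h : ASx S T A) {z : S} {P : Subgroup S} (L : Loc z P) :
    Nat.card A ≤ 2 * S.index := by
  obtain ⟨g, -, hg⟩ := h.exists_loc L
  exact h.card_le_inf_mul.trans (Nat.mul_le_mul_right _ (card_subgroupOf_le_two hg))

/-- a conjugate of `z` is in `A` if `|X : S| < |A|` -/
theorem ASx.mem_of_loc [Finite X] (h : ASx S T A) {z : S} {P : Subgroup S} (L : Loc z P) (hi : S.index < Nat.card A) :
    ∃ g : X, g * z * g⁻¹ ∈ A := by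
  obtain ⟨g, -, hg⟩ := h.exists_loc L
  refine ⟨g, ?_⟩
  by_contra hc
  have h1 : S.subgroupOf A = ⊥ := by
    rw [eq_bot_iff]
    intro b hb
    rcases hg b b.2 (mem_subgroupOf.1 hb) with e | e
    · exact mem_bot.2 (Subtype.ext e)
    · exact absurd (e ▸ b.2) hc
  have h2 := h.card_le_inf_mul
  rw [h1, card_bot, one_mul] at h2
  omega

end group

section module

variable {H : Type u} [Group H] {M : Type v} [Group M] [MulDistribMulAction H M] {K T A : Subgroup H}

/-- `|M : C_M(x)| ≤ |A|`, `x ∈ A` -/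
theorem InX.index_le_card_of_mem [Finite M] (h : InX H M K T A) {x : H} (hx : x ∈ A) :
    (cv M ({x} : Set H)).index ≤ Nat.card A := by
  rw [← h.exact]
  exact Nat.le_of_dvd (Nat.pos_of_ne_zero index_ne_zero_of_finite)
    (index_dvd_of_le (cv_anti (Set.singleton_subset_iff.2 hx)))

/-- **an inverted element** -/
theorem InX.false_of_invAt [Finite M] (h : InX H M K T A) {x : H} (hx : x ∈ A) {n : ℕ} (hA : Nat.card A < 2 ^ n)
    (hi : InvAt x n) : False := by
  have h1 := InvRow.inv_big h.sq h.faith (h.el x hx) hi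
  have h2 := h.index_le_card_of_mem hx
  omega

/-- `cv{x} = cv A` if `|A| ≤ 2 ^ n` and `InvAt x n` -/
theorem InX.cv_eq_of_invAt [Finite M] (h : InX H M K T A) {x : H} (hx : x ∈ A) {n : ℕ} (hA : Nat.card A ≤ 2 ^ n)
    (hi : InvAt x n) : Nat.card A = 2 ^ n ∧ cv M ({x} : Set H) = cv M (A : Set H) := by
  have h1 := InvRow.inv_big h.sq h.faith (h.el x hx) hi
  have h2 := h.index_le_card_of_mem hx
  refine ⟨by omega, ?_⟩
  have h3 : cv M (A : Set H) ≤ cv M ({x} : Set H) := cv_anti (Set.singleton_subset_iff.2 hx)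
  refine (le_antisymm h3 ?_).symm
  rw [← relIndex_eq_one]
  have h4 : (cv M (A : Set H)).relIndex (cv M ({x} : Set H)) * (cv M ({x} : Set H)).index =
      (cv M (A : Set H)).index := relIndex_mul_index h3
  have h5 : (cv M (A : Set H)).index ≠ 0 := index_ne_zero_of_finite
  rw [h.exact] at h4 h5
  have h6 : (cv M ({x} : Set H)).index = Nat.card A := by omega
  rw [h6] at h4
  exact Nat.eq_of_mul_eq_mul_right (Nat.pos_of_ne_zero h5) (by rw [h4, one_mul])

/-- **The row with `Loc`**: `|Out(S)| < 4`, `InvAt z n`, `2 |Out(S)| < 2 ^ n`. -/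
theorem deadX_of_loc {𝒮 : ∀ (S : Type u) [Group S], Prop} (hs : ∀ (S : Type u) [Group S] [Finite S], 𝒮 S →
    ∃ (z : S) (P : Subgroup S) (n k : ℕ), Loc z P ∧ (MulAut.conj : S →* MulAut S).range.index ∣ k ∧ 0 < k ∧ k < 4 ∧
      2 * k < 2 ^ n ∧ InvAt z n) : DeadX.{u, v} 𝒮 := by
  intro H _ _ M _ _ _ K T A h hS
  obtain ⟨z, P, n, k, L, hk, hk0, hk4, hkn, hz⟩ := hs K hS
  have h1 : K.index ≤ k := Nat.le_of_dvd hk0 (h.asx.index_dvd hk)
  have h2 := h.four
  obtain ⟨g, hg⟩ := h.asx.mem_of_loc L (by omega)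
  have h3 := h.asx.card_le_mul_of_loc L
  refine h.false_of_invAt hg (n := n) (by omega) ?_
  exact (hz.map K.subtype K.subtype_injective).conj g

end module

end Cfsg.Agent.Omega.ML.Ex

end

section


/-!
# The exact K-list: an involution of `K` with a large fixed space (helper842)

* **`ASx.exists_even`** : (K-free) `1 ≠ a ∈ A` : there is `k ∈ S` with `a · kak⁻¹` of even order
  [otherwise `a` centralises `R ∩ S` for `T ≤ R < X`, so `S` (`nmax`)];
* `InX.exists_inv` : there is an involution `y ∈ K` with `|M : C_M(y)| ≤ |M : C_M(a)|²`;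
* `InX.exists_inv_four` : `|A| = 4` : there is an involution `y ∈ K` with `|M : C_M(y)| ≤ 16`;
* `InX.card_le_of_four` : `|A| = 4`, `K` is generated by `m` conjugates of every involution: `|M| ≤ 16^m`.
-/

set_option autoImplicit false

namespace Cfsg.Agent.Omega.ML.Ex

open Subgroup Cfsg Cfsg.Agent.ZN Cfsg.Agent.ClassTwoFusion.Quad
open Cfsg.Agent.MinSimple.VModule (o2_isPGroup o2_le le_o2 le_normalizer_o2)

universe u v

section grp

variable {X : Type u} [Group X] {S T A : Subgroup X}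

/-- `S` is generated by the `R ∩ S`, `T ≤ R < X`. -/
theorem ASx.le_of_forall [Finite X] (h : ASx S T A) {C : Subgroup X}
    (hC : ∀ R : Subgroup X, T ≤ R → R ≠ ⊤ → R ⊓ S ≤ C) : S ≤ C := by
  have hS := h.norm
  let W : Subgroup X := ⨆ (R : Subgroup X) (_ : T ≤ R ∧ R ≠ ⊤), R ⊓ S
  have hWC : W ≤ C := iSup_le fun R => iSup_le fun hR => hC R hR.1 hR.2
  have hle : ∀ R : Subgroup X, T ≤ R → R ≠ ⊤ → R ⊓ S ≤ W := fun R h1 h2 =>
    le_iSup_of_le R (le_iSup_of_le ⟨h1, h2⟩ le_rfl)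
  have hWS : W ≤ S := iSup_le fun R => iSup_le fun _ => inf_le_right
  -- `T` normalises `W`
  have hTW : T ≤ normalizer (W : Set X) := by
    intro t ht
    rw [mem_normalizer_iff_map_conj_eq]
    have h1 : ∀ s ∈ T, W.map (MulAut.conj s).toMonoidHom ≤ W := by
      intro s hs
      rw [Subgroup.map_iSup]
      refine iSup_le fun R => ?_
      rw [Subgroup.map_iSup]
      refine iSup_le fun hR => ?_
      refine le_trans ?_ (hle R hR.1 hR.2)
      rintro _ ⟨r, hr, rfl⟩
      exact ⟨R.mul_mem (R.mul_mem (hR.1 hs) hr.1) (R.inv_mem (hR.1 hs)), hS.conj_mem r hr.2 s⟩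
    refine le_antisymm (h1 t ht) ?_
    intro w hw
    have h2 := h1 t⁻¹ (inv_mem ht) ⟨w, hw, rfl⟩
    refine ⟨_, h2, ?_⟩
    simp [mul_assoc]
  -- `W ⊔ T = ⊤`
  have htop : T ⊔ W = ⊤ := by
    by_contra hne
    refine h.nmax ⟨T ⊔ W, hne, fun R hTR hR r hr => ?_⟩
    have h3 : r ∈ S ⊔ T := by rw [h.gen]; exact mem_top r
    rw [mem_sup_of_normal_left] at h3
    obtain ⟨s, hs, t, ht, rfl⟩ := h3
    have h4 : s ∈ R := by
      have := R.mul_mem hr (R.inv_mem (hTR ht))
      rwa [mul_inv_cancel_right] at this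
    exact mul_mem ((le_sup_right : W ≤ T ⊔ W) (hle R hTR hR ⟨h4, hs⟩)) ((le_sup_left : T ≤ T ⊔ W) ht)
  intro s hs
  have h3 : s ∈ ((T ⊔ W : Subgroup X) : Set X) := by rw [htop]; exact mem_top s
  rw [coe_mul_of_left_le_normalizer_right _ _ hTW] at h3
  obtain ⟨t, ht, w, hw, rfl⟩ := h3
  have h4 : t ∈ S := by
    have := S.mul_mem hs (S.inv_mem (hWS hw))
    change t * w * w⁻¹ ∈ S at this
    rwa [mul_inv_cancel_right] at this
  exact C.mul_mem (hC T le_rfl h.ne_top ⟨ht, h4⟩) (hWC hw)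

/-- **There is `k ∈ S` with `a · kak⁻¹` of even order.** -/
theorem ASx.exists_even [Finite X] (h : ASx S T A) {a : X} (ha : a ∈ A) (ha1 : a ≠ 1) :
    ∃ k ∈ S, 2 ∣ orderOf (a * (k * a * k⁻¹)) := by
  by_contra hcon
  push Not at hcon
  have h1 : S ≤ centralizer ({a} : Set X) := by
    refine h.le_of_forall fun R hTR hR r hr => ?_
    have hN : R ≤ normalizer (o2 R : Set X) := le_normalizer_o2 R
    have h2 : a ∈ o2 R := h.low R hTR hR ha
    have h3 : r * a * r⁻¹ ∈ o2 R := ((mem_normalizer_iff.1 (hN hr.1)) a).1 h2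
    have h4 : a * (r * a * r⁻¹) ∈ o2 R := mul_mem h2 h3
    obtain ⟨n, hn⟩ := (o2_isPGroup R) ⟨_, h4⟩
    have h5 : (a * (r * a * r⁻¹)) ^ 2 ^ n = 1 := congrArg Subtype.val hn
    obtain ⟨k, -, hk⟩ := (Nat.dvd_prime_pow Nat.prime_two).1 (orderOf_dvd_of_pow_eq_one h5)
    have h6 : k = 0 := by
      by_contra h6
      exact hcon r hr.2 (by rw [hk]; exact dvd_pow_self 2 h6)
    rw [h6, pow_zero, orderOf_eq_one_iff] at hk
    have h7 : a * a = 1 := h.el a ha
    rw [mem_centralizer_singleton_iff]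
    have h8 : r * a * r⁻¹ = a := by
      have h9 : a⁻¹ = a := inv_eq_of_mul_eq_one_right h7
      calc r * a * r⁻¹ = a⁻¹ * (a * (r * a * r⁻¹)) := by group
        _ = a := by rw [hk, mul_one, h9]
    calc r * a = (r * a * r⁻¹) * r := by group
      _ = a * r := by rw [h8]
  have h2 : a ∈ centralizer (S : Set X) := by
    rw [mem_centralizer_iff]
    intro s hs
    exact mem_centralizer_singleton_iff.1 (h1 hs)
  rw [h.cen] at h2
  exact ha1 (mem_bot.1 h2)

/-- An involution of `S` in `⟨a, a^k⟩`. -/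
theorem ASx.exists_inv_mem [Finite X] (h : ASx S T A) {a : X} (ha : a ∈ A) (ha1 : a ≠ 1) :
    ∃ k ∈ S, ∃ y ∈ S, y ≠ 1 ∧ y * y = 1 ∧ y ∈ zpowers (a * (k * a * k⁻¹)) := by
  obtain ⟨k, hk, m, hm⟩ := h.exists_even ha ha1
  set u : X := a * (k * a * k⁻¹) with hu
  have hS := h.norm
  have h7 : a * a = 1 := h.el a ha
  have h9 : a⁻¹ = a := inv_eq_of_mul_eq_one_right h7
  have h0 : 0 < orderOf u := orderOf_pos u
  have hm0 : 0 < m := by omega
  have huS : u ∈ S := by
    have h1 : u = (a * k * a⁻¹) * k⁻¹ := by rw [hu, h9]; group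
    rw [h1]
    exact S.mul_mem (hS.conj_mem k hk a) (S.inv_mem hk)
  refine ⟨k, hk, u ^ m, S.pow_mem huS m, ?_, ?_, (zpowers u).pow_mem (mem_zpowers u) m⟩
  · intro h1
    have h2 := orderOf_dvd_of_pow_eq_one h1
    have h3 := Nat.le_of_dvd hm0 h2
    omega
  · rw [← pow_add, ← two_mul, ← hm, pow_orderOf_eq_one]

end grp

section module

variable {H : Type u} [Group H] {M : Type v} [Group M] [MulDistribMulAction H M] {K T A : Subgroup H}

theorem index_inf_le_mul [Finite M] (U W : Subgroup M) : (U ⊓ W).index ≤ U.index * W.index := by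
  exact Subgroup.index_inf_le

/-- **An involution `y ∈ K` with `|M : C_M(y)| ≤ |M : C_M(a)|²`.** -/
theorem InX.exists_inv [Finite H] [Finite M] (h : InX H M K T A) {a : H} (ha : a ∈ A) (ha1 : a ≠ 1) :
    ∃ y ∈ K, y ≠ 1 ∧ y * y = 1 ∧
      (cv M ({y} : Set H)).index ≤ (cv M ({a} : Set H)).index * (cv M ({a} : Set H)).index := by
  obtain ⟨k, hk, y, hy, hy1, hyy, hyu⟩ := h.asx.exists_inv_mem ha ha1
  refine ⟨y, hy, hy1, hyy, ?_⟩
  have h1 : cv M ({a} : Set H) ⊓ cv M ({k * a * k⁻¹} : Set H) ≤ cv M ({y} : Set H) := by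
    rintro m ⟨h2, h3⟩
    have h2 : a • m = m := mem_cv_singleton.1 h2
    have h3 : (k * a * k⁻¹) • m = m := mem_cv_singleton.1 h3
    rw [mem_cv_singleton]
    have h4 : zpowers (a * (k * a * k⁻¹)) ≤ MulAction.stabilizer H m := by
      rw [zpowers_le, MulAction.mem_stabilizer_iff, mul_smul, h3, h2]
    exact MulAction.mem_stabilizer_iff.1 (h4 hyu)
  calc (cv M ({y} : Set H)).index ≤ (cv M ({a} : Set H) ⊓ cv M ({k * a * k⁻¹} : Set H)).index :=
        Nat.le_of_dvd (Nat.pos_of_ne_zero Subgroup.index_ne_zero_of_finite) (Subgroup.index_dvd_of_le h1)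
    _ ≤ (cv M ({a} : Set H)).index * (cv M ({k * a * k⁻¹} : Set H)).index := index_inf_le_mul _ _
    _ = _ := by rw [cv_conj_index]

/-- **`|A| = 4`** : an involution `y ∈ K` with `|M : C_M(y)| ≤ 16`. -/
theorem InX.exists_inv_four [Finite H] [Finite M] (h : InX H M K T A) (h4 : Nat.card A = 4) :
    ∃ y ∈ K, y ≠ 1 ∧ y * y = 1 ∧ (cv M ({y} : Set H)).index ≤ 16 := by
  have hn : Nontrivial A := (Subgroup.one_lt_card_iff_ne_bot A).1 (by omega) |> fun h1 =>
    (Subgroup.nontrivial_iff_ne_bot A).2 h1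
  obtain ⟨a, ha⟩ := exists_ne (1 : A)
  obtain ⟨y, hy, hy1, hyy, hle⟩ := h.exists_inv a.2 (fun h1 => ha (Subtype.ext h1))
  refine ⟨y, hy, hy1, hyy, hle.trans ?_⟩
  have h5 := h.index_le_four h4 a.2
  exact (Nat.mul_le_mul h5 h5).trans (by norm_num)

/-- **`|A| = 4`**, `K` is generated by `m` conjugates of every involution: `|M| ≤ 16^m`. -/
theorem InX.card_le_of_four [Finite H] [Finite M] (h : InX H M K T A) (h4 : Nat.card A = 4) {m : ℕ}
    (hg : ∀ x : K, x ≠ 1 → x * x = 1 → ∃ l : Fin m → K, closure (Set.range fun i => l i * x * (l i)⁻¹) = ⊤) :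
    Nat.card M ≤ 16 ^ m := by
  obtain ⟨y, hy, hy1, hyy, hle⟩ := h.exists_inv_four h4
  obtain ⟨l, hl⟩ := hg ⟨y, hy⟩ (fun h1 => hy1 (congrArg Subtype.val h1)) (Subtype.ext hyy)
  have h3 : K ≤ closure (Set.range fun i => (l i : H) * y * (l i : H)⁻¹) := by
    have h3 := congrArg (Subgroup.map K.subtype) hl
    rw [MonoidHom.map_closure, ← Set.range_comp, ← MonoidHom.range_eq_map, range_subtype] at h3
    exact le_of_eq h3.symm
  exact (Gen.card_le_conj_index h y _ h3).trans (Nat.pow_le_pow_left hle m)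

end module

end Cfsg.Agent.Omega.ML.Ex

end

section


/-!
# The K-list for EXACT subgroups (EXL), T5: inverted elements (helper661)

`H` acts on the group `M` of exponent 2, `A ≤ H` elementary abelian with `|M : C_M(A)| ≤ |A|` (`hex`; exact or strict).

* `index_le` : `|M : C_M(x)| ≤ |A|` for `x ∈ A`;
* **`lt_or_eq`** (D) : `|M : C_M(x)| < |A|` or `EQ(x)`: `C_M(x) = C_M(A)`;
* **`exists_normal`** : `EQ(x)` ⟹ `C_H(x)` has a normal elementary abelian 2-subgroup `E ≥ A`;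
* `inv_le` (I) : `x ∈ A` inverts `w` of odd order ⟹ `|M : C_M(w)| ≤ |A|²`;
* `inv_card` : `x ∈ A`, `InvAt x n` ⟹ `2 ^ n ≤ |A|`;  **`inv_eq`** : if moreover `|A| ≤ 2 ^ n` : `|A| = 2 ^ n` and `EQ(x)`;
* `InX.{card_le, index_le, exists_mem, inv_lt, inv_eq, exists_sub}` : the same for the literal situation, with `K` simple;
* **`dead`**, `dead_strong` : rows.
-/

set_option autoImplicit false

namespace Cfsg.Agent.Omega.ML.Ex.Inv

open Subgroup Cfsg Cfsg.Agent.ZN Cfsg.Agent.Omega.NOThree.NoOver Cfsg.Agent.Omega.ML.CD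
open Cfsg.Agent.Omega.ML.InvChain Cfsg.Agent.Omega.TwoF
open Cfsg.Agent.ClassTwoFusion.Quad

universe u v w

section weak

variable {H : Type u} [Group H] {M : Type v} [Group M] [MulDistribMulAction H M] {A : Subgroup H}

/-- `|M : C_M(x)| ≤ |A|` -/
theorem index_le [Finite M] (hex : (cv M (A : Set H)).index ≤ Nat.card A) {x : H} (hx : x ∈ A) :
    (cv M ({x} : Set H)).index ≤ Nat.card A :=
  (Nat.le_of_dvd (Nat.pos_of_ne_zero index_ne_zero_of_finite)
    (index_dvd_of_le (cv_anti (Set.singleton_subset_iff.2 hx)))).trans hex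

/-- **(D) The dichotomy** -/
theorem lt_or_eq [Finite M] (hex : (cv M (A : Set H)).index ≤ Nat.card A) {x : H} (hx : x ∈ A) :
    (cv M ({x} : Set H)).index < Nat.card A ∨ cv M ({x} : Set H) = cv M (A : Set H) := by
  have hle : cv M (A : Set H) ≤ cv M ({x} : Set H) := cv_anti (Set.singleton_subset_iff.2 hx)
  rcases lt_or_ge (cv M ({x} : Set H)).index (Nat.card A) with h1 | h1
  · exact Or.inl h1
  · right
    refine le_antisymm ?_ hle
    rw [← relIndex_eq_one]
    have h2 : (cv M (A : Set H)).relIndex (cv M ({x} : Set H)) * (cv M ({x} : Set H)).index =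
      (cv M (A : Set H)).index := relIndex_mul_index hle
    have h3 : 0 < (cv M ({x} : Set H)).index := Nat.pos_of_ne_zero index_ne_zero_of_finite
    have h4 : 0 < (cv M (A : Set H)).relIndex (cv M ({x} : Set H)) := by
      refine Nat.pos_of_ne_zero fun h5 => ?_
      rw [h5, zero_mul] at h2
      exact index_ne_zero_of_finite h2.symm
    by_contra h5
    have h6 : 2 ≤ (cv M (A : Set H)).relIndex (cv M ({x} : Set H)) := by omega
    have h7 : 2 * (cv M ({x} : Set H)).index ≤ (cv M (A : Set H)).index := by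
      rw [← h2]
      exact Nat.mul_le_mul_right _ h6
    omega

theorem eq_of_le [Finite M] (hex : (cv M (A : Set H)).index ≤ Nat.card A) {x : H} (hx : x ∈ A)
    (h : Nat.card A ≤ (cv M ({x} : Set H)).index) : cv M ({x} : Set H) = cv M (A : Set H) :=
  (lt_or_eq hex hx).resolve_left (by omega)

/-- `EQ(x)` : `A` is quadratic. -/
theorem com_of_eq (sq : ∀ m : M, m * m = 1) {x : H} (hx2 : x * x = 1) (hxc : ∀ a ∈ A, a * x = x * a)
    (heq : cv M ({x} : Set H) = cv M (A : Set H)) {a : H} (ha : a ∈ A) (m : M) :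
    (a • m) * m⁻¹ ∈ cv M (A : Set H) := by
  have hc := InvFrob.comm_of_sq sq
  have hi : ∀ y : M, y⁻¹ = y := fun y => inv_eq_of_mul_eq_one_right (sq y)
  have h1 : (x • m) * m ∈ cv M ({x} : Set H) := by
    rw [mem_cv_singleton, smul_mul', ← mul_smul, hx2, one_smul, hc]
  rw [heq] at h1
  have h2 : a • ((x • m) * m) = (x • m) * m := h1 a ha
  rw [hi, ← heq, mem_cv_singleton, smul_mul', ← mul_smul, ← hxc a ha, mul_smul]
  rw [smul_mul'] at h2
  have h3 : a • x • m = (x • m) * m * (a • m) := by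
    rw [← h2, mul_assoc, sq, mul_one]
  rw [h3]
  calc (x • m) * m * (a • m) * (x • m) = (x • m) * (m * (a • m)) * (x • m) := by rw [mul_assoc (x • m) m]
    _ = (x • m) * (x • m) * (m * (a • m)) := by rw [mul_assoc, hc (m * (a • m)), ← mul_assoc]
    _ = (a • m) * m := by rw [sq, one_mul, hc]

/-- `EQ(x)` : `A ≤ EE(C_M(A))`. -/
theorem le_EE (sq : ∀ m : M, m * m = 1) {x : H} (hx2 : x * x = 1) (hxc : ∀ a ∈ A, a * x = x * a)
    (heq : cv M ({x} : Set H) = cv M (A : Set H)) : A ≤ (TIE.EE (cv M (A : Set H)) : Subgroup H) :=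
  fun _ ha => ⟨fun _ hm => hm _ ha, fun m => com_of_eq sq hx2 hxc heq ha m⟩

/-- **`EQ(x)` ⟹ `C_H(x)` has a normal elementary abelian 2-subgroup which contains `A`.** -/
theorem exists_normal (sq : ∀ m : M, m * m = 1) (faith : ∀ h : H, (∀ m : M, h • m = m) → h = 1)
    (el : ∀ a ∈ A, a * a = 1) {x : H} (hx : x ∈ A) (heq : cv M ({x} : Set H) = cv M (A : Set H)) :
    ∃ E : Subgroup H, A ≤ E ∧ (∀ e ∈ E, e * e = 1) ∧ cv M (E : Set H) = cv M (A : Set H) ∧
      (∀ e ∈ E, ∀ m : M, (e • m) * m⁻¹ ∈ cv M (A : Set H)) ∧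
      ∀ g : H, g * x = x * g → ∀ e ∈ E, g * e * g⁻¹ ∈ E := by
  have hA : ∀ a ∈ A, a * x = x * a := by
    intro a ha
    have h1 : ∀ z ∈ A, z⁻¹ = z := fun z hz => inv_eq_of_mul_eq_one_right (el z hz)
    calc a * x = (a * x)⁻¹ := (h1 _ (A.mul_mem ha hx)).symm
      _ = x⁻¹ * a⁻¹ := mul_inv_rev _ _
      _ = x * a := by rw [h1 _ ha, h1 _ hx]
  have hle := le_EE sq (el x hx) hA heq
  refine ⟨TIE.EE (cv M (A : Set H)), hle, fun e he => TIE.EE_sq sq faith he, ?_, fun e he => he.2, ?_⟩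
  · refine le_antisymm (cv_anti (SetLike.coe_subset_coe.2 hle)) ?_
    intro m hm e he
    exact he.1 m hm
  · intro g hg e he
    refine TIE.smul_mem_EE (fun m => ?_) he
    rw [← heq, mem_cv_singleton, mem_cv_singleton, ← mul_smul, ← hg, mul_smul, smul_left_cancel_iff]

/-- **(I)** `x ∈ A` inverts `w` of odd order ⟹ `|M : C_M(w)| ≤ |A|²` -/
theorem inv_le [Finite M] (hex : (cv M (A : Set H)).index ≤ Nat.card A) (el : ∀ a ∈ A, a * a = 1) {x w : H}
    (hx : x ∈ A) {n : ℕ} (hw : x * w * x⁻¹ = w⁻¹) (ho : Odd n) (hn : w ^ n = 1) :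
    (cv M ({w} : Set H)).index ≤ Nat.card A ^ 2 :=
  (InvFrob.inv_index (M := M) (el x hx) hw ho hn).trans (Nat.pow_le_pow_left (index_le hex hx) 2)

/-- `InvAt x n` ⟹ `2 ^ n ≤ |A|` -/
theorem inv_card [Finite M] (sq : ∀ m : M, m * m = 1) (faith : ∀ h : H, (∀ m : M, h • m = m) → h = 1)
    (hex : (cv M (A : Set H)).index ≤ Nat.card A) (el : ∀ a ∈ A, a * a = 1) {x : H} (hx : x ∈ A) {n : ℕ}
    (h : InvAt x n) : 2 ^ n ≤ Nat.card A :=
  (InvRow.inv_big sq faith (el x hx) h).trans (index_le hex hx)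

/-- **`InvAt x n`, `|A| ≤ 2 ^ n`** : `|A| = 2 ^ n` and `EQ(x)` -/
theorem inv_eq [Finite M] (sq : ∀ m : M, m * m = 1) (faith : ∀ h : H, (∀ m : M, h • m = m) → h = 1)
    (hex : (cv M (A : Set H)).index ≤ Nat.card A) (el : ∀ a ∈ A, a * a = 1) {x : H} (hx : x ∈ A) {n : ℕ}
    (hn : Nat.card A ≤ 2 ^ n) (h : InvAt x n) :
    Nat.card A = 2 ^ n ∧ cv M ({x} : Set H) = cv M (A : Set H) := by
  have h1 := InvRow.inv_big sq faith (el x hx) h
  exact ⟨le_antisymm hn (inv_card sq faith hex el hx h), eq_of_le hex hx (hn.trans h1)⟩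

end weak

section lit

variable {H : Type u} [Group H] {M : Type v} [Group M] [MulDistribMulAction H M] {K T A : Subgroup H}

/-- `H` acts faithfully on `K`. -/
theorem conjNormal_injective [K.Normal] (hc : centralizer (K : Set H) = ⊥) :
    Function.Injective (MulAut.conjNormal : H →* MulAut K) := by
  rw [injective_iff_map_eq_one]
  intro g hg
  rw [← mem_bot, ← hc, mem_centralizer_iff]
  intro k hk
  have h1 := congrArg (fun φ : MulAut K => ((φ ⟨k, hk⟩ : K) : H)) hg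
  simp only [MulAut.conjNormal_apply, MulAut.one_apply] at h1
  exact (mul_inv_eq_iff_eq_mul.1 h1).symm

/-- `|H : K| ≤ |Out(K)|` -/
theorem asx_index_le [Finite H] (h : ASx K T A) : K.index ≤ (MulAut.conj : K →* MulAut K).range.index := by
  have hN := h.norm
  have : Finite (MulAut K) :=
    Finite.of_injective (fun φ => (φ : K → K)) DFunLike.coe_injective
  set R := (MulAut.conj : K →* MulAut K).range with hR
  have h1 : R.comap (MulAut.conjNormal : H →* MulAut K) ≤ K := by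
    intro g hg
    obtain ⟨k, hk⟩ := hg
    have h3 : (MulAut.conjNormal (k : H) : MulAut K) = MulAut.conj k := by
      ext x
      rw [MulAut.conjNormal_apply, MulAut.conj_apply]
      rfl
    have h2 := conjNormal_injective h.cen (h3.trans hk)
    rw [← h2]
    exact k.2
  calc K.index ≤ (R.comap (MulAut.conjNormal : H →* MulAut K)).index :=
        Nat.le_of_dvd (Nat.pos_of_ne_zero index_ne_zero_of_finite) (index_dvd_of_le h1)
    _ = R.relIndex (MulAut.conjNormal : H →* MulAut K).range := by rw [index_comap]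
    _ ≤ R.relIndex ⊤ := relIndex_le_of_le_right le_top (by rw [relIndex_top_right]; exact index_ne_zero_of_finite)
    _ = R.index := relIndex_top_right R

/-- **`|A| ≤ 2 ^ n`** if `RK K n` -/
theorem asx_card_le (h : ASx K T A) {n : ℕ} (hrk : RK K n) : Nat.card A ≤ 2 ^ n := by
  have hN := h.norm
  refine hrk.card_le_of_injective ((MulAut.conjNormal : H →* MulAut K).comp A.subtype)
    ((conjNormal_injective h.cen).comp A.subtype_injective) (fun x => ?_)
  rw [pow_two]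
  exact Subtype.ext (h.el x x.2)

/-- `|A| ≤ |Out(K)| |A ∩ K|` -/
theorem asx_card_inf [Finite H] (h : ASx K T A) :
    Nat.card A ≤ (MulAut.conj : K →* MulAut K).range.index * Nat.card ↥(K ⊓ A) := by
  have hN := h.norm
  have h1 : K.relIndex A * Nat.card ↥(K ⊓ A) = Nat.card A := by
    have h2 := relIndex_mul_relIndex (⊥ : Subgroup H) (K ⊓ A) A bot_le inf_le_right
    rw [relIndex_bot_left, relIndex_bot_left, inf_relIndex_right, mul_comm] at h2
    exact h2
  have h3 : K.relIndex A ≤ K.relIndex ⊤ :=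
    relIndex_le_of_le_right le_top (by rw [relIndex_top_right]; exact index_ne_zero_of_finite)
  rw [relIndex_top_right] at h3
  rw [← h1]
  exact Nat.mul_le_mul_right _ (h3.trans (asx_index_le h))

/-- **`A ∩ K ≠ 1`** if `|Out K| < |A|` -/
theorem asx_exists_mem [Finite H] (h : ASx K T A)
    (hout : (MulAut.conj : K →* MulAut K).range.index < Nat.card A) : ∃ x ∈ A, x ∈ K ∧ x ≠ 1 := by
  by_contra hc
  push Not at hc
  have h1 : K ⊓ A = ⊥ := by
    rw [eq_bot_iff]
    rintro x ⟨hx1, hx2⟩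
    exact hc x hx2 hx1
  have h2 := asx_card_inf h
  rw [h1, card_bot, mul_one] at h2
  omega

/-- `x ∈ A ∩ K`, `InvAt x n` in `K` : `2 ^ n ≤ |A|` -/
theorem inX_inv_card [Finite M] (h : InX H M K T A) {n : ℕ} {x : K} (hxA : (x : H) ∈ A) (hx : InvAt x n) :
    2 ^ n ≤ Nat.card A :=
  inv_card h.sq h.faith h.exact.le h.el hxA (hx.map K.subtype K.subtype_injective)

/-- **`x ∈ A ∩ K`, `InvAt x n` in `K`, `|A| ≤ 2 ^ n`** : `|A| = 2 ^ n` and `EQ(x)` -/
theorem inX_inv_eq [Finite M] (h : InX H M K T A) {n : ℕ} (hn : Nat.card A ≤ 2 ^ n) {x : K} (hxA : (x : H) ∈ A)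
    (hx : InvAt x n) : Nat.card A = 2 ^ n ∧ cv M ({(x : H)} : Set H) = cv M (A : Set H) :=
  inv_eq h.sq h.faith h.exact.le h.el hxA hn (hx.map K.subtype K.subtype_injective)

/-- **`EQ(x)`, `x ∈ K`** : `C_K(x)` has a normal elementary abelian subgroup `E ∋ x` which contains `A ∩ K`, and
`|A| ≤ |Out K| |E|`. -/
theorem inX_exists_sub [Finite H] (h : InX H M K T A) {x : K} (hxA : (x : H) ∈ A)
    (heq : cv M ({(x : H)} : Set H) = cv M (A : Set H)) :
    ∃ E : Subgroup K, x ∈ E ∧ A.subgroupOf K ≤ E ∧ (∀ e ∈ E, e * e = 1) ∧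
      (∀ g : K, g * x = x * g → ∀ e ∈ E, g * e * g⁻¹ ∈ E) ∧
      Nat.card A ≤ (MulAut.conj : K →* MulAut K).range.index * Nat.card E := by
  obtain ⟨E, h1, h2, -, -, h3⟩ := exists_normal h.sq h.faith h.el hxA heq
  have h4 : A.subgroupOf K ≤ E.subgroupOf K := fun y hy => h1 hy
  refine ⟨E.subgroupOf K, h1 hxA, h4, fun e he => Subtype.ext (h2 e he), fun g hg e he => ?_, ?_⟩
  · exact h3 g (congrArg Subtype.val hg) e he
  · refine (asx_card_inf h.asx).trans (Nat.mul_le_mul_left _ ?_)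
    have h5 : Nat.card ↥(K ⊓ A) = Nat.card (A.subgroupOf K) := by
      have h6 : (A.subgroupOf K).map K.subtype = K ⊓ A := by
        rw [subgroupOf_map_subtype, inf_comm]
      rw [← h6]
      exact (Nat.card_congr ((A.subgroupOf K).equivMapOfInjective K.subtype K.subtype_injective).toEquiv).symm
    rw [h5]
    exact card_le_of_le h4

/-- **The row** : `RK S n`, `|Out S| < 4`, for all involutions `x` : `InvAt x n` and `|Out S| |E| < 2 ^ n` for all elementary
abelian `E ∋ x` which are normal in `C_S(x)`. -/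
theorem dead {𝒮 : ∀ (S : Type u) [Group S], Prop} (h𝒮 : ∀ (S : Type u) [Group S] [Finite S], 𝒮 S → ∃ n, RK S n ∧
    (MulAut.conj : S →* MulAut S).range.index < 4 ∧ ∀ x : S, x * x = 1 → x ≠ 1 → InvAt x n ∧
      ∀ E : Subgroup S, x ∈ E → (∀ e ∈ E, e * e = 1) → (∀ g : S, g * x = x * g → ∀ e ∈ E, g * e * g⁻¹ ∈ E) →
        (MulAut.conj : S →* MulAut S).range.index * Nat.card E < 2 ^ n) : DeadX.{u, v} 𝒮 := by
  intro H _ _ M _ _ _ K T A h hS
  obtain ⟨n, hrk, hout, hinv⟩ := h𝒮 _ hS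
  obtain ⟨x, hxA, hxK, hx1⟩ := asx_exists_mem h.asx (hout.trans_le h.four)
  obtain ⟨h1, h2⟩ := hinv ⟨x, hxK⟩ (Subtype.ext (h.el x hxA)) fun h3 => hx1 (congrArg Subtype.val h3)
  obtain ⟨h3, h4⟩ := inX_inv_eq h (asx_card_le h.asx hrk) (x := ⟨x, hxK⟩) hxA h1
  obtain ⟨E, h5, -, h6, h7, h8⟩ := inX_exists_sub h (x := ⟨x, hxK⟩) hxA h4
  have h9 := h2 E h5 h6 h7
  omega

/-- The row if `RK S n` and `InvAt x (n + 1)` for all involutions. -/
theorem dead_strong {𝒮 : ∀ (S : Type u) [Group S], Prop} (h𝒮 : ∀ (S : Type u) [Group S] [Finite S], 𝒮 S → ∃ n,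
    RK S n ∧ (MulAut.conj : S →* MulAut S).range.index < 4 ∧ ∀ x : S, x * x = 1 → x ≠ 1 → InvAt x (n + 1)) :
    DeadX.{u, v} 𝒮 := by
  intro H _ _ M _ _ _ K T A h hS
  obtain ⟨n, hrk, hout, hinv⟩ := h𝒮 _ hS
  obtain ⟨x, hxA, hxK, hx1⟩ := asx_exists_mem h.asx (hout.trans_le h.four)
  have h1 := hinv ⟨x, hxK⟩ (Subtype.ext (h.el x hxA)) fun h3 => hx1 (congrArg Subtype.val h3)
  have h2 := inX_inv_card h (x := ⟨x, hxK⟩) hxA h1
  have h3 := asx_card_le h.asx hrk
  have h4 : 2 ^ n < 2 ^ (n + 1) := Nat.pow_lt_pow_right (by norm_num) (Nat.lt_succ_self n)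
  omega

end lit

end Cfsg.Agent.Omega.ML.Ex.Inv

end

section


/-!
# The K-list for EXACT subgroups: all forms of a row give `DeadN` (helper441)

* `InN.toA` : 995's `InN H N K T A` gives `InA H N K T A`;
* **`DeadA.deadN`**, **`Row.deadN`** : a row over `InA`, or over both modules, gives `DeadN` (995's `DeadX.deadN` is the
  third conversion);  `DeadN.mono'`.
-/

set_option autoImplicit false

namespace Cfsg.Agent.Omega.ML.Ex

open Subgroup Cfsg Cfsg.Agent.ZN Cfsg.Agent.Omega.NOThree.NoOver Cfsg.Agent.Omega.ML.CD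
open Cfsg.Agent.ClassTwoFusion.Quad Cfsg.Agent.Omega.ML.MinFrame

universe u v

theorem InN.toA {H : Type u} [Group H] {N : Type v} [Group N] [MulDistribMulAction H N] {K T A : Subgroup H}
    (h : InN H N K T A) : InA H N K T A where
  sq := h.sq
  faith := h.faith
  norm := h.norm
  simple := h.simple
  cen := h.cen
  gen := h.gen
  two := h.two
  syl := h.syl
  AT := h.AT
  el := h.el
  four := h.four
  exact := h.exact
  atom := h.atom
  low := h.low
  nmax := h.nmax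

/-- **Rows over `InA` are rows for `InN`.** -/
theorem DeadA.deadN {𝒮 : ∀ (S : Type u) [Group S], Prop} (hd : DeadA.{u, v} 𝒮) : DeadN.{u, v} 𝒮 :=
  fun H _ _ N _ _ _ K T A h hS => hd H N K T A h.toA hS

/-- **Rows over both modules are rows for `InN`.** -/
theorem Row.deadN {𝒮 : ∀ (S : Type u) [Group S], Prop} (hd : Row.{u, v} 𝒮) : DeadN.{u, v} 𝒮 := by
  intro H _ _ N _ _ _ K T A h hS
  have hnor := h.ck_normal
  let _ := modAct (H := H) (InN.ck N K) h.smul_mem_ck
  exact hd H (N ⧸ InN.ck N K) N K T A h.inX h.toA hS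

/-- smaller classes -/
theorem DeadN.mono' {𝒮 𝒮' : ∀ (S : Type u) [Group S], Prop} (h : DeadN.{u, v} 𝒮)
    (h' : ∀ (S : Type u) [Group S], 𝒮' S → 𝒮 S) : DeadN.{u, v} 𝒮' :=
  fun H _ _ N _ _ _ K T A hI hS => h H N K T A hI (h' _ hS)

end Cfsg.Agent.Omega.ML.Ex

end

section


/-!
# The K-list for EXACT subgroups: the bridges between the literals (helper585)

`DeadN 𝒮` (helper995) is the weakest form of a row:

* `InN.inA` : the module `N` of `InN` is as in `InA`;
* **`DeadX.deadN`** (DefN.lean), **`DeadA.deadN`**, **`Row.deadN`** (InAN.lean) : every form of a row gives `DeadN`;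
* `DeadN.mono`, `DeadN.or`;
* `InX.inN` : `InX` and `Atm M A` give `InN` (and `InA`) for the same module.
-/

set_option autoImplicit false

namespace Cfsg.Agent.Omega.ML.Ex

open Subgroup Cfsg Cfsg.Agent.ZN Cfsg.Agent.ClassTwoFusion.Quad Cfsg.Agent.Omega.ML.MinFrame

universe u v

section

variable {H : Type u} [Group H] {N : Type v} [Group N] [MulDistribMulAction H N] {K T A : Subgroup H}

/-- the module `N` of `InN` with its exact atom -/
theorem InN.inA (h : InN H N K T A) : InA H N K T A where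
  sq := h.sq
  faith := h.faith
  norm := h.norm
  simple := h.simple
  cen := h.cen
  gen := h.gen
  two := h.two
  syl := h.syl
  AT := h.AT
  el := h.el
  four := h.four
  exact := h.exact
  atom := h.atom
  low := h.low
  nmax := h.nmax

/-- an atom of an irreducible module -/
theorem InX.inN [Finite H] [Finite N] (h : InX H N K T A) (hat : Atm N A) : InN H N K T A := InN.of_inX h hat

end

/-- smaller classes -/
theorem DeadN.mono {𝒮 𝒮' : ∀ (S : Type u) [Group S], Prop} (h : DeadN.{u, v} 𝒮)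
    (h' : ∀ (S : Type u) [Group S], 𝒮' S → 𝒮 S) : DeadN.{u, v} 𝒮' :=
  fun H _ _ N _ _ _ K T A hI hS => h H N K T A hI (h' _ hS)

theorem DeadN.or {𝒮 𝒮' : ∀ (S : Type u) [Group S], Prop} (h : DeadN.{u, v} 𝒮) (h' : DeadN.{u, v} 𝒮') :
    DeadN.{u, v} fun S _ => 𝒮 S ∨ 𝒮' S :=
  fun H _ _ N _ _ _ K T A hI hS =>
    hS.elim (fun h1 => h H N K T A hI h1) fun h1 => h' H N K T A hI h1

end Cfsg.Agent.Omega.ML.Ex

end

section


/-!
# The K-list for EXACT ATOMS (EXL), over `InN`: the list of all rows (helper484)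

* `InN.not_comm`, `InN.not_primeCyclic` (`DeadN.mono`, `DeadN.or` : Bridge.lean);
* **`RowsX.exitN`** : from the rows `RowsX` and the row `A₆` for atoms: in the situation `InN` a known `K` is of Lie type
  in characteristic 2 or `U₃(3) = G₂(2)'`;
* `RowsX.exitA` : the same for `InX` and an atom `A`;
* `RowsN` : the list with fields `DeadN 𝒮`, if some row is known for atoms only; **`RowsN.exit`**, `RowsN.exitX`;
  `RowsX.rowsN`.
-/

set_option autoImplicit false

namespace Cfsg.Agent.Omega.ML.Ex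

open Subgroup Cfsg Cfsg.Agent.Omega.ML.Known Cfsg.Agent.Omega.ML.Rows

universe u v

/-- `K` is not abelian -/
theorem InN.not_comm {H : Type u} [Group H] {M : Type v} [Group M] [MulDistribMulAction H M] {K T A : Subgroup H}
    (h : InN H M K T A) : ¬ ∀ a b : K, a * b = b * a := by
  intro hc
  have h1 : K ≤ centralizer (K : Set H) := by
    intro x hx
    rw [mem_centralizer_iff]
    intro y hy
    exact congrArg Subtype.val (hc ⟨y, hy⟩ ⟨x, hx⟩)
  rw [h.cen] at h1
  have hs := h.simple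
  obtain ⟨x, hx⟩ := exists_ne (1 : K)
  exact hx (Subtype.ext (mem_bot.1 (h1 x.2)))

/-- `K` is not of prime order -/
theorem InN.not_primeCyclic {H : Type u} [Group H] {M : Type v} [Group M] [MulDistribMulAction H M]
    {K T A : Subgroup H} (h : InN H M K T A) : ¬ IsPrimeCyclic K := by
  intro hc
  have h1 : Nat.Prime (Nat.card K) := hc
  have : Fact (Nat.card K).Prime := ⟨h1⟩
  have hcyc : IsCyclic K := isCyclic_of_prime_card (α := K) rfl
  exact h.not_comm fun x y => (IsCyclic.commGroup (α := K)).mul_comm x y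

/-- **The rows of the list (EXL), atoms.** -/
structure RowsN : Prop where
  a6 : DeadN.{u, v} fun S _ => Nonempty (S ≃* alternatingGroup (Fin 6))
  alt : DeadN.{u, v} fun S _ => ∃ n : ℕ, 7 ≤ n ∧ n ≠ 8 ∧ Nonempty (S ≃* alternatingGroup (Fin n))
  odd : DeadN.{u, v} fun S _ => OddLie S ∧ ¬ IsLieTypeChar 2 S ∧ ¬ IsUThreeThree S ∧ ¬ IsAlt6 S
  tits : DeadN.{u, v} @Lie.IsoTits
  m11 : DeadN.{u, v} @Spor.IsoM11
  m12 : DeadN.{u, v} @Spor.IsoM12
  m22 : DeadN.{u, v} @Spor.IsoM22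
  m23 : DeadN.{u, v} @Spor.IsoM23
  m24 : DeadN.{u, v} @Spor.IsoM24
  j1 : DeadN.{u, v} @Spor.IsoJ1
  j2 : DeadN.{u, v} @Spor.IsoJ2
  j3 : DeadN.{u, v} @Spor.IsoJ3
  j4 : DeadN.{u, v} @Spor.IsoJ4
  co1 : DeadN.{u, v} @Spor.IsoCo1
  co2 : DeadN.{u, v} @Spor.IsoCo2
  co3 : DeadN.{u, v} @Spor.IsoCo3
  mcl : DeadN.{u, v} @Spor.IsoMcL
  hs : DeadN.{u, v} @Spor.IsoHS
  suz : DeadN.{u, v} @Spor.IsoSuz
  he : DeadN.{u, v} @Spor.IsoHe
  ru : DeadN.{u, v} @Spor.IsoRu
  on : DeadN.{u, v} @Spor.IsoON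
  ly : DeadN.{u, v} @Spor.IsoLy
  fi22 : DeadN.{u, v} @Spor.IsoFi22
  fi23 : DeadN.{u, v} @Spor.IsoFi23
  fi24 : DeadN.{u, v} @Spor.IsoFi24'
  hn : DeadN.{u, v} @Spor.IsoHN
  th : DeadN.{u, v} @Spor.IsoTh
  b : DeadN.{u, v} @Spor.IsoB
  m : DeadN.{u, v} @Spor.IsoM

/-- rows over `InX` are rows over `InN` -/
theorem RowsX.rowsN (R : RowsX.{u, v}) (a6 : DeadN.{u, v} fun S _ => Nonempty (S ≃* alternatingGroup (Fin 6))) :
    RowsN.{u, v} where
  a6 := a6
  alt := R.alt.deadN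
  odd := R.odd.deadN
  tits := R.tits.deadN
  m11 := R.m11.deadN
  m12 := R.m12.deadN
  m22 := R.m22.deadN
  m23 := R.m23.deadN
  m24 := R.m24.deadN
  j1 := R.j1.deadN
  j2 := R.j2.deadN
  j3 := R.j3.deadN
  j4 := R.j4.deadN
  co1 := R.co1.deadN
  co2 := R.co2.deadN
  co3 := R.co3.deadN
  mcl := R.mcl.deadN
  hs := R.hs.deadN
  suz := R.suz.deadN
  he := R.he.deadN
  ru := R.ru.deadN
  on := R.on.deadN
  ly := R.ly.deadN
  fi22 := R.fi22.deadN
  fi23 := R.fi23.deadN
  fi24 := R.fi24.deadN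
  hn := R.hn.deadN
  th := R.th.deadN
  b := R.b.deadN
  m := R.m.deadN

/-- **All rows: in the situation `InN` a known simple group `K` is of Lie type in characteristic 2 or `U₃(3)`.** -/
theorem RowsN.exit (R : RowsN.{u, v}) {H : Type u} [Group H] [Finite H] {M : Type v} [Group M] [Finite M]
    [MulDistribMulAction H M] {K T A : Subgroup H} (hI : InN H M K T A) (hS : IsKnownSimple' K) :
    IsLieTypeChar 2 K ∨ IsUThreeThree K := by
  by_contra hcon
  rw [not_or] at hcon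
  obtain ⟨hc2, hc3⟩ := hcon
  by_cases hc6 : Nonempty (K ≃* alternatingGroup (Fin 6))
  · exact R.a6 H M K T A hI hc6
  rcases cases hS with h | h | h | h | h | h | h
  · exact hI.not_primeCyclic h
  · exact hc2 h
  · exact R.odd H M K T A hI ⟨h.1, h.2, hc3, hc6⟩
  · exact hc6 h
  · exact R.alt H M K T A hI h
  · exact R.tits H M K T A hI h
  · unfold IsSporadicGroup at h
    rcases h with h | h | h | h | h | h | h | h | h | h | h | h | h | h | h | h | h | h | h | h | h | h | h | h | h | h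
    · exact R.m11 H M K T A hI h
    · exact R.m12 H M K T A hI h
    · exact R.m22 H M K T A hI h
    · exact R.m23 H M K T A hI h
    · exact R.m24 H M K T A hI h
    · exact R.j1 H M K T A hI h
    · exact R.j2 H M K T A hI h
    · exact R.j3 H M K T A hI h
    · exact R.j4 H M K T A hI h
    · exact R.co1 H M K T A hI h
    · exact R.co2 H M K T A hI h
    · exact R.co3 H M K T A hI h
    · exact R.mcl H M K T A hI h
    · exact R.hs H M K T A hI h
    · exact R.suz H M K T A hI h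
    · exact R.he H M K T A hI h
    · exact R.ru H M K T A hI h
    · exact R.on H M K T A hI h
    · exact R.ly H M K T A hI h
    · exact R.fi22 H M K T A hI h
    · exact R.fi23 H M K T A hI h
    · exact R.fi24 H M K T A hI h
    · exact R.hn H M K T A hI h
    · exact R.th H M K T A hI h
    · exact R.b H M K T A hI h
    · exact R.m H M K T A hI h

/-- the same for an atom on an irreducible module -/
theorem RowsN.exitX (R : RowsN.{u, v}) {H : Type u} [Group H] [Finite H] {M : Type v} [Group M] [Finite M]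
    [MulDistribMulAction H M] {K T A : Subgroup H} (hI : InX H M K T A) (hA : Atm M A) (hS : IsKnownSimple' K) :
    IsLieTypeChar 2 K ∨ IsUThreeThree K :=
  R.exit (InN.of_inX hI hA) hS

/-- **All rows for atoms: in the situation `InN` a known simple group `K` is of Lie type in characteristic 2 or
`U₃(3)`.** -/
theorem RowsX.exitN (R : RowsX.{u, v}) (a6 : DeadN.{u, v} fun S _ => Nonempty (S ≃* alternatingGroup (Fin 6)))
    {H : Type u} [Group H] [Finite H] {M : Type v} [Group M] [Finite M]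
    [MulDistribMulAction H M] {K T A : Subgroup H} (hI : InN H M K T A) (hS : IsKnownSimple' K) :
    IsLieTypeChar 2 K ∨ IsUThreeThree K := by
  by_contra hcon
  rw [not_or] at hcon
  exact R.known.deadN H M K T A hI ⟨hS, hcon.1, hcon.2, fun h => a6 H M K T A hI h⟩

/-- the same for an atom on an irreducible module -/
theorem RowsX.exitA (R : RowsX.{u, v}) (a6 : DeadN.{u, v} fun S _ => Nonempty (S ≃* alternatingGroup (Fin 6)))
    {H : Type u} [Group H] [Finite H] {M : Type v} [Group M] [Finite M]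
    [MulDistribMulAction H M] {K T A : Subgroup H} (hI : InX H M K T A) (hA : Atm M A) (hS : IsKnownSimple' K) :
    IsLieTypeChar 2 K ∨ IsUThreeThree K :=
  R.exitN a6 (InN.of_inX hI hA) hS

end Cfsg.Agent.Omega.ML.Ex

end

section


/-!
# (LA) : the conjugates of `A` which lie in `O₂(C_H(m))` are low (helper854; helper396, 721, 809, 829)

* `LA H M T A m` : `m ≠ 1` is `T`-fixed and every conjugate of `A` in `O₂(C_H(m))` lies in `O₂(R)` for all `T ≤ R < H`;
* `PsR T B p m` : **THE LAST SITUATION of the K-route, any `R = ker p`** : `X` acts on `W`, trivially on `ker p`, `M = W / ker p`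
  is faithful, `O₂(X) = 1`, `M = ⟨m^X⟩`, `C_W(T) ≤ ker p`, `B ≤ T` exact atom of order `≥ 4`, low, with (LA) and (nmax).
-/

set_option autoImplicit false

namespace Cfsg.Agent.Omega.ML.Ex

open Subgroup Cfsg Cfsg.Agent.Omega.NOThree.NoOver
open Cfsg.Agent.ZN (o2)
open Cfsg.Agent.ClassTwoFusion.Quad (cv)

universe u v w

/-- **(LA)** -/
structure LA (H : Type u) [Group H] (M : Type v) [Group M] [MulDistribMulAction H M] (T A : Subgroup H) (m : M) :
    Prop where
  fix : ∀ t ∈ T, t • m = m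
  ne : m ≠ 1
  low : ∀ g : H, cj g A ≤ o2 (MulAction.stabilizer H m) → ∀ R : Subgroup H, T ≤ R → R ≠ ⊤ → cj g A ≤ o2 R

/-- **The last situation of the K-route.** -/
structure PsR {X : Type u} [Group X] {M : Type v} [CommGroup M] [MulDistribMulAction X M] {W : Type w} [CommGroup W]
    [MulDistribMulAction X W] (T B : Subgroup X) (p : W →* M) (m : M) : Prop where
  known : IsKGroupWith IsKnownSimple' X
  sq : ∀ w : W, w * w = 1
  eqv : ∀ (x : X) (w : W), p (x • w) = x • p w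
  surj : Function.Surjective p
  ker : ∀ w : W, p w = 1 → ∀ x : X, x • w = w
  faith : ∀ x : X, (∀ m : M, x • m = m) → x = 1
  core : ∀ N : Subgroup X, N.Normal → IsPGroup 2 N → N = ⊥
  two : IsPGroup 2 T
  syl : ¬ 2 ∣ T.index
  fixT : ∀ w : W, (∀ t ∈ T, t • w = w) → p w = 1
  gen : ∀ U : Subgroup M, (∀ x : X, ∀ u ∈ U, x • u ∈ U) → m ∈ U → U = ⊤
  BT : B ≤ T
  el : ∀ b ∈ B, b * b = 1
  quad : ∀ a ∈ B, ∀ b ∈ B, ∀ m : M, b • ((a • m) * m⁻¹) = (a • m) * m⁻¹
  four : 4 ≤ Nat.card B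
  exact : (cv M (B : Set X)).index = Nat.card B
  atom : ∀ C : Subgroup X, C ≤ B → C ≠ ⊥ → C ≠ B → Nat.card C < (cv M (C : Set X)).index
  low : ∀ R : Subgroup X, T ≤ R → R ≠ ⊤ → B ≤ o2 R
  nmax : ¬ ∃ N : Subgroup X, N ≠ ⊤ ∧ ∀ R : Subgroup X, T ≤ R → R ≠ ⊤ → R ≤ N
  la : LA X M T B m

theorem PsR.sqM {X : Type u} [Group X] {M : Type v} [CommGroup M] [MulDistribMulAction X M] {W : Type w} [CommGroup W]
    [MulDistribMulAction X W] {T B : Subgroup X} {p : W →* M} {m : M} (h : PsR T B p m) (v : M) : v * v = 1 := by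
  obtain ⟨w, rfl⟩ := h.surj v
  rw [← map_mul, h.sq, map_one]

/-- a row with the W-part -/
def DeadXW (𝒮 : ∀ (S : Type u) [Group S], Prop) : Prop :=
  ∀ (X : Type u) [Group X] [Finite X] (M : Type v) [Group M] [Finite M] [MulDistribMulAction X M]
    (W : Type w) [CommGroup W] [Finite W] [MulDistribMulAction X W] (K T A : Subgroup X) (p : W →* M),
    InX X M K T A → WPart K T p → 𝒮 K → False

/-- a row with the W-part and (LA) -/
def DeadXL (𝒮 : ∀ (S : Type u) [Group S], Prop) : Prop :=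
  ∀ (X : Type u) [Group X] [Finite X] (M : Type v) [Group M] [Finite M] [MulDistribMulAction X M]
    (W : Type w) [CommGroup W] [Finite W] [MulDistribMulAction X W] (K T A : Subgroup X) (p : W →* M) (m : M),
    InX X M K T A → WPart K T p → LA X M T A m → 𝒮 K → False

/-- **RED with the W-part and (LA)** -/
def PsRed : Prop :=
  ∀ (X : Type u) [Group X] [Finite X] (M : Type v) [CommGroup M] [Finite M] [MulDistribMulAction X M]
    (W : Type w) [CommGroup W] [Finite W] [MulDistribMulAction X W] (T B : Subgroup X) (p : W →* M) (m : M),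
    PsR T B p m →
    ∃ (X₁ : Type u) (_ : Group X₁) (_ : Finite X₁) (M₁ : Type v) (_ : Group M₁) (_ : Finite M₁)
      (_ : MulDistribMulAction X₁ M₁) (W₁ : Type w) (_ : CommGroup W₁) (_ : Finite W₁)
      (_ : MulDistribMulAction X₁ W₁) (K₁ T₁ B₁ : Subgroup X₁) (p₁ : W₁ →* M₁) (m₁ : M₁),
      InX X₁ M₁ K₁ T₁ B₁ ∧ WPart K₁ T₁ p₁ ∧ LA X₁ M₁ T₁ B₁ m₁ ∧ IsKnownSimple' K₁

/-- **the K-list on `M`** : three exits -/
def ExitX : Prop :=
  ∀ (X : Type u) [Group X] [Finite X] (M : Type v) [Group M] [Finite M] [MulDistribMulAction X M]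
    (K T A : Subgroup X), InX X M K T A → IsKnownSimple' K →
    IsLieTypeChar 2 K ∨ Rows.IsUThreeThree K ∨ Nonempty (K ≃* alternatingGroup (Fin 6))

/-- the pieces behind `PsR` -/
structure EndPieces : Prop where
  red : PsRed.{u, v, w}
  exit : ExitX.{u, v}
  lie2 : DeadXL.{u, v, w} fun S _ => IsLieTypeChar 2 S
  u33 : DeadXW.{u, v, w} fun S _ => Rows.IsUThreeThree S
  a6 : DeadXW.{u, v, w} fun S _ => Nonempty (S ≃* alternatingGroup (Fin 6))

/-- **`PsR` is impossible** -/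
theorem EndPieces.false (P : EndPieces.{u, v, w}) {X : Type u} [Group X] [Finite X] {M : Type v} [CommGroup M]
    [Finite M] [MulDistribMulAction X M] {W : Type w} [CommGroup W] [Finite W] [MulDistribMulAction X W]
    {T B : Subgroup X} {p : W →* M} {m : M} (h : PsR T B p m) : False := by
  obtain ⟨X₁, _, _, M₁, _, _, _, W₁, _, _, _, K₁, T₁, B₁, p₁, m₁, hI, hW, hL, hK⟩ := P.red X M W T B p m h
  rcases P.exit X₁ M₁ K₁ T₁ B₁ hI hK with h | h | h
  · exact P.lie2 X₁ M₁ W₁ K₁ T₁ B₁ p₁ m₁ hI hW hL h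
  · exact P.u33 X₁ M₁ W₁ K₁ T₁ B₁ p₁ hI hW h
  · exact P.a6 X₁ M₁ W₁ K₁ T₁ B₁ p₁ hI hW h

end Cfsg.Agent.Omega.ML.Ex

end

section


/-!
# The K-list for EXACT ATOMS (EXL): the row `A₆` over `InN` (helper848)

* **`deadN`** : `DeadN (· ≃* A₆)`.
-/

set_option autoImplicit false

namespace Cfsg.Agent.Omega.ML.Ex.RowASixN

open Subgroup Equiv Cfsg Cfsg.Agent.ZN Cfsg.Agent.StdAlt.Six Cfsg.Agent.Omega.ML.AltSix Cfsg.Agent.Omega.ML.Ex
open Cfsg.Agent.ClassTwoFusion.Quad Cfsg.Agent.Omega.ML.MinFrame Cfsg.Agent.Omega.ML.Ex.RowASix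

universe u v

/-- elements inducing nontrivial permutations are nontrivial -/
theorem ne_one {X : Type u} [Group X] {S : Subgroup X} [S.Normal] {e : S ≃* A6} {g : X} {σ : Perm (Fin 6)} {x : A6}
    (hσ : Cj S e g σ) (h : σ * (x : Perm (Fin 6)) * σ⁻¹ ≠ (x : Perm (Fin 6))) : g ≠ 1 := by
  rintro rfl
  apply h
  rw [← hσ x, map_one, MulAut.one_apply]

theorem perm_ne : s45 * d0 * s45⁻¹ ≠ d0 ∧ s45 * z0 * c0 * (s45 * z0)⁻¹ ≠ c0 := by
  decide +kernel

/-- **The row `A₆` for atoms.** -/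
theorem deadN : DeadN.{u, v} fun S _ => Nonempty (S ≃* alternatingGroup (Fin 6)) := by
  rintro H _ _ N _ _ _ K T A h ⟨e₀⟩
  have hn := h.norm
  obtain ⟨e, a, b, hs⟩ := struct h.asx e₀ (by have := h.four; omega)
  have ha : a ≠ 1 := ne_one (x := D0) hs.ca perm_ne.1
  have hb : b ≠ 1 := ne_one (x := C0) hs.cb perm_ne.2
  have htop := stw_top h.asx hs (h.cv_four hs.four hs.aA ha) (h.cv_four hs.four hs.bA hb)
  obtain ⟨z, hz, horb⟩ := h.point
  have hzA : z ∈ cv N (A : Set H) := fun x hx => hz x (h.AT hx)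
  have h1 : orb (⊤ : Subgroup H) z ≤ cv N (A : Set H) := orb_le fun g _ => by
    have h5 : g ∈ Stw H (cv N (A : Set H)) := by rw [htop]; trivial
    exact (h5 z).2 hzA
  have h2 := h.exact
  rw [horb, top_le_iff] at h1
  rw [h1, index_top, hs.four] at h2
  omega

end Cfsg.Agent.Omega.ML.Ex.RowASixN

end

section


/-!
# Exact and low configurations: `C_M(x) = C_M(A)` for one `x ∈ A#` (helper322)

`F := C_M(A)`, `E := EE F = C_H(F) ∩ C_H(M / F)` (`TIE.EE`).  If `C_M(x) = F` for an `x ∈ A#`: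

* `InX.le_EE` : `A ≤ E`;  `InX.EE_el` : `E` is elementary abelian;
* `InX.cent_le_EE` : `C_H(x) ≤ N_H(E)`;
* **`InX.false_of_no`** : impossible if no elementary abelian subgroup of `C_H(x)` which contains `A` is normalised by
  `C_H(x)`.
-/

set_option autoImplicit false

namespace Cfsg.Agent.Omega.ML.Ex

open Subgroup Cfsg Cfsg.Agent.ZN Cfsg.Agent.Omega.ML.Ex.TIE
open Cfsg.Agent.Omega.NOThree.NoOver Cfsg.Agent.Omega.ML.CD Cfsg.Agent.ClassTwoFusion.Quad

universe u v

variable {H : Type u} [Group H] {M : Type v} [Group M] [MulDistribMulAction H M] {K T A : Subgroup H}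

/-- `E` is of exponent 2 -/
theorem InX.EE_el (h : InX H M K T A) {F : Subgroup M} : ∀ e ∈ (EE F : Subgroup H), e * e = 1 :=
  fun _ he => EE_sq h.sq h.faith he

theorem InX.EE_comm (h : InX H M K T A) {F : Subgroup M} {a b : H} (ha : a ∈ (EE F : Subgroup H))
    (hb : b ∈ (EE F : Subgroup H)) : a * b = b * a := by
  have h1 : ∀ z ∈ (EE F : Subgroup H), z⁻¹ = z := fun z hz => inv_eq_of_mul_eq_one_right (h.EE_el z hz)
  calc a * b = (a * b)⁻¹ := (h1 _ (mul_mem ha hb)).symm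
    _ = b⁻¹ * a⁻¹ := mul_inv_rev _ _
    _ = b * a := by rw [h1 _ ha, h1 _ hb]

/-- **`A ≤ E`** -/
theorem InX.le_EE (h : InX H M K T A) {x : H} (hx : x ∈ A) (hcv : cv M ({x} : Set H) = cv M (A : Set H)) :
    A ≤ (EE (cv M (A : Set H)) : Subgroup H) := by
  intro b hb
  refine ⟨fun m hm => hm b hb, fun m => ?_⟩
  have h1 : (x • m) * m⁻¹ ∈ cv M (A : Set H) := by
    rw [← hcv, mem_cv_singleton, smul_mul', ← mul_smul, h.el x hx, one_smul, smul_inv']
    have h3 : m⁻¹ = m := inv_eq_of_mul_eq_one_left (h.sq m)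
    have h4 : (x • m)⁻¹ = x • m := inv_eq_of_mul_eq_one_left (h.sq _)
    rw [h3, h4, h.comm]
  have h2 : b • ((x • m) * m⁻¹) = (x • m) * m⁻¹ := h1 b hb
  rw [smul_mul', smul_inv', ← mul_smul, mul_inv_eq_iff_eq_mul] at h2
  rw [← hcv, mem_cv_singleton, smul_mul', smul_inv', ← mul_smul, h.A_comm x hx b hb, h2]
  calc x • m * m⁻¹ * b • m * (x • m)⁻¹ = (x • m) * ((m⁻¹ * b • m) * (x • m)⁻¹) := by group
    _ = (x • m) * ((x • m)⁻¹ * (m⁻¹ * b • m)) := by rw [h.comm (m⁻¹ * b • m)]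
    _ = m⁻¹ * b • m := by group
    _ = b • m * m⁻¹ := h.comm _ _

/-- **`C_H(x) ≤ N_H(E)`** -/
theorem InX.cent_le_EE (_h : InX H M K T A) {x : H} (hcv : cv M ({x} : Set H) = cv M (A : Set H)) :
    centralizer ({x} : Set H) ≤ normalizer ((EE (cv M (A : Set H)) : Subgroup H) : Set H) := by
  have key : ∀ g ∈ centralizer ({x} : Set H), ∀ m, m ∈ cv M (A : Set H) → g • m ∈ cv M (A : Set H) := by
    intro g hg m hm
    rw [← hcv, mem_cv_singleton] at hm ⊢
    rw [← mul_smul, mem_centralizer_iff.1 hg x rfl, mul_smul, hm]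
  have key2 : ∀ g ∈ centralizer ({x} : Set H), ∀ m, m ∈ cv M (A : Set H) ↔ g • m ∈ cv M (A : Set H) := by
    intro g hg m
    refine ⟨key g hg m, fun hm => ?_⟩
    have h1 := key g⁻¹ (inv_mem hg) _ hm
    rwa [inv_smul_smul] at h1
  intro g hg
  rw [mem_normalizer_iff]
  refine fun y => ⟨fun hy => smul_mem_EE (key2 g hg) hy, fun hy => ?_⟩
  have h1 := smul_mem_EE (key2 g⁻¹ (inv_mem hg)) hy
  have h2 : g⁻¹ * (g * y * g⁻¹) * g⁻¹⁻¹ = y := by group
  rwa [h2] at h1

/-- **No normal elementary abelian subgroup of `C_H(x)` contains `A`.** -/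
theorem InX.false_of_no (h : InX H M K T A) {x : H} (hx : x ∈ A)
    (hcv : cv M ({x} : Set H) = cv M (A : Set H))
    (hno : ∀ E : Subgroup H, A ≤ E → E ≤ centralizer ({x} : Set H) → (∀ e ∈ E, e * e = 1) →
      (∀ g, g * x = x * g → ∀ e ∈ E, g * e * g⁻¹ ∈ E) → False) : False := by
  have hle := h.le_EE hx hcv
  refine hno _ hle ?_ h.EE_el fun g hg e he => ?_
  · intro e he
    exact mem_centralizer_singleton_iff.2 (h.EE_comm he (hle hx))
  · exact (mem_normalizer_iff.1 (h.cent_le_EE hcv (mem_centralizer_singleton_iff.2 hg)) e).1 he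

end Cfsg.Agent.Omega.ML.Ex

end

section


/-!
# (F1'), the K-route: the piece `a6` (helper848)
-/

set_option autoImplicit false

namespace Cfsg.Agent.Omega.FOne.Glue.ASix

open Cfsg

universe u v w

/-- **The row `A₆` with the W-part.** -/
theorem a6 : Cfsg.Agent.Omega.ML.Ex.DeadXW.{u, v, w} fun S _ => Nonempty (S ≃* alternatingGroup (Fin 6)) :=
  fun _ _ _ _ _ _ _ _ _ _ _ _ _ _ _ h hW hK => Cfsg.Agent.Omega.ML.Ex.RowASix.alt6_W h hW hK

end Cfsg.Agent.Omega.FOne.Glue.ASix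

end

section


/-!
# THEOREM RED: from `PsR` to `Mn` (helper995)

* **`PsR.mn`** : `PsR T B p m → Mn T B m`.
-/

set_option autoImplicit false

namespace Cfsg.Agent.Omega.ML.Ex

open Subgroup Cfsg Cfsg.Agent.ZN Cfsg.Agent.Omega.ML.Ex.Red Cfsg.Agent.Omega.ML.MinFrame

universe u v w

variable {X : Type u} [Group X] {M : Type v} [CommGroup M] [MulDistribMulAction X M] {W : Type w} [CommGroup W]
  [MulDistribMulAction X W] {T B : Subgroup X} {p : W →* M} {m : M}

/-- no normal subgroup of odd order: `C_W(T) ≤ C_W(X)` -/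
theorem PsR.odd [Finite X] [Finite W] (h : PsR T B p m) {N : Subgroup X} (hN : N.Normal) (ho : Odd (Nat.card N)) :
    N = ⊥ := by
  have hTN : T ⊓ N = ⊥ := by
    have h1 : IsPGroup 2 (T ⊓ N : Subgroup X) := h.two.to_le inf_le_left
    have : Fact (Nat.Prime 2) := ⟨Nat.prime_two⟩
    obtain ⟨k, hk⟩ := IsPGroup.iff_card.1 h1
    have h2 : Nat.card (T ⊓ N : Subgroup X) ∣ Nat.card N := card_dvd_of_le inf_le_right
    rw [← card_eq_one, hk]
    rcases Nat.eq_zero_or_pos k with h3 | h3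
    · rw [h3, pow_zero]
    · exfalso
      rw [hk] at h2
      exact (Nat.not_even_iff_odd.2 ho) (even_iff_two_dvd.2 ((dvd_pow_self 2 h3.ne').trans h2))
  have h1 : ∀ w : W, ∀ k ∈ N, k • w = w := fun w =>
    odd_fix_mul h.sq h.two (fun t _ k hk => hN.conj_mem k hk t) (by
      rw [hTN, relIndex_bot_left]
      exact fun h2 => (Nat.not_even_iff_odd.2 ho) (even_iff_two_dvd.2 h2))
      (fun w hw k _ => h.ker w (h.fixT w hw) k) (fun t ht => by
        rw [hTN, mem_bot] at ht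
        rw [ht, one_smul])
  rw [eq_bot_iff]
  intro x hx
  rw [mem_bot]
  apply h.faith
  intro v
  obtain ⟨w, rfl⟩ := h.surj v
  rw [← h.eqv, h1 w x hx]

/-- **`PsR` gives the input of RED.** -/
theorem PsR.mn [Finite X] [Finite W] (h : PsR T B p m) : Mn T B m where
  sq := h.sqM
  faith := h.faith
  gen := h.gen _ (fun x _ hu => smul_mem_orb (mem_top x) hu) (mem_orb_self _ _)
  fixT := h.la.fix
  odd := fun _ hN ho => h.odd hN ho
  two := h.two
  syl := h.syl
  el := h.el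
  four := h.four
  exact := h.exact
  atom := h.atom
  low := h.low
  nmax := h.nmax

end Cfsg.Agent.Omega.ML.Ex

end

end
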