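import Cfsg.Agent.Mrg.Omega.ML.MinIrr
import Cfsg.Agent.Mrg.Omega.ML.Ex.Def
import Cfsg.Agent.Mrg.Omega.ML.RowsList
import Cfsg.Agent.Mrg.Omega.ML.AltRow
import Cfsg.Agent.Mrg.Omega.ML.Ex.RkX
import Cfsg.Agent.Mrg.Omega.ML.RowFi22
import Cfsg.Agent.OddHalf.D4.Spor.J1Out
import Cfsg.Agent.Mrg.Omega.ML.ExEx.Core
import Cfsg.Agent.Mrg.Omega.TwoF.RowJ4
import Cfsg.Agent.Mrg.Omega.ML.Ex.DefN
import Cfsg.Agent.Mrg.Omega.ML.Ex.RowPspSixX
import Cfsg.Agent.Mrg.Omega.ML.ExLow.NumX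
import Cfsg.Agent.Mrg.Omega.ML.RowPsp
import Cfsg.Agent.Mrg.Omega.ML.Ex.Known
import Cfsg.Agent.Mrg.Omega.ML.Ex.RowTitsX
import Cfsg.Agent.Mrg.Omega.ML.Ex.RowL33X
import Cfsg.Agent.Mrg.Omega.ML.Ex.RowUFourX
import Cfsg.Agent.Mrg.Omega.ML.ExLow.XPsl
import Cfsg.Agent.Mrg.Omega.ML.ExLow.XPsu
import Cfsg.Agent.Mrg.Omega.ML.ExLow.XOm
import Cfsg.Agent.Mrg.Omega.ML.RowPspFour
import Cfsg.Agent.S0254
import Cfsg.Agent.Mrg.Omega.ML.RowPspSix
import Cfsg.Agent.Mrg.Omega.ML.RowJ23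
import Cfsg.Agent.Mrg.Omega.ML.Ex.TIE
import Cfsg.Agent.Mrg.Omega.ML.RowMT
import Cfsg.Agent.TypeM.OutLyFin
import Cfsg.Agent.Mrg.Omega.ML.RowSuz
import Cfsg.Agent.Mrg.Omega.ML.RowHe
import Cfsg.Agent.Mrg.Omega.ML.RowRu
import Cfsg.Agent.Mrg.Omega.ML.RowON
import Cfsg.Agent.Mrg.Omega.ML.ExHN
import Cfsg.Agent.Mrg.Omega.ML.Ex.Two
import Cfsg.Agent.Mrg.Omega.ML.Ex.RowHSX
import Cfsg.Agent.Mrg.Omega.ML.ExEx.RowBM
import Cfsg.Agent.Mrg.Omega.ML.Ex.RedDef
import Cfsg.Agent.Mrg.Omega.Tools.OddFix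
import Cfsg.Agent.Mrg.Omega.ML.RowU33
import Cfsg.Agent.Mrg.Omega.ML.Ex.RowASix
import Cfsg.Agent.Mrg.Omega.ML.LieRow.Bld
import Cfsg.Agent.Tits.Generic
import Cfsg.Agent.Mrg.Omega.KL.Gen
import Cfsg.Agent.Mrg.Omega.ML.OddExc

-- merged: Cfsg.Agent.Mrg.Omega.ML.ExLow.AltPermTwo
section

/-!
# 2-subgroups of symmetric groups: two overgroups with `|O₂ ∩ O₂| ≤ 2` (helper461)

For the alternating row of the K-list "exact + low" (`Omega/ML/ExLow/Alt.lean`).

* `exists_tau` : `n` even, `T ≤ S_n` a 2-group: `T` centralises a fixed point free involution;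
* `semireg`, `eq_of_three` : 2-groups supported on `Γ`, `|Γ| ≤ 4`, normalised by `AP Γ`;
* **`main`** : `n ≥ 7`, `n ≠ 8`, `T ≤ S_n` a 2-group: there are `R, R' ≥ T`, `A_n ≰ R, R'`, such that `|N ∩ N'| ≤ 2` for all
  2-subgroups `N ≤ R`, `N' ≤ R'` normalised by `R ∩ A_n`, `R' ∩ A_n`.
-/

set_option autoImplicit false

namespace Cfsg.Agent.Omega.ML.ExLow.AltPermTwo

open Equiv Equiv.Perm Subgroup Cfsg.Agent.Omega.ML.AltPerm

open scoped Nat

/-! ### the fixed point free involution -/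

theorem odd_df : ∀ m : ℕ, Odd ((2 * m - 1)‼) := by
  intro m
  induction m with
  | zero => exact ⟨0, rfl⟩
  | succ m ih =>
    rcases Nat.eq_zero_or_pos m with h | h
    · subst h
      exact ⟨0, rfl⟩
    · have h1 : 2 * (m + 1) - 1 = (2 * m - 1) + 2 := by omega
      rw [h1, Nat.doubleFactorial_add_two]
      exact Odd.mul ⟨m, by omega⟩ ih

theorem odd_card {n m : ℕ} (hn : n = 2 * m) (hm : 1 ≤ m) :
    Odd (Finset.card ({g | g.cycleType = Multiset.replicate m 2} : Finset (Perm (Fin n)))) := by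
  have h := card_of_cycleType_mul_eq (Fin n) (Multiset.replicate m 2)
  have hsum : (Multiset.replicate m 2).sum = 2 * m := by
    rw [Multiset.sum_replicate, smul_eq_mul, mul_comm]
  have hprod : (Multiset.replicate m 2).prod = 2 ^ m := by rw [Multiset.prod_replicate]
  have hto : (Multiset.replicate m 2).toFinset = {2} := by
    rw [Multiset.toFinset_replicate, if_neg (by omega)]
  rw [if_pos ⟨by rw [hsum, Fintype.card_fin, hn], fun a ha => (Multiset.eq_of_mem_replicate ha).ge⟩, hsum, hprod, hto,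
    Finset.prod_singleton, Multiset.count_replicate_self, Fintype.card_fin, hn, Nat.sub_self, Nat.factorial_zero,
    one_mul] at h
  have h2 : (2 * m)! = (2 * m - 1)‼ * (2 ^ m * m !) := by
    have h3 := Nat.factorial_eq_mul_doubleFactorial (2 * m - 1)
    have h4 : 2 * m - 1 + 1 = 2 * m := by omega
    rw [h4, Nat.doubleFactorial_two_mul] at h3
    rw [h3, mul_comm]
  rw [h2] at h
  subst hn
  have h5 := Nat.eq_of_mul_eq_mul_right (by positivity) h
  rw [h5]
  exact odd_df m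

/-- A 2-group on an even number of points centralises a fixed point free involution. -/
theorem exists_tau {n m : ℕ} (hn : n = 2 * m) (hm : 1 ≤ m) (T : Subgroup (Perm (Fin n))) (hT : IsPGroup 2 T) :
    ∃ τ : Perm (Fin n), τ * τ = 1 ∧ (∀ x, τ x ≠ x) ∧ ∀ g ∈ T, g * τ = τ * g := by
  classical
  let Ω : Type := {τ : Perm (Fin n) // τ.cycleType = Multiset.replicate m 2}
  let act : MulAction T Ω :=
    { smul := fun g τ => ⟨(g : Perm (Fin n)) * τ.1 * (g : Perm (Fin n))⁻¹, by rw [cycleType_conj]; exact τ.2⟩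
      one_smul := fun τ => Subtype.ext (by
        change ((1 : T) : Perm (Fin n)) * τ.1 * ((1 : T) : Perm (Fin n))⁻¹ = τ.1
        simp)
      mul_smul := fun g h τ => Subtype.ext (by
        change ((g * h : T) : Perm (Fin n)) * τ.1 * ((g * h : T) : Perm (Fin n))⁻¹ =
          (g : Perm (Fin n)) * ((h : Perm (Fin n)) * τ.1 * (h : Perm (Fin n))⁻¹) * (g : Perm (Fin n))⁻¹
        push_cast
        group) }
  have hodd : ¬ 2 ∣ Nat.card Ω := by
    have h1 : Nat.card Ω = Finset.card ({g | g.cycleType = Multiset.replicate m 2} : Finset (Perm (Fin n))) := by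
      rw [Nat.card_eq_fintype_card]
      exact Fintype.card_subtype _
    rw [h1]
    have := odd_card hn hm
    exact fun h => (Nat.not_even_iff_odd.2 this) (even_iff_two_dvd.2 h)
  obtain ⟨τ, hτ⟩ := hT.nonempty_fixed_point_of_prime_not_dvd_card Ω hodd
  have hsq : τ.1 ^ 2 = 1 := by
    rw [← orderOf_dvd_iff_pow_eq_one, ← lcm_cycleType, τ.2]
    exact Multiset.lcm_dvd.2 fun a ha => (Multiset.eq_of_mem_replicate ha).dvd
  have hsup : τ.1.support = Finset.univ := by
    rw [← Finset.card_eq_iff_eq_univ, ← sum_cycleType, τ.2, Multiset.sum_replicate, smul_eq_mul, Fintype.card_fin, hn,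
      mul_comm]
  refine ⟨τ.1, by rw [← pow_two]; exact hsq, fun x => ?_, fun g hg => ?_⟩
  · have h1 : x ∈ τ.1.support := by rw [hsup]; exact Finset.mem_univ x
    exact mem_support.1 h1
  · have h1 := hτ ⟨g, hg⟩
    have h2 : g * τ.1 * g⁻¹ = τ.1 := congrArg Subtype.val h1
    exact mul_inv_eq_iff_eq_mul.1 h2

/-! ### small supports -/

variable {α : Type*} [DecidableEq α] [Fintype α]

theorem sub_four {Γ : Set α} (h4 : Nat.card Γ ≤ 4) {a b c d : α} (ha : a ∈ Γ) (hb : b ∈ Γ) (hc : c ∈ Γ) (hd : d ∈ Γ)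
    (h1 : a ≠ b) (h2 : a ≠ c) (h3 : a ≠ d) (h5 : b ≠ c) (h6 : b ≠ d) (h7 : c ≠ d) {x : α} (hx : x ∈ Γ) :
    x = a ∨ x = b ∨ x = c ∨ x = d := by
  classical
  by_contra hn
  push Not at hn
  obtain ⟨n1, n2, n3, n4⟩ := hn
  have h8 : ({x, a, b, c, d} : Finset α).card = 5 := by
    rw [Finset.card_insert_of_notMem, Finset.card_insert_of_notMem, Finset.card_insert_of_notMem,
      Finset.card_insert_of_notMem, Finset.card_singleton]
    · simpa using h7
    · simp [h5, h6]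
    · simp [h1, h2, h3]
    · simp [n1, n2, n3, n4]
  have h9 : (({x, a, b, c, d} : Finset α) : Set α) ⊆ Γ := by
    intro y hy
    simp only [Finset.coe_insert, Finset.coe_singleton, Set.mem_insert_iff, Set.mem_singleton_iff] at hy
    rcases hy with rfl | rfl | rfl | rfl | rfl <;> assumption
  have h10 := Set.ncard_le_ncard h9 (Set.toFinite Γ)
  rw [Set.ncard_coe_finset, h8] at h10
  have h11 : Nat.card Γ = Γ.ncard := rfl
  omega

omit [Fintype α] in
theorem conj_swap (s : Perm α) (a b : α) : s * swap a b * s⁻¹ = swap (s a) (s b) := by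
  rw [Equiv.mul_swap_eq_swap_mul, mul_inv_cancel_right]

/-- A nontrivial element of a 2-group supported on `Γ`, `|Γ| ≤ 4`, normalised by `AP Γ`, has no fixed point on `Γ`. -/
theorem semireg {Γ : Set α} (h4 : Nat.card Γ ≤ 4) (N : Subgroup (Perm α)) (hN : IsPGroup 2 N)
    (hp : ∀ g ∈ N, ∀ x, x ∉ Γ → g x = x) (hn : ∀ c, AP Γ c → ∀ g ∈ N, c * g * c⁻¹ ∈ N) {g : Perm α} (hg : g ∈ N)
    (h1 : g ≠ 1) : ∀ x ∈ Γ, g x ≠ x := by
  intro a ha hga
  have hex : ∃ b, g b ≠ b := by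
    by_contra hc
    push Not at hc
    exact h1 (Equiv.ext hc)
  obtain ⟨b, hb⟩ := hex
  have hbΓ : b ∈ Γ := by
    by_contra h
    exact hb (hp g hg b h)
  set c := g b with hc
  have hcΓ : c ∈ Γ := by
    by_contra h
    have h2 := hp g hg c h
    exact hb (g.injective h2)
  have hab : a ≠ b := fun h => hb (by rw [hc, ← h, hga])
  have hac : a ≠ c := fun h => by
    have h2 : g a = g b := hga.trans (h.trans hc)
    exact hab (g.injective h2)
  have hbc : b ≠ c := fun h => hb h.symm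
  have hin : ∀ x ∈ Γ, g x ∈ Γ := by
    intro x hx
    by_contra h
    have h2 := g.injective (hp g hg _ h)
    exact h (h2.symm ▸ hx)
  by_cases hcb : g c = b
  · -- `g = (b c)`
    have hfix : ∀ x, x ≠ b → x ≠ c → g x = x := by
      intro x hxb hxc
      by_contra hx
      have hxΓ : x ∈ Γ := by
        by_contra h
        exact hx (hp g hg x h)
      have hxa : x ≠ a := fun h => hx (by rw [h, hga])
      rcases sub_four h4 ha hbΓ hcΓ hxΓ hab hac hxa.symm hbc hxb.symm hxc.symm (hin x hxΓ) with h | h | h | h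
      · exact hxa (g.injective (h.trans hga.symm))
      · exact hxc (g.injective (h.trans hcb.symm))
      · exact hxb (g.injective (h.trans hc))
      · exact hx h
    have hgs : g = swap b c := by
      ext x
      by_cases hxb : x = b
      · rw [hxb, swap_apply_left]
      · by_cases hxc : x = c
        · rw [hxc, swap_apply_right, hcb]
        · rw [swap_apply_of_ne_of_ne hxb hxc, hfix x hxb hxc]
    have hs : AP Γ (C3 a b c) := by
      refine ⟨sign_C3 hab hbc, fun x hx => C3_of_ne ?_ ?_ ?_⟩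
      · rintro rfl; exact hx ha
      · rintro rfl; exact hx hbΓ
      · rintro rfl; exact hx hcΓ
    have h2 := N.mul_mem hg (hn _ hs g hg)
    have h3 : C3 a b c c = a := by
      simp [C3]
    rw [hgs, conj_swap, C3_b hac hbc, h3] at h2
    exact not_two hN (three_C3 hbc hab.symm hac.symm) h2
  · -- a 3-cycle
    set d := g c with hd
    have hdΓ : d ∈ Γ := hin c hcΓ
    have hda : a ≠ d := fun h => hac (g.injective (hga.trans h))
    have hdb : b ≠ d := fun h => hcb h.symm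
    have hdc : c ≠ d := fun h => hbc (g.injective h)
    have hdd : g d = b := by
      rcases sub_four h4 ha hbΓ hcΓ hdΓ hab hac hda hbc hdb hdc (hin d hdΓ) with h | h | h | h
      · exact absurd (g.injective (h.trans hga.symm)) hda.symm
      · exact h
      · exact absurd (g.injective (h.trans hc)) hdb.symm
      · exact absurd (g.injective (h.trans hd)) hdc.symm
    have hgs : g = C3 b c d := by
      ext x
      by_cases hxb : x = b
      · rw [hxb, C3_a hbc hdb]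
      · by_cases hxc : x = c
        · rw [hxc, C3_b hdb hdc]
        · by_cases hxd : x = d
          · rw [hxd, hdd]
            simp [C3]
          · rw [C3_of_ne hxb hxc hxd]
            by_cases hxΓ : x ∈ Γ
            · rcases sub_four h4 ha hbΓ hcΓ hdΓ hab hac hda hbc hdb hdc hxΓ with h | h | h | h
              · rw [h, hga]
              · exact absurd h hxb
              · exact absurd h hxc
              · exact absurd h hxd
            · exact hp g hg x hxΓ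
    exact not_two hN (three_C3 hbc hdb hdc) (hgs ▸ hg)

/-- `|Γ| ≤ 3`: at most one nontrivial element. -/
theorem eq_of_three {Γ : Set α} (h3 : Nat.card Γ ≤ 3) (N : Subgroup (Perm α)) (hN : IsPGroup 2 N)
    (hp : ∀ g ∈ N, ∀ x, x ∉ Γ → g x = x) (hn : ∀ c, AP Γ c → ∀ g ∈ N, c * g * c⁻¹ ∈ N) {g h : Perm α} (hg : g ∈ N)
    (hg1 : g ≠ 1) (hh : h ∈ N) (hh1 : h ≠ 1) : g = h := by
  have hin : ∀ g ∈ N, ∀ x ∈ Γ, g x ∈ Γ := by
    intro g hg x hx
    by_contra h
    have h2 := g.injective (hp g hg _ h)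
    exact h (h2.symm ▸ hx)
  have key : ∀ g ∈ N, g ≠ 1 → ∀ x ∈ Γ, ∀ y ∈ Γ, x ≠ y → g x = y := by
    intro g hg hg1 b hb y hy hby
    have hfp := semireg (by omega) N hN hp hn hg hg1
    set c := g b with hc
    have hbc : b ≠ c := fun h => hfp b hb h.symm
    by_contra hcy
    -- three points
    have hsub : ∀ x ∈ Γ, x = b ∨ x = c ∨ x = y := by
      intro x hx
      by_contra hno
      push Not at hno
      have h8 : ({x, b, c, y} : Finset α).card = 4 := by
        rw [Finset.card_insert_of_notMem, Finset.card_insert_of_notMem, Finset.card_insert_of_notMem,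
          Finset.card_singleton]
        · simpa using hcy
        · simp [hbc, hby]
        · simp [hno.1, hno.2.1, hno.2.2]
      have h9 : (({x, b, c, y} : Finset α) : Set α) ⊆ Γ := by
        intro z hz
        simp only [Finset.coe_insert, Finset.coe_singleton, Set.mem_insert_iff, Set.mem_singleton_iff] at hz
        rcases hz with rfl | rfl | rfl | rfl
        · exact hx
        · exact hb
        · exact hin g hg b hb
        · exact hy
      have h10 := Set.ncard_le_ncard h9 (Set.toFinite Γ)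
      rw [Set.ncard_coe_finset, h8] at h10
      have h11 : Nat.card Γ = Γ.ncard := rfl
      omega
    have hcΓ : c ∈ Γ := hin g hg b hb
    have hgc : g c = y := by
      rcases hsub _ (hin g hg c hcΓ) with h | h | h
      · -- then `y` is fixed
        exfalso
        rcases hsub _ (hin g hg y hy) with h' | h' | h'
        · exact hcy (g.injective (h.trans h'.symm))
        · exact hby (g.injective h').symm
        · exact hfp y hy h'
      · exact absurd h (hfp c hcΓ)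
      · exact h
    have hgy : g y = b := by
      rcases hsub _ (hin g hg y hy) with h | h | h
      · exact h
      · exact absurd (g.injective h).symm hby
      · exact absurd h (hfp y hy)
    have hgs : g = C3 b c y := by
      ext x
      by_cases hxb : x = b
      · rw [hxb, C3_a hbc hby]
      · by_cases hxc : x = c
        · rw [hxc, C3_b hby hcy, hgc]
        · by_cases hxd : x = y
          · rw [hxd, hgy]
            simp [C3]
          · rw [C3_of_ne hxb hxc hxd]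
            by_cases hxΓ : x ∈ Γ
            · rcases hsub x hxΓ with h | h | h
              · exact absurd h hxb
              · exact absurd h hxc
              · exact absurd h hxd
            · exact hp g hg x hxΓ
    exact not_two hN (three_C3 hbc hby hcy) (hgs ▸ hg)
  ext x
  by_cases hx : x ∈ Γ
  · have h1 := semireg (by omega) N hN hp hn hg hg1 x hx
    exact (key h hh hh1 x hx (g x) (hin g hg x hx) (Ne.symm h1)).symm
  · rw [hp g hg x hx, hp h hh x hx]

theorem card_le_two {G : Type*} [Group G] [Finite G] (N : Subgroup G)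
    (h : ∀ g ∈ N, ∀ h ∈ N, g ≠ 1 → h ≠ 1 → g = h) : Nat.card N ≤ 2 := by
  have h5 : Nat.card N ≤ Nat.card Prop := by
    refine Nat.card_le_card_of_injective (fun g : N => (g : G) = 1) ?_
    intro x y hxy
    have hxy' : ((x : G) = 1) = ((y : G) = 1) := hxy
    by_cases hx : (x : G) = 1
    · have hy : (y : G) = 1 := hxy' ▸ hx
      exact Subtype.ext (hx.trans hy.symm)
    · have hy : ¬ (y : G) = 1 := hxy' ▸ hx
      exact Subtype.ext (h _ x.2 _ y.2 hx hy)
  refine h5.trans ?_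
  rw [Nat.card_eq_fintype_card, Fintype.card_prop]

/-! ### the centraliser of a fixed point free involution -/

/-- The centraliser of `τ`. -/
def Ce (τ : Perm α) : Subgroup (Perm α) := centralizer {τ}

omit [DecidableEq α] [Fintype α] in
theorem mem_Ce {τ g : Perm α} : g ∈ Ce τ ↔ g * τ = τ * g := by
  rw [Ce, mem_centralizer_singleton_iff]

theorem ex_Ce {τ : Perm α} (h1 : ∀ x, τ x ≠ x) (hs : τ * τ = 1) {a e : α} (hae : a ≠ e) (hbe : τ a ≠ e) :
    ∃ c : Perm α, sign c = 1 ∧ c ∉ Ce τ := by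
  have hab : a ≠ τ a := (h1 a).symm
  refine ⟨C3 a (τ a) e, sign_C3 hab hbe, fun h => ?_⟩
  rw [mem_Ce] at h
  have h2 := congrArg (fun f : Perm α => f a) h
  simp only [Perm.mul_apply] at h2
  rw [C3_b hae hbe, C3_a hab hae] at h2
  have h3 : τ (τ a) = a := by
    rw [← Perm.mul_apply, hs, Perm.one_apply]
  rw [h3] at h2
  exact hae h2.symm

/-- An element `(a c)(b d)`, `b = τ a`, `d = τ c` lies in no 2-group normalised by the even elements of `C(τ)`. -/
theorem not_mem_of_Ce {τ : Perm α} (h1 : ∀ x, τ x ≠ x) (hs : τ * τ = 1) (N : Subgroup (Perm α)) (hN : IsPGroup 2 N)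
    (hn : ∀ c ∈ Ce τ, sign c = 1 → ∀ g ∈ N, c * g * c⁻¹ ∈ N) {a c e : α} (hac : a ≠ c) (hbc : τ a ≠ c)
    (hea : e ≠ a) (heb : e ≠ τ a) (hec : e ≠ c) (hed : e ≠ τ c) : swap a c * swap (τ a) (τ c) ∉ N := by
  intro hg
  have hss : ∀ x, τ (τ x) = x := fun x => by rw [← Perm.mul_apply, hs, Perm.one_apply]
  have hinj : ∀ {x y}, τ x = τ y → x = y := fun h => τ.injective h
  have had : a ≠ τ c := fun h => hbc (by rw [h, hss])
  have hbd : τ a ≠ τ c := fun h => hac (hinj h)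
  have hef : e ≠ τ e := (h1 e).symm
  have haf : a ≠ τ e := fun h => heb (by rw [h, hss])
  have hcf : c ≠ τ e := fun h => hed (by rw [h, hss])
  have hbf : τ a ≠ τ e := fun h => hea (hinj h).symm
  have hdf : τ c ≠ τ e := fun h => hec (hinj h).symm
  have hab : a ≠ τ a := (h1 a).symm
  have hcd : c ≠ τ c := (h1 c).symm
  set s : Perm α := C3 a c e * C3 (τ a) (τ c) (τ e) with hsdef
  have hconj : τ * C3 a c e * τ⁻¹ = C3 (τ a) (τ c) (τ e) := by
    have : τ * C3 a c e * τ⁻¹ = (τ * swap a c * τ⁻¹) * (τ * swap c e * τ⁻¹) := by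
      rw [C3]; group
    rw [this, conj_swap, conj_swap, C3]
  have hconj2 : τ * C3 (τ a) (τ c) (τ e) * τ⁻¹ = C3 a c e := by
    have : τ * C3 (τ a) (τ c) (τ e) * τ⁻¹ = (τ * swap (τ a) (τ c) * τ⁻¹) * (τ * swap (τ c) (τ e) * τ⁻¹) := by
      rw [C3]; group
    rw [this, conj_swap, conj_swap, C3, hss, hss, hss]
  have hdis : Disjoint (C3 a c e) (C3 (τ a) (τ c) (τ e)) := by
    intro x
    by_cases hxa : x = a
    · right; rw [hxa]; exact C3_of_ne hab had haf
    · by_cases hxc : x = c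
      · right; rw [hxc]; exact C3_of_ne (fun h => hbc h.symm) hcd hcf
      · by_cases hxe : x = e
        · right; rw [hxe]; exact C3_of_ne heb hed hef
        · left; exact C3_of_ne hxa hxc hxe
  have hsC : s ∈ Ce τ := by
    rw [mem_Ce]
    have h2 : τ * s * τ⁻¹ = s := by
      have : τ * s * τ⁻¹ = (τ * C3 a c e * τ⁻¹) * (τ * C3 (τ a) (τ c) (τ e) * τ⁻¹) := by
        rw [hsdef]; group
      rw [this, hconj, hconj2, hsdef]
      exact hdis.commute.symm.eq
    exact (mul_inv_eq_iff_eq_mul.1 h2).symm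
  have hsign : sign s = 1 := by
    rw [hsdef, Perm.sign_mul, sign_C3 hac hec.symm, sign_C3 hbd hdf, one_mul]
  have h2 := N.mul_mem hg (hn s hsC hsign _ hg)
  have hsa : s a = c := by
    rw [hsdef, Perm.mul_apply, C3_of_ne hab had haf, C3_a hac hea.symm]
  have hsc : s c = e := by
    rw [hsdef, Perm.mul_apply, C3_of_ne (fun h => hbc h.symm) hcd hcf, C3_b hea.symm hec.symm]
  have hsb : s (τ a) = τ c := by
    rw [hsdef, Perm.mul_apply, C3_a hbd hbf, C3_of_ne had.symm hcd.symm hed.symm]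
  have hsd : s (τ c) = τ e := by
    rw [hsdef, Perm.mul_apply, C3_b hbf hdf, C3_of_ne haf.symm hcf.symm hef.symm]
  have h3 : s * (swap a c * swap (τ a) (τ c)) * s⁻¹ = swap c e * swap (τ c) (τ e) := by
    have : s * (swap a c * swap (τ a) (τ c)) * s⁻¹ = (s * swap a c * s⁻¹) * (s * swap (τ a) (τ c) * s⁻¹) := by group
    rw [this, conj_swap, conj_swap, hsa, hsc, hsb, hsd]
  rw [h3] at h2
  have hcomm : swap (τ a) (τ c) * swap c e = swap c e * swap (τ a) (τ c) := by
    have : Disjoint (swap (τ a) (τ c)) (swap c e) := by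
      intro x
      by_cases hxa : x = τ a
      · right; rw [hxa]; exact swap_apply_of_ne_of_ne hbc heb.symm
      · by_cases hxc : x = τ c
        · right; rw [hxc]; exact swap_apply_of_ne_of_ne hcd.symm hed.symm
        · left; exact swap_apply_of_ne_of_ne hxa hxc
    exact this.commute.eq
  have h4 : swap a c * swap (τ a) (τ c) * (swap c e * swap (τ c) (τ e)) =
      C3 a c e * C3 (τ a) (τ c) (τ e) := by
    rw [C3, C3]
    calc swap a c * swap (τ a) (τ c) * (swap c e * swap (τ c) (τ e))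
        = swap a c * (swap (τ a) (τ c) * swap c e) * swap (τ c) (τ e) := by group
      _ = swap a c * (swap c e * swap (τ a) (τ c)) * swap (τ c) (τ e) := by rw [hcomm]
      _ = _ := by group
  rw [h4] at h2
  -- order three
  have h5 : (C3 a c e * C3 (τ a) (τ c) (τ e)) ^ 3 = 1 := by
    rw [hdis.commute.mul_pow]
    have e1 := (three_C3 hac hea.symm hec.symm).orderOf
    have e2 := (three_C3 hbd hbf hdf).orderOf
    have e3 : C3 a c e ^ 3 = 1 := orderOf_dvd_iff_pow_eq_one.1 e1.dvd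
    have e4 : C3 (τ a) (τ c) (τ e) ^ 3 = 1 := orderOf_dvd_iff_pow_eq_one.1 e2.dvd
    rw [e3, e4, one_mul]
  obtain ⟨k, hk⟩ := hN ⟨_, h2⟩
  have h6 : (C3 a c e * C3 (τ a) (τ c) (τ e)) ^ 2 ^ k = 1 := congrArg Subtype.val hk
  have h7 : C3 a c e * C3 (τ a) (τ c) (τ e) = 1 := by
    have h8 := Nat.Coprime.pow_left k (show Nat.Coprime 2 3 by norm_num)
    have h9 := orderOf_dvd_iff_pow_eq_one.2 h6
    have h10 := orderOf_dvd_iff_pow_eq_one.2 h5
    have h11 := Nat.eq_one_of_dvd_coprimes h8 h9 h10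
    exact orderOf_eq_one_iff.1 h11
  have h8 := congrArg (fun f : Perm α => f a) h7
  simp only [Perm.mul_apply, Perm.one_apply] at h8
  rw [C3_of_ne hab had haf, C3_a hac hea.symm] at h8
  exact hac h8.symm

/-! ### set stabilisers, once more -/

/-- `|Δ| ≥ 5`, `|Δᶜ| ≤ 3`. -/
theorem good_St_two {Δ : Set α} (h5 : 5 ≤ Nat.card Δ) (h3 : Nat.card (Δᶜ : Set α) ≤ 3) (N : Subgroup (Perm α))
    (hN : IsPGroup 2 N) (hS : N ≤ St Δ) (hn : ∀ c ∈ St Δ, sign c = 1 → ∀ g ∈ N, c * g * c⁻¹ ∈ N) :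
    Nat.card N ≤ 2 := by
  have h1 := (good_St h5 N hN hS hn).1
  refine card_le_two N fun g hg h hh hg1 hh1 => ?_
  exact eq_of_three (Γ := Δᶜ) h3 N hN (fun g hg x hx => h1 g hg x (not_not.1 hx))
    (fun c hc => hn c (St_compl (Δ := Δ) ▸ AP_St hc) hc.1) hg hg1 hh hh1

theorem good_St_big {Δ : Set α} (h5 : 5 ≤ Nat.card Δ) (h3 : 5 ≤ Nat.card (Δᶜ : Set α)) (N : Subgroup (Perm α))
    (hN : IsPGroup 2 N) (hS : N ≤ St Δ) (hn : ∀ c ∈ St Δ, sign c = 1 → ∀ g ∈ N, c * g * c⁻¹ ∈ N) :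
    Nat.card N ≤ 2 := by
  have h1 := (good_St h5 N hN hS hn).1
  have h2 := (good_St (Δ := Δᶜ) h3 N hN (by rw [St_compl]; exact hS) (by rw [St_compl]; exact hn)).1
  refine card_le_two N fun g hg h hh hg1 _ => absurd ?_ hg1
  ext x
  by_cases hx : x ∈ Δ
  · exact h1 g hg x hx
  · exact h2 g hg x hx

/-- `|Δᶜ| = 4` and the centraliser of a fixed point free involution. -/
theorem good_St_Ce {Δ : Set α} (h5 : 5 ≤ Nat.card Δ) (h3 : Nat.card (Δᶜ : Set α) = 4) {τ : Perm α}
    (h1 : ∀ x, τ x ≠ x) (hs : τ * τ = 1) (N N' : Subgroup (Perm α)) (hN : IsPGroup 2 N) (hS : N ≤ St Δ)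
    (hn : ∀ c ∈ St Δ, sign c = 1 → ∀ g ∈ N, c * g * c⁻¹ ∈ N) (hN' : IsPGroup 2 N') (hS' : N' ≤ Ce τ)
    (hn' : ∀ c ∈ Ce τ, sign c = 1 → ∀ g ∈ N', c * g * c⁻¹ ∈ N') : Nat.card (N ⊓ N' : Subgroup (Perm α)) ≤ 2 := by
  classical
  have hfix := (good_St h5 N hN hS hn).1
  have hsup : ∀ g ∈ N, ∀ x, x ∉ Δᶜ → g x = x := fun g hg x hx => hfix g hg x (not_not.1 hx)
  have hss : ∀ x, τ (τ x) = x := fun x => by rw [← Perm.mul_apply, hs, Perm.one_apply]
  -- a nontrivial element of the intersection is `τ` on `Δᶜ`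
  have key : ∀ g ∈ N ⊓ N', g ≠ 1 → ∀ a ∈ Δᶜ, g a = τ a := by
    intro g hg hg1 a ha
    have hfp := semireg (by omega) N hN hsup (fun c hc => hn c (St_compl (Δ := Δ) ▸ AP_St hc) hc.1) hg.1 hg1
    by_contra hne
    have hgt : ∀ x, g (τ x) = τ (g x) := fun x => by
      have h2 := mem_Ce.1 (hS' hg.2)
      rw [← Perm.mul_apply, h2, Perm.mul_apply]
    have hin : ∀ x ∈ Δᶜ, g x ∈ Δᶜ := by
      intro x hx
      by_contra h
      have h2 := g.injective (hsup g hg.1 _ h)
      exact h (h2.symm ▸ hx)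
    have hac : a ≠ g a := (hfp a ha).symm
    have hbΓ : τ a ∈ Δᶜ := by
      by_contra h
      have h2 := hsup g hg.1 _ h
      rw [hgt] at h2
      exact hac (τ.injective h2).symm
    have hcΓ : g a ∈ Δᶜ := hin a ha
    have hdΓ : τ (g a) ∈ Δᶜ := by rw [← hgt]; exact hin _ hbΓ
    have hbc : τ a ≠ g a := fun h => hne h.symm
    have hab : a ≠ τ a := (h1 a).symm
    have had : a ≠ τ (g a) := fun h => hbc ((congrArg τ h).trans (hss _))
    have hbd : τ a ≠ τ (g a) := fun h => hac (τ.injective h)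
    have hcd : g a ≠ τ (g a) := (h1 _).symm
    have hsub := fun x (hx : x ∈ Δᶜ) =>
      sub_four (Γ := Δᶜ) (by omega) ha hbΓ hcΓ hdΓ hab hac had hbc hbd hcd hx
    -- `g` is an involution
    have hgc : g (g a) = a := by
      rcases hsub _ (hin _ hcΓ) with h | h | h | h
      · exact h
      · -- a four-cycle: `g² = τ` there
        exfalso
        -- `g²` is nontrivial and equals `τ` at `a`; use that `g` has order at most 2 via the 3-cycle trick
        have hgb : g (τ a) = τ (g a) := hgt a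
        have hgd : g (τ (g a)) = a := by rw [hgt, h, hss]
        -- conjugate by the 3-cycle `(a b c)`
        have hs3 : AP Δᶜ (C3 a (τ a) (g a)) := by
          refine ⟨sign_C3 hab hbc, fun x hx => C3_of_ne ?_ ?_ ?_⟩
          · rintro rfl; exact hx ha
          · rintro rfl; exact hx hbΓ
          · rintro rfl; exact hx hcΓ
        have h2 := hn _ (St_compl (Δ := Δ) ▸ AP_St hs3) hs3.1 g hg.1
        -- `g * g'` fixes a point and is nontrivial
        set s := C3 a (τ a) (g a) with hsd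
        have sa : s a = τ a := C3_a hab hac
        have sb : s (τ a) = g a := C3_b hac hbc
        have sc : s (g a) = a := by rw [hsd]; simp [C3]
        have sd : s (τ (g a)) = τ (g a) := C3_of_ne had.symm hbd.symm hcd.symm
        have inv_eq : ∀ {x y}, s x = y → s⁻¹ y = x := fun h => by rw [← h]; simp
        have h3 := N.mul_mem hg.1 h2
        have h4 : (g * (s * g * s⁻¹)) ≠ 1 := by
          intro h5'
          have h6 := congrArg (fun f : Perm α => f a) h5'
          simp only [Perm.mul_apply, Perm.one_apply] at h6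
          rw [inv_eq sc, h, sb, h] at h6
          exact hab h6.symm
        have h5' := semireg (by omega) N hN hsup (fun c hc => hn c (St_compl (Δ := Δ) ▸ AP_St hc) hc.1) h3 h4
        refine h5' (τ (g a)) hdΓ ?_
        simp only [Perm.mul_apply]
        rw [inv_eq sd, hgd, sa, hgb]
      · exact absurd h (hfp _ hcΓ)
      · -- `g c = d = τ c`, `g b = d`
        exfalso
        have h2 : g (τ a) = g (g a) := (hgt a).trans h.symm
        exact hbc (g.injective h2)
    have hgd : g (τ (g a)) = τ a := by rw [hgt, hgc]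
    have hgs : g = swap a (g a) * swap (τ a) (τ (g a)) := by
      ext x
      rw [Perm.mul_apply]
      by_cases hx : x ∈ Δᶜ
      · rcases hsub x hx with h | h | h | h
        · rw [h, swap_apply_of_ne_of_ne hab had, swap_apply_left]
        · rw [h, swap_apply_left, swap_apply_of_ne_of_ne had.symm hcd.symm, hgt]
        · rw [h, swap_apply_of_ne_of_ne hbc.symm hcd, swap_apply_right, hgc]
        · rw [h, swap_apply_right, swap_apply_of_ne_of_ne hab.symm hbc, hgd]
      · have e1 : x ≠ a := fun h => hx (h ▸ ha)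
        have e2 : x ≠ g a := fun h => hx (h ▸ hcΓ)
        have e3 : x ≠ τ a := fun h => hx (h ▸ hbΓ)
        have e4 : x ≠ τ (g a) := fun h => hx (h ▸ hdΓ)
        rw [swap_apply_of_ne_of_ne e3 e4, swap_apply_of_ne_of_ne e1 e2, hsup g hg.1 x hx]
    have hΔ : Nonempty Δ := (Nat.card_pos_iff.1 (by omega)).1
    obtain ⟨e, he⟩ := hΔ
    have f1 : e ≠ a := fun h => ha (h ▸ he)
    have f2 : e ≠ g a := fun h => hcΓ (h ▸ he)
    have f3 : e ≠ τ a := fun h => hbΓ (h ▸ he)
    have f4 : e ≠ τ (g a) := fun h => hdΓ (h ▸ he)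
    exact not_mem_of_Ce h1 hs N' hN' hn' hac hbc f1 f3 f2 f4 (hgs ▸ hg.2)
  refine card_le_two _ fun g hg h hh hg1 hh1 => ?_
  ext x
  by_cases hx : x ∈ Δᶜ
  · rw [key g hg hg1 x hx, key h hh hh1 x hx]
  · rw [hsup g hg.1 x hx, hsup h hh.1 x hx]

/-! ### the two overgroups -/

/-- `R, R' ≥ T`, `A_n ≰ R, R'`, `|N ∩ N'| ≤ 2`. -/
def Two {n : ℕ} (T : Subgroup (Perm (Fin n))) : Prop :=
  ∃ R R' : Subgroup (Perm (Fin n)), T ≤ R ∧ T ≤ R' ∧ (∃ c, sign c = 1 ∧ c ∉ R) ∧ (∃ c, sign c = 1 ∧ c ∉ R') ∧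
    ∀ N N' : Subgroup (Perm (Fin n)), N ≤ R → IsPGroup 2 N → (∀ c ∈ R, sign c = 1 → ∀ g ∈ N, c * g * c⁻¹ ∈ N) →
      N' ≤ R' → IsPGroup 2 N' → (∀ c ∈ R', sign c = 1 → ∀ g ∈ N', c * g * c⁻¹ ∈ N') →
      Nat.card (N ⊓ N' : Subgroup (Perm (Fin n))) ≤ 2

theorem Two.of_one {n : ℕ} {T R : Subgroup (Perm (Fin n))} (hT : T ≤ R) (hc : ∃ c, sign c = 1 ∧ c ∉ R)
    (h : ∀ N : Subgroup (Perm (Fin n)), N ≤ R → IsPGroup 2 N →
      (∀ c ∈ R, sign c = 1 → ∀ g ∈ N, c * g * c⁻¹ ∈ N) → Nat.card N ≤ 2) : Two T :=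
  ⟨R, R, hT, hT, hc, hc, fun N _ hN h2 hn _ _ _ =>
    (Nat.card_le_card_of_injective _ (Subgroup.inclusion_injective (inf_le_left : N ⊓ _ ≤ N))).trans (h N hN h2 hn)⟩

theorem main {n : ℕ} (h7 : 7 ≤ n) (h8 : n ≠ 8) (T : Subgroup (Perm (Fin n))) (hT : IsPGroup 2 T) : Two T := by
  classical
  have hadd : ∀ Δ : Set (Fin n), Nat.card Δ + Nat.card (Δᶜ : Set (Fin n)) = n := by
    intro Δ
    have h1 := Set.ncard_add_ncard_compl Δ
    rw [Nat.card_eq_fintype_card, Fintype.card_fin] at h1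
    exact h1
  rcases Nat.even_or_odd n with he | ho
  · -- even degree, at least 10
    have h10 : 10 ≤ n := by
      rcases he with ⟨k, hk⟩
      omega
    -- a proper invariant set with at least five points is enough
    have key : ∀ Δ : Set (Fin n), 5 ≤ Nat.card Δ → (∃ d, d ∉ Δ) → T ≤ St Δ → Two T := by
      intro Δ h5 hd hTS
      by_cases h4 : Nat.card (Δᶜ : Set (Fin n)) = 4
      · obtain ⟨m, hm⟩ := he
        obtain ⟨τ, hτ, hfp, hTτ⟩ := exists_tau (by omega : n = 2 * m) (by omega) T hT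
        set a : Fin n := ⟨0, by omega⟩ with ha
        obtain ⟨e, he1, he2⟩ : ∃ e : Fin n, a ≠ e ∧ τ a ≠ e := by
          by_contra hc
          push Not at hc
          have h1 : (Finset.univ : Finset (Fin n)) ⊆ {a, τ a} := by
            intro x _
            simp only [Finset.mem_insert, Finset.mem_singleton]
            by_cases hx : a = x
            · exact Or.inl hx.symm
            · exact Or.inr (hc x hx).symm
          have h2 := (Finset.card_le_card h1).trans Finset.card_le_two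
          rw [Finset.card_univ, Fintype.card_fin] at h2
          omega
        refine ⟨St Δ, Ce τ, hTS, fun g hg => mem_Ce.2 (hTτ g hg), ex_St (by omega) hd, ex_Ce hfp hτ he1 he2, ?_⟩
        intro N N' hN h2 hn hN' h2' hn'
        exact good_St_Ce h5 h4 hfp hτ N N' h2 hN hn h2' hN' hn'
      · refine Two.of_one hTS (ex_St (by omega) hd) fun N hN h2 hn => ?_
        rcases Nat.lt_or_ge (Nat.card (Δᶜ : Set (Fin n))) 4 with h | h
        · exact good_St_two h5 (by omega) N h2 hN hn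
        · exact good_St_big h5 (by omega) N h2 hN hn
    have hpos : 0 < n := by omega
    set x₀ : Fin n := ⟨0, hpos⟩ with hx₀
    by_cases htr : ∀ x, ∃ h ∈ T, h x₀ = x
    · -- transitive
      let S : Subgroup T := (MulAction.stabilizer (Perm (Fin n)) x₀).subgroupOf T
      have hSm : ∀ h : T, h ∈ S ↔ (h : Perm (Fin n)) x₀ = x₀ := fun h => by
        rw [Subgroup.mem_subgroupOf, MulAction.mem_stabilizer_iff]
        rfl
      obtain ⟨t, ht⟩ := (IsPGroup.iff_card (p := 2) (G := T)).1 hT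
      obtain ⟨s, hs⟩ := (IsPGroup.iff_card (p := 2) (G := S)).1 (hT.to_subgroup S)
      have hst : s < t := by
        have h1 : Nat.card S ∣ Nat.card T := Subgroup.card_subgroup_dvd_card S
        have h2 : Nat.card S ≤ Nat.card T := Nat.le_of_dvd Nat.card_pos h1
        rw [hs, ht] at h2
        have h3 : s ≤ t := (Nat.pow_le_pow_iff_right (by norm_num)).1 h2
        refine lt_of_le_of_ne h3 fun h => ?_
        have h4 : Nat.card S = Nat.card T := by rw [hs, ht, h]
        have h5 : S = ⊤ := Subgroup.eq_top_of_card_eq S h4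
        obtain ⟨h, hh, hhx⟩ := htr ⟨1, by omega⟩
        have h6 : (⟨h, hh⟩ : T) ∈ S := by rw [h5]; trivial
        rw [hSm] at h6
        have h7 : (⟨1, by omega⟩ : Fin n) = x₀ := hhx.symm.trans h6
        rw [hx₀, Fin.mk.injEq] at h7
        omega
      have hpt : 2 ^ (t - 1) ∣ Nat.card T := by
        rw [ht]; exact Nat.pow_dvd_pow 2 (by omega)
      obtain ⟨M, hM, hSM⟩ := Sylow.exists_subgroup_card_pow_prime_le 2 hpt S hs (by omega)
      have hMi : M.index = 2 := by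
        have h1 := M.card_mul_index
        rw [hM, ht] at h1
        have h2 : 2 ^ t = 2 ^ (t - 1) * 2 := by
          rw [← pow_succ]; congr 1; omega
        rw [h2] at h1
        exact Nat.eq_of_mul_eq_mul_left (by positivity) h1
      let Δ : Set (Fin n) := {x | ∃ m : T, m ∈ M ∧ (m : Perm (Fin n)) x₀ = x}
      have hΔ : ∀ h : T, (h : Perm (Fin n)) x₀ ∈ Δ ↔ h ∈ M := by
        intro h
        constructor
        · rintro ⟨m, hm, hmx⟩
          have h1 : m⁻¹ * h ∈ S := by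
            rw [hSm]
            change ((m : Perm (Fin n))⁻¹ * (h : Perm (Fin n))) x₀ = x₀
            rw [Perm.mul_apply, ← hmx]
            simp
          have h2 := M.mul_mem hm (hSM h1)
          rwa [mul_inv_cancel_left] at h2
        · exact fun hh => ⟨h, hh, rfl⟩
      have hgx : ∀ g : T, ∀ x, (g : Perm (Fin n)) x ∈ Δ ↔ (g ∈ M ↔ x ∈ Δ) := by
        intro g x
        obtain ⟨h, hh, hhx⟩ := htr x
        have h1 : (g : Perm (Fin n)) x = ((g * ⟨h, hh⟩ : T) : Perm (Fin n)) x₀ := by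
          rw [← hhx]; rfl
        have h2 : x = ((⟨h, hh⟩ : T) : Perm (Fin n)) x₀ := hhx.symm
        rw [h1, hΔ, Subgroup.mul_mem_iff_of_index_two hMi]
        conv_rhs => rw [h2, hΔ]
      have hTB : T ≤ Bl Δ := by
        intro g hg
        by_cases hgM : (⟨g, hg⟩ : T) ∈ M
        · refine Or.inl fun x => ?_
          have := hgx ⟨g, hg⟩ x
          simpa [hgM] using this
        · refine Or.inr fun x => ?_
          have := hgx ⟨g, hg⟩ x
          simpa [hgM] using this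
      obtain ⟨g, hgM⟩ : ∃ g : T, g ∉ M := by
        by_contra hc
        push Not at hc
        have h1 : M = ⊤ := Subgroup.eq_top_iff' M |>.2 hc
        rw [h1, Subgroup.index_top] at hMi
        omega
      have hsw : ∀ x, (g : Perm (Fin n)) x ∈ Δ ↔ x ∉ Δ := fun x => by
        have := hgx g x
        simpa [hgM] using this
      have hc1 : Nat.card Δ ≤ Nat.card (Δᶜ : Set (Fin n)) := by
        refine Nat.card_le_card_of_injective (fun x : Δ => (⟨(g : Perm (Fin n)) x, fun h => (hsw _).1 h x.2⟩ :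
          (Δᶜ : Set (Fin n)))) ?_
        intro x y hxy
        exact Subtype.ext ((g : Perm (Fin n)).injective (congrArg Subtype.val hxy))
      have hc2 : Nat.card (Δᶜ : Set (Fin n)) ≤ Nat.card Δ := by
        refine Nat.card_le_card_of_injective (fun x : (Δᶜ : Set (Fin n)) => (⟨(g : Perm (Fin n)) x, (hsw _).2 x.2⟩ :
          Δ)) ?_
        intro x y hxy
        exact Subtype.ext ((g : Perm (Fin n)).injective (congrArg Subtype.val hxy))
      have hsum := hadd Δ
      have h5 : 5 ≤ Nat.card Δ := by omega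
      have h5' : 5 ≤ Nat.card (Δᶜ : Set (Fin n)) := by omega
      have hd : ∃ d, d ∉ Δ := by
        have : Nonempty (Δᶜ : Set (Fin n)) := (Nat.card_pos_iff.1 (by omega)).1
        exact ⟨this.some.1, this.some.2⟩
      exact Two.of_one hTB (ex_Bl (by omega) hd) fun N hN h2 hn => good_Bl h5 h5' N h2 hN hn
    · -- intransitive
      push Not at htr
      obtain ⟨y, hy⟩ := htr
      let Δ : Set (Fin n) := {x | ∃ h ∈ T, h x₀ = x}
      have hyΔ : y ∉ Δ := by
        rintro ⟨h, hh, hhy⟩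
        exact hy h hh hhy
      have hTΔ : T ≤ St Δ := by
        intro g hg x
        constructor
        · rintro ⟨h, hh, hhx⟩
          refine ⟨g⁻¹ * h, T.mul_mem (T.inv_mem hg) hh, ?_⟩
          rw [Perm.mul_apply, hhx]
          simp
        · rintro ⟨h, hh, hhx⟩
          exact ⟨g * h, T.mul_mem hg hh, by rw [Perm.mul_apply, hhx]⟩
      have hsum := hadd Δ
      rcases Nat.lt_or_ge (Nat.card Δ) 5 with h | h
      · refine key Δᶜ (by omega) ⟨x₀, ?_⟩ (by rw [St_compl]; exact hTΔ)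
        rw [Set.mem_compl_iff, not_not]
        exact ⟨1, T.one_mem, rfl⟩
      · exact key Δ h ⟨y, hyΔ⟩ hTΔ
  · -- odd degree: a fixed point
    have h1 := hT.card_modEq_card_fixedPoints (Fin n)
    have h2 : (MulAction.fixedPoints T (Fin n)).Nonempty := by
      rw [← Set.nonempty_coe_sort]
      by_contra hc
      rw [not_nonempty_iff] at hc
      have h3 : Nat.card (MulAction.fixedPoints T (Fin n)) = 0 := Nat.card_of_isEmpty
      have h4 : Nat.card (Fin n) = n := by rw [Nat.card_eq_fintype_card, Fintype.card_fin]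
      rw [h3, h4] at h1
      have : n % 2 = 0 := h1
      obtain ⟨k, hk⟩ := ho
      omega
    obtain ⟨x, hx⟩ := h2
    have hx' : ∀ g ∈ T, g x = x := fun g hg => hx ⟨g, hg⟩
    have hsum := hadd {x}
    have hone : Nat.card ({x} : Set (Fin n)) = 1 := by simp
    have hTS : T ≤ St (({x} : Set (Fin n))ᶜ) := by
      rw [St_compl]
      intro g hg y
      rw [Set.mem_singleton_iff, Set.mem_singleton_iff]
      constructor
      · intro h
        exact g.injective (h.trans (hx' g hg).symm)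
      · rintro rfl
        exact hx' g hg
    refine Two.of_one hTS (ex_St (by omega) ⟨x, by simp⟩) fun N hN h2 hn => ?_
    exact good_St_two (by omega) (by rw [compl_compl, hone]; omega) N h2 hN hn

end Cfsg.Agent.Omega.ML.ExLow.AltPermTwo

end

-- merged: Cfsg.Agent.Mrg.Omega.ML.ExLow.Alt
section

/-!
# (EXL), the alternating row (helper461)

* **`over_two`** : `X` almost simple with socle `A_n`, `n ≥ 7`, `n ≠ 8`, `T` a 2-subgroup: there are proper overgroups
  `R, R'` of `T` with `|O₂(R) ∩ O₂(R')| ≤ 2`;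
* `card_le_two` : so a low `A` has order at most 2 (no module);
* **`deadX_alt`** : the row `DeadX` of the alternating groups of degree `n ≥ 7`, `n ≠ 8`.
-/

set_option autoImplicit false

namespace Cfsg.Agent.Omega.ML.ExLow.Alt

open Subgroup Equiv Equiv.Perm Cfsg Cfsg.Agent.ZN Cfsg.Agent.Omega.ML.Rows Cfsg.Agent.Omega.ML.Ex
open Cfsg.Agent.Omega.ML.ExLow
open Cfsg.Agent.MinSimple.VModule (o2_isPGroup o2_le le_normalizer_o2)

universe u v

theorem over_two {X : Type u} [Group X] [Finite X] (S : Subgroup X) [S.Normal]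
    (hC : centralizer (S : Set X) = ⊥) {n : ℕ} (h7 : 7 ≤ n) (h8 : n ≠ 8) (e : S ≃* alternatingGroup (Fin n))
    (T : Subgroup X) (hT : IsPGroup 2 T) : ∃ R R' : Subgroup X, T ≤ R ∧ R ≠ ⊤ ∧ T ≤ R' ∧ R' ≠ ⊤ ∧
      Nat.card (o2 R ⊓ o2 R' : Subgroup X) ≤ 2 := by
  obtain ⟨π, hπ, hS⟩ := AltRow.exists_emb S hC h7 e
  obtain ⟨R₀, R₀', hTR, hTR', ⟨c, hc, hcR⟩, ⟨c', hc', hcR'⟩, hN⟩ :=
    AltPermTwo.main h7 h8 (T.map π) (hT.map π)
  have hex : ∀ c : Perm (Fin n), sign c = 1 → ∃ s, π s = c := by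
    intro c hc
    have h1 : c ∈ S.map π := by rw [hS]; exact mem_alternatingGroup.2 hc
    obtain ⟨s, -, hs⟩ := h1
    exact ⟨s, hs⟩
  have htop : ∀ (R₀ : Subgroup (Perm (Fin n))) (c : Perm (Fin n)), sign c = 1 → c ∉ R₀ → R₀.comap π ≠ ⊤ := by
    intro R₀ c hc hcR h
    obtain ⟨s, hs⟩ := hex c hc
    have h1 : s ∈ R₀.comap π := by rw [h]; trivial
    rw [mem_comap, hs] at h1
    exact hcR h1
  have hnor : ∀ (R₀ : Subgroup (Perm (Fin n))), ∀ c ∈ R₀, sign c = 1 → ∀ g ∈ (o2 (R₀.comap π)).map π,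
      c * g * c⁻¹ ∈ (o2 (R₀.comap π)).map π := by
    rintro R₀ c hcR hc1 _ ⟨g, hg, rfl⟩
    obtain ⟨s, rfl⟩ := hex c hc1
    have h2 : s ∈ R₀.comap π := hcR
    refine ⟨s * g * s⁻¹, ?_, by simp⟩
    exact (mem_normalizer_iff.1 (le_normalizer_o2 _ h2) g).1 hg
  refine ⟨R₀.comap π, R₀'.comap π, Subgroup.map_le_iff_le_comap.1 hTR, htop _ c hc hcR,
    Subgroup.map_le_iff_le_comap.1 hTR', htop _ c' hc' hcR', ?_⟩
  have h1 := hN ((o2 (R₀.comap π)).map π) ((o2 (R₀'.comap π)).map π)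
    (Subgroup.map_le_iff_le_comap.2 (o2_le _)) ((o2_isPGroup _).map π) (hnor R₀)
    (Subgroup.map_le_iff_le_comap.2 (o2_le _)) ((o2_isPGroup _).map π) (hnor R₀')
  rw [← Subgroup.map_inf _ _ _ hπ, card_map_of_injective hπ] at h1
  exact h1

/-- A low subgroup has order at most 2. -/
theorem card_le_two {X : Type u} [Group X] [Finite X] {S T A : Subgroup X} (hS : S.Normal)
    (hC : centralizer (S : Set X) = ⊥) {n : ℕ} (h7 : 7 ≤ n) (h8 : n ≠ 8) (e : S ≃* alternatingGroup (Fin n))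
    (hT : IsPGroup 2 T) (low : ∀ R : Subgroup X, T ≤ R → R ≠ ⊤ → A ≤ o2 R) : Nat.card A ≤ 2 := by
  obtain ⟨R, R', h1, h2, h3, h4, h5⟩ := over_two S hC h7 h8 e T hT
  exact (card_le_of_le (le_inf (low R h1 h2) (low R' h3 h4))).trans h5

/-- **The alternating rows of (EXL), degree `≥ 7`, `≠ 8`.** -/
theorem deadX_alt : DeadX.{u, v} @IsAlt7 := by
  rintro H _ _ M _ _ _ K T A h ⟨n, h7, h8, ⟨e⟩⟩
  have h1 := card_le_two h.norm h.cen h7 h8 e h.two h.low
  have h2 := h.four
  omega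

end Cfsg.Agent.Omega.ML.ExLow.Alt

end

-- merged: Cfsg.Agent.Mrg.Omega.ML.Ex.RowFi23X
section

section


/-!
# Exact and low configurations: the group-theoretic row Fi23 over `ASx` (helper333)
-/

set_option autoImplicit false

namespace Cfsg.Agent.Omega.ML.Ex.RowFi23X

open Subgroup Cfsg Cfsg.Agent.ZN Cfsg.Agent.Omega.ML.Rows
open Cfsg.Agent.MinSimple.VModule (o2_isPGroup o2_le le_o2 le_normalizer_o2)

universe u v w

/-- **One overgroup of odd index.** -/
theorem card_le_of_sub {X : Type u} [Group X] [Finite X] {S T A : Subgroup X} (h : ASx S T A) {n : ℕ}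
    (h1 : S = ⊤) {Y : Type w} [Group Y] (e : S ≃* Y) {C : Subgroup Y}
    (hC : ¬ 2 ∣ C.index) (hC1 : C ≠ ⊤)
    (hD : ∀ D : Subgroup Y, D ≤ C → IsPGroup 2 D → (∀ c ∈ C, ∀ d ∈ D, c * d * c⁻¹ ∈ D) → ∀ B ≤ D,
      (∀ b ∈ B, b * b = 1) → Nat.card B ≤ n) : Nat.card A ≤ n := by
  have e1 : X ≃* Y := (Subgroup.topEquiv.symm.trans (MulEquiv.subgroupCongr h1.symm)).trans e
  obtain ⟨f, hf⟩ := RowFi23.exists_equiv e1 h.two hC
  have h2 : C.comap f.toMonoidHom ≠ ⊤ := by
    intro h3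
    apply hC1
    have h4 : (C.comap f.toMonoidHom).map f.toMonoidHom = C :=
      map_comap_eq_self_of_surjective (f := f.toMonoidHom) f.surjective C
    rw [← h4, h3]
    exact map_top_of_surjective f.toMonoidHom f.surjective
  have h3 := h.low _ hf h2
  rw [← card_map_of_injective (K := A) (f := f.toMonoidHom) f.injective]
  refine hD ((o2 (C.comap f.toMonoidHom)).map f.toMonoidHom) ?_ ((o2_isPGroup _).map _) ?_ _ (map_mono h3) ?_
  · rw [map_le_iff_le_comap]
    exact o2_le _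
  · rintro c hc _ ⟨d, hd, rfl⟩
    obtain ⟨x, rfl⟩ := f.surjective c
    have h4 := le_normalizer_o2 (C.comap f.toMonoidHom) (show x ∈ C.comap f.toMonoidHom from hc)
    exact ⟨x * d * x⁻¹, (mem_normalizer_iff.1 h4 d).1 hd, by simp⟩
  · rintro _ ⟨a, ha, rfl⟩
    rw [← map_mul, h.el a ha, map_one]

/-- The subgroup form of `hD` for a quasisimple subgroup with a centre of order at most `n`. -/
theorem card_le_of_quasi {Y : Type*} [Group Y] [Finite Y] {C : Subgroup Y} (h : IsQuasisimple C) {n : ℕ}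
    (hz : Nat.card (center C) ≤ n) (D : Subgroup Y) (hDC : D ≤ C) (hD2 : IsPGroup 2 D)
    (hDn : ∀ c ∈ C, ∀ d ∈ D, c * d * c⁻¹ ∈ D) (B : Subgroup Y) (hB : B ≤ D) : Nat.card B ≤ n := by
  have h1 : (D.subgroupOf C).Normal := ⟨fun d hd c => hDn c c.2 d hd⟩
  have h2 : IsPGroup 2 (D.subgroupOf C) := hD2.comap_subtype
  have h3 := RowFi23.le_center_of_quasi h h2
  have h4 : Nat.card (D.subgroupOf C) = Nat.card D := Nat.card_congr (subgroupOfEquivOfLe hDC).toEquiv
  calc Nat.card B ≤ Nat.card D := card_le_of_le hB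
    _ = Nat.card (D.subgroupOf C) := h4.symm
    _ ≤ Nat.card (center C) := card_le_of_le h3
    _ ≤ n := hz

open Cfsg.Agent.Fischer Cfsg.Agent.Fischer.Fi23Hom Cfsg.Agent.Fischer.Fi23Class Cfsg.Agent.Fischer.Fi23Z
open Cfsg.Agent.KFacts.FiTTh

/-- **The row `Fi23`**: `|A| ≤ 2`. -/
theorem fi23 : DeadGx.{u} 2 (fun S _ => Spor.IsoFi23 S) := by
  rintro X _ _ S T A h ⟨e⟩
  have hf : Finite Spor.Fi23 := Cfsg.Agent.Omega.Lie.Cen.finite_fi23
  have htop : S = ⊤ := h.top_of_inn (inner_of_equiv e fun β => Has.inn β)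
  refine card_le_of_sub h htop e (C := K) Cfsg.Agent.Omega.Lie.Cen.index_K ?_ fun D h1 h2 h3 B h4 _ => ?_
  · intro h1
    have h2 := Cfsg.Agent.SporRec.Fi23Index.index_H
    rw [show Cfsg.Agent.SporRec.Fi23Index.H = ⊤ from h1, index_top] at h2
    norm_num at h2
  · exact card_le_of_quasi Quasi.qs_K (by rw [Quasi.cover.1]) D h1 h2 h3 B h4

/-- **The row is dead.** -/
theorem fi23_dead : DeadX.{u, v} (fun S _ => Spor.IsoFi23 S) := fi23.deadX (by norm_num)

end Cfsg.Agent.Omega.ML.Ex.RowFi23X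

end

section


/-!
# Exact and low configurations: the row J1 (helper333): `|A| ≤ 2`

`E` a Sylow 2-subgroup, `x₀ = f 3 ∈ E`, `bb ∈ C(x₀)` of order 3 with `E ∩ E^bb = ⟨x₀⟩`: normal 2-subgroups of `C(x₀)`
are in `⟨x₀⟩`.
-/

set_option autoImplicit false
set_option maxRecDepth 100000

namespace Cfsg.Agent.Omega.ML.Ex.RowJ1X

open Subgroup Cfsg Cfsg.Agent.ZN Cfsg.Agent.Omega.ML.Rows
open Cfsg.Agent.OddHalf.D4.Spor.J1Out
open Cfsg.Agent.SporadicB.J1.Mat Cfsg.Agent.SporadicB.J1.Main Cfsg.Agent.SporadicB.J1.Data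
open Cfsg.Agent.SporadicB.KTab
open Cfsg.Spor (J1)
open Cfsg.Agent.SignalizersComponents.BalEndJ1 (card_J1)

universe u v

theorem code_ok : ∀ i j : Fin 8, i = 0 ∨ i = 3 ∨ diffC (mulC (H 186) (cf i)) (mulC (cf j) (H 186)) = true := by
  decide +kernel

theorem EE_le : EE ≤ centralizer ({f 3} : Set J1) := by
  rintro x hx
  obtain ⟨i, rfl⟩ := mem_EE.1 hx
  exact mem_centralizer_singleton_iff.2 (f_comm i 3)

theorem le_EE (D : Subgroup J1) (h2 : IsPGroup 2 D)
    (hN : ∀ c ∈ centralizer ({f 3} : Set J1), ∀ d ∈ D, c * d * c⁻¹ ∈ D) : D ≤ EE := by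
  have hp : Fact (Nat.Prime 2) := ⟨Nat.prime_two⟩
  have hfin : Finite J1 := Nat.finite_of_card_ne_zero (by rw [card_J1]; norm_num)
  have hE2 : IsPGroup 2 EE := IsPGroup.of_card (n := 3) (by rw [card_EE]; norm_num)
  have hEN : EE ≤ normalizer (D : Set J1) := by
    intro c hc
    have hc1 := EE_le hc
    rw [mem_normalizer_iff]
    intro x
    refine ⟨fun hx => hN c hc1 x hx, fun hx => ?_⟩
    have h3 := hN c⁻¹ (inv_mem hc1) _ hx
    have h4 : c⁻¹ * (c * x * c⁻¹) * c⁻¹⁻¹ = x := by group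
    rwa [h4] at h3
  have hs : IsPGroup 2 (EE ⊔ D : Subgroup J1) := hE2.to_sup_of_normal_right' h2 hEN
  have h3 : EE = EE ⊔ D := by
    refine eq_of_le_of_card_ge le_sup_left ?_
    obtain ⟨n, hn⟩ := IsPGroup.iff_card.1 hs
    have h4 : 2 ^ n ∣ 175560 := by
      rw [← hn, ← card_J1]
      exact card_subgroup_dvd_card _
    rw [hn, card_EE]
    have h5 : n ≤ 3 := by
      by_contra hcon
      have h6 : 2 ^ 4 ∣ 2 ^ n := pow_dvd_pow 2 (by omega)
      have h7 := h6.trans h4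
      norm_num at h7
    calc 2 ^ n ≤ 2 ^ 3 := Nat.pow_le_pow_right (by norm_num) h5
      _ = 8 := by norm_num
  rw [h3]
  exact le_sup_right

theorem card_le_two (D : Subgroup J1) (h2 : IsPGroup 2 D)
    (hN : ∀ c ∈ centralizer ({f 3} : Set J1), ∀ d ∈ D, c * d * c⁻¹ ∈ D) (B : Subgroup J1) (hB : B ≤ D) :
    Nat.card B ≤ 2 := by
  have hDE := le_EE D h2 hN
  have hle : B ≤ zpowers (f 3) := by
    intro b hb
    obtain ⟨i, rfl⟩ := mem_EE.1 (hDE (hB hb))
    have h1 := hN bb (mem_centralizer_singleton_iff.2 bb_comm) _ (hB hb)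
    obtain ⟨j, hj⟩ := mem_EE.1 (hDE h1)
    rcases code_ok i j with rfl | rfl | h3
    · rw [f_zero]
      exact one_mem _
    · exact mem_zpowers _
    · exact absurd (mul_inv_eq_iff_eq_mul.1 hj.symm) ((rep_bb.mul (rep_f i)).ne ((rep_f j).mul rep_bb) h3)
  refine (card_le_of_le hle).trans ?_
  rw [Nat.card_zpowers]
  exact Nat.le_of_dvd (by norm_num) (orderOf_dvd_of_pow_eq_one (by rw [pow_two]; exact f_sq 3))

/-- **The row `J1`**: `|A| ≤ 2`. -/
theorem j1 : DeadGx.{u} 2 (fun S _ => Spor.IsoJ1 S) := by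
  rintro X _ _ S T A h ⟨e⟩
  have hfin : Finite J1 := Nat.finite_of_card_ne_zero (by rw [card_J1]; norm_num)
  have htop : S = ⊤ := h.top_of_inn (inner_of_equiv e inn)
  refine RowFi23X.card_le_of_sub h htop e (C := centralizer ({f 3} : Set J1)) ?_ ?_
    fun D _ h2 h3 B h4 _ => card_le_two D h2 h3 B h4
  · intro h1
    have h2 : (centralizer ({f 3} : Set J1)).index ∣ EE.index := index_dvd_of_le EE_le
    have h3 := EE.card_mul_index
    rw [card_EE, card_J1] at h3
    have h4 : EE.index = 21945 := by omega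
    rw [h4] at h2
    have h5 := h1.trans h2
    norm_num at h5
  · intro h1
    have h2 : r ∈ centralizer ({f 3} : Set J1) := h1 ▸ mem_top _
    have h3 : nn ∈ centralizer ({f 3} : Set J1) := h1 ▸ mem_top _
    have h4 := mem_centralizer_singleton_iff.1 h3
    have h5 := nn_conj 3
    rw [h4, mul_inv_cancel_right] at h5
    have h6 := f_inj h5
    revert h6
    decide

/-- **The row is dead.** -/
theorem j1_dead : DeadX.{u, v} (fun S _ => Spor.IsoJ1 S) := j1.deadX (by norm_num)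

end Cfsg.Agent.Omega.ML.Ex.RowJ1X

end

end

-- merged: Cfsg.Agent.Mrg.Omega.ML.Ex.RowJ4X
section

/-!
# K-list "exact + low": the row `J4` (helper43)

The sheet of type (E) of `J4`: `P = 2^{1+12}.3.M22`, `R = 2^{1+12}`, `n = 6`; `P / R⟨ρ⟩ = M22` has no nontrivial
representation of degree `≤ 6` over `F₂` (`11` divides its order).
-/

set_option autoImplicit false

namespace Cfsg.Agent.Omega.ML.Ex.RowJ4X

open Subgroup Cfsg Cfsg.Agent.J4Type Cfsg.Agent.KFacts.J4 Cfsg.Agent.KFacts.J4.Base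
open Cfsg.Agent.Omega.Lie.Heis (LB)
open Cfsg.Agent.Omega.ML.ExRec Cfsg.Agent.Omega.ML.Ex Cfsg.Agent.OddHalf.D8.Sheet Cfsg.Agent.OddHalf.D8.JTwo.Sheet
open Cfsg.Agent.SporadicA.MathieuRecog (card_M22 simple_M22)

universe u v w

theorem ord_11 : 10 ≤ orderOf (2 : ZMod 11) :=
  TwoF.le_orderOf_two (isOfFinOrder_iff_pow_eq_one.2 ⟨10, by norm_num, by decide⟩) (by decide)

/-- **LB** for `M22` -/
theorem lb_M22 : LB.{0, u, v} Cfsg.Spor.M22 7 := by
  have := simple_M22
  have h : LB.{0, u, v} Cfsg.Spor.M22 10 :=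
    LB.prime (p := 11) (by norm_num) (by norm_num) (by rw [card_M22]; norm_num) ord_11
  exact h.mono (by norm_num)

variable {K : Type w} [Group K]

/-- the kernel of `P → M22` is central modulo `Q` -/
theorem central (C : Cent K) (x : MM C) (hx : AutP.pi C x = 1) (y : MM C) :
    (x : K) * y * (x : K)⁻¹ * (y : K)⁻¹ ∈ C.Q := by
  obtain ⟨q, hq, i, hi⟩ := (AutP.pi_eq_one x).1 hx
  obtain ⟨hyc, hy⟩ := mem_MM.1 y.2
  obtain ⟨r, hr, hr'⟩ := C.P_inner ⟨y, hyc⟩ hy
  have hr2 : (y : K) * C.ρ * (y : K)⁻¹ = r * C.ρ := hr'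
  -- `y ρ^i y⁻¹ ∈ Q ρ^i`
  have key : ∀ j : ℕ, ∃ s ∈ C.Q, (y : K) * C.ρ ^ j * (y : K)⁻¹ = s * C.ρ ^ j := by
    intro j
    induction j with
    | zero => exact ⟨1, C.Q.one_mem, by rw [pow_zero, mul_one, mul_inv_cancel, one_mul]⟩
    | succ j ih =>
      obtain ⟨s, hs, h1⟩ := ih
      have hm : C.ρ ^ j * C.z = C.z * C.ρ ^ j := comm_z ((MM C).pow_mem (rho_mem_MM C) j)
      refine ⟨s * (C.ρ ^ j * r * (C.ρ ^ j)⁻¹), C.Q.mul_mem hs (C.Q_conj _ hm r hr), ?_⟩
      calc (y : K) * C.ρ ^ (j + 1) * (y : K)⁻¹ = ((y : K) * C.ρ ^ j * (y : K)⁻¹) * ((y : K) * C.ρ * (y : K)⁻¹) := by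
            rw [pow_succ]; group
        _ = s * (C.ρ ^ j * r * (C.ρ ^ j)⁻¹) * C.ρ ^ (j + 1) := by rw [h1, hr2, pow_succ]; group
  obtain ⟨s, hs, h1⟩ := key i
  have hyz := comm_z y.2
  have h2 : (y : K) * x * (y : K)⁻¹ = ((y : K) * q * (y : K)⁻¹) * (s * q⁻¹) * x := by
    rw [hi]
    calc (y : K) * (q * C.ρ ^ i) * (y : K)⁻¹ = ((y : K) * q * (y : K)⁻¹) * ((y : K) * C.ρ ^ i * (y : K)⁻¹) := by group
      _ = ((y : K) * q * (y : K)⁻¹) * (s * q⁻¹) * (q * C.ρ ^ i) := by rw [h1]; group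
  have h3 : (x : K) * y * (x : K)⁻¹ * (y : K)⁻¹ = ((y : K) * x * (y : K)⁻¹ * (x : K)⁻¹)⁻¹ := by group
  rw [h3, h2, mul_inv_cancel_right]
  exact C.Q.inv_mem (C.Q.mul_mem (C.Q_conj _ hyz q hq) (C.Q.mul_mem hs (C.Q.inv_mem hq)))

/-- `|Q⟨ρ⟩ : Q|` is odd -/
theorem odd_ker [Finite K] (C : Cent K) : Odd ((C.Q.subgroupOf (MM C)).relIndex (AutP.pi C).ker) := by
  have hn : ((C.Q.subgroupOf (MM C)).subgroupOf (AutP.pi C).ker).Normal :=
    ⟨fun q hq g => C.Q_conj _ (comm_z (g : MM C).2) _ hq⟩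
  have h3 : IsPGroup 3 ((AutP.pi C).ker ⧸ (C.Q.subgroupOf (MM C)).subgroupOf (AutP.pi C).ker) := by
    intro x
    obtain ⟨x, rfl⟩ := QuotientGroup.mk_surjective x
    refine ⟨1, ?_⟩
    rw [pow_one, ← QuotientGroup.mk_pow, QuotientGroup.eq_one_iff]
    obtain ⟨q, hq, i, hi⟩ := (AutP.pi_eq_one (x : MM C)).1 x.2
    obtain ⟨q', hq', h1⟩ := AutP.pow_eq hq i 3
    rw [← hi, ← pow_mul, mul_comm i, pow_mul, AutP.rho_cube, one_pow, mul_one] at h1
    change ((x : MM C) : K) ^ 3 ∈ C.Q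
    rw [h1]
    exact hq'
  have : Fact (Nat.Prime 3) := ⟨Nat.prime_three⟩
  obtain ⟨n, hn⟩ := IsPGroup.iff_card.1 h3
  have h4 : (C.Q.subgroupOf (MM C)).relIndex (AutP.pi C).ker = 3 ^ n := hn
  rw [h4]
  exact Odd.pow (by decide)

/-- **the sheet** -/
theorem exists_sheet (S : Type w) [Group S] [Finite S] (h : Spor.IsoJ4 S) :
    ∃ (z : S) (P R : Subgroup S) (n : ℕ), SheetE z P R ∧ 2 ≤ n ∧ Nat.card R = 2 ^ (2 * n + 1) ∧
      TrivC.{u, v, w} (centralizer ({z} : Set S)) P n := by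
  obtain ⟨hfin, hs, ⟨F⟩⟩ := exists_full h
  have hE := SheetJ4.sheet F
  have hX := of_sheetE hE
  refine ⟨_, _, _, 6, hE, by norm_num, F.C.Q_card, ?_⟩
  refine ExTriv.trivC_of_lb (MM_le F.C.toCent) hX.R2 hX.Rn hX.perf (AutP.pi F.C.toCent)
    (AutP.pi_surjective F.C.toCent) ?_ (central F.C.toCent) (odd_ker F.C.toCent) lb_M22
  intro x hx
  exact (AutP.pi_eq_one x).2 ⟨x, hx, 0, by rw [pow_zero, mul_one]⟩

/-- **The row `J4`.** (no atom, no `sub`) -/
theorem deadX : DeadX.{u, v} @Spor.IsoJ4 :=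
  ExEx.SheetRow.deadX_of_sheet fun S _ _ hS => exists_sheet S hS

/-- the row for `InN` -/
theorem deadN : DeadN.{u, v} @Spor.IsoJ4 := DeadX.deadN deadX

end Cfsg.Agent.Omega.ML.Ex.RowJ4X

end

-- merged: Cfsg.Agent.Mrg.Omega.ML.Ex.RowPspEight
section

/-!
# The K-list EXACT + LOW: the row `PSp₈(3)` (helper831)

`K A` has a faithful irreducible section `N` of `M` with `|N| ≤ |K A| ≤ 3 ^ 36 * 2 ^ 8 < 2 ^ 72` (`NumX.exists_section`);
`|N| ≥ 2 ^ 72` (`PspEightLB.two_pow_le_card`).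

* `perfect`, `mv`, `le_fo` : the hypotheses of `NumX` from `InX`;
* **`deadX`** : the row.
-/

set_option autoImplicit false
set_option linter.unusedVariables false

namespace Cfsg.Agent.Omega.ML.Ex.RowPspEight

open Subgroup Cfsg Cfsg.Agent.Omega.TwoF Cfsg.Agent.Omega.ML.Num Cfsg.Agent.Omega.ML.CD
open Cfsg.Agent.Omega.NOThree.NoOver Cfsg.Agent.ClassTwoFusion.Quad
open Cfsg.Agent.Omega.Lie Cfsg.Agent.Omega.ML.ExLow.NumX
open Cfsg.Agent.Omega.TwoF.RkLin Cfsg.Agent.Omega.TwoF.RkPSL Cfsg.Agent.Omega.TwoF.RkPSp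

universe u v w

section inx

variable {H : Type u} [Group H] {M : Type v} [Group M] [MulDistribMulAction H M] {K T A : Subgroup H}

theorem perfect (h : InX H M K T A) : _root_.commutator K = ⊤ := by
  have hs := h.simple
  rcases hs.eq_bot_or_eq_top_of_normal (_root_.commutator K) inferInstance with h1 | h1
  · exfalso
    have h2 : K ≤ centralizer (K : Set H) := by
      intro x hx
      rw [mem_centralizer_iff]
      intro y hy
      have h3 : (⟨y, hy⟩ : K) * ⟨x, hx⟩ * (⟨y, hy⟩ : K)⁻¹ * (⟨x, hx⟩ : K)⁻¹ ∈ _root_.commutator K :=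
        commutator_mem_commutator (mem_top _) (mem_top _)
      rw [h1, mem_bot, mul_inv_eq_one, mul_inv_eq_iff_eq_mul] at h3
      exact congrArg Subtype.val h3
    rw [h.cen] at h2
    obtain ⟨x, hx⟩ := exists_ne (1 : K)
    exact hx (Subtype.ext (mem_bot.1 (h2 x.2)))
  · exact h1

theorem mv [Finite H] (h : InX H M K T A) : Mv K M := by
  have hs := h.simple
  by_contra hcon
  obtain ⟨x, hx⟩ := exists_ne (1 : K)
  exact hx (Subtype.ext (h.faith x fun m => not_mv hcon x.2 m))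

theorem le_fo [Finite H] [Finite M] (h : InX H M K T A) : Nat.card M ≤ fo M A := by
  show Nat.card M ≤ Nat.card A * Nat.card (cv M (A : Set H))
  rw [← h.exact, mul_comm, card_mul_index]

end inx

/-- The class `PSp₈(3)`. -/
def Cls (S : Type u) [Group S] : Prop :=
  ∃ (F : Type) (_ : Field F) (_ : Fintype F), Fintype.card F = 3 ∧ Nonempty (S ≃* PSp 4 F)

theorem cardB {F : Type w} [Field F] [Fintype F] (hF : Fintype.card F = 3) : CardB.{u} (PSp 4 F) (2 ^ 72) := by
  have : Fact (Nat.Prime 3) := ⟨Nat.prime_three⟩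
  have hch : CharP F 3 := PspEightLB.charP_three hF
  have h2 : (2 : F) ≠ 0 := RowPsp.two_ne (p := 3) (by norm_num)
  have h3 : rk (4 + 4) + 1 = 8 := by decide
  have h4 : Rk.RK.{u} (PSp 4 F) 8 := h3 ▸ RowPsp.rk_of_aut (rkAut h2 (by omega))
  refine CardB.of_out (OutB.of_rk h4) ?_
  have h5 := RowPsp.card_le (F := F) (m := 4) (by rw [hF]; decide) (by omega)
  rw [hF] at h5
  calc Nat.card (PSp 4 F) * 2 ^ 8 ≤ 3 ^ (4 * (2 * 4 + 1)) * 2 ^ 8 := Nat.mul_le_mul_right _ h5
    _ < 2 ^ 72 := by norm_num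

/-- **The row `PSp₈(3)`, exact.** -/
theorem deadX : DeadX.{u, v} @Cls.{u} := by
  intro H _ _ M _ _ _ K T A h hS
  obtain ⟨F, _, _, hF, ⟨e⟩⟩ := hS
  have hs := h.simple
  obtain ⟨N, iN, fN, aN, sqN, ⟨k, m, hm⟩, hN⟩ := exists_section h.norm h.simple (perfect h) h.cen h.sq (mv h) h.el
    h.A_ne_bot (le_fo h) ((cardB.{u} hF).congr e.symm)
  have hcomm := comm_of_sq sqN
  let _ : CommGroup N := { iN with mul_comm := hcomm }
  let ψ : K →* MulAut N :=
    (MulDistribMulAction.toMulAut (K ⊔ A : Subgroup H) N).comp (inclusion (le_sup_left : K ≤ K ⊔ A))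
  have hψ : ψ.ker = ⊥ := by
    rcases hs.eq_bot_or_eq_top_of_normal ψ.ker inferInstance with h1 | h1
    · exact h1
    · exfalso
      apply hm
      have h2 : k ∈ ψ.ker := h1 ▸ mem_top k
      exact congrArg (fun e : MulAut N => e m) (MonoidHom.mem_ker.1 h2)
  let q : Matrix.symplecticGroup (Fin 4) F →* PSp 4 F := QuotientGroup.mk' _
  let ρ : Matrix.symplecticGroup (Fin 4) F →* MulAut N := (ψ.comp e.symm.toMonoidHom).comp q
  have hρ : ∀ o : Fin 4, ∃ s, ρ (PspOdd.z o s) ≠ 1 := by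
    intro o
    refine ⟨1, fun h1 => ?_⟩
    have h2 : e.symm (q (PspOdd.z o 1)) ∈ ψ.ker := MonoidHom.mem_ker.2 h1
    rw [hψ, mem_bot, map_eq_one_iff _ e.symm.injective] at h2
    have : Fact (Nat.Prime 3) := ⟨Nat.prime_three⟩
    have hch : CharP F 3 := PspEightLB.charP_three hF
    exact PspOdd.z_notMem o (RowPsp.two_ne (p := 3) (by norm_num)) ((QuotientGroup.eq_one_iff _).1 h2)
  have h1 := PspEightLB.two_pow_le_card hF sqN ρ (hρ 0) (hρ 1)
  omega

end Cfsg.Agent.Omega.ML.Ex.RowPspEight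

end

-- merged: Cfsg.Agent.Mrg.Omega.ML.Ex.OddLieX
section

section


/-!
# The K-list for EXACT subgroups (EXL): Lie type in odd characteristic, assembly (helper393)

* `IsLTwo` : `PSL₂(q)`, `q > 3` odd, `q ≠ 9`;
* **`cases`** : a group of Lie type in odd characteristic which is not of Lie type in characteristic 2, not `U₃(3)` and
  not `A₆` is `IsLTwo`, `L₃(3)`, `U₄(3)`, `PSp₄(q)`, `PSp₆(3)`, `PSp₈(3)`, `G₂(3)`, a Ree group, or `NX`;
* **`odd_of`**, `oddX_of` : the field `odd` from the row `IsLTwo` (over `Row` resp. `DeadX`).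
-/

set_option autoImplicit false

namespace Cfsg.Agent.Omega.ML.Ex.OddLieX

open Subgroup Cfsg Cfsg.Agent.Omega.KFacts Cfsg.Agent.Omega.ML.Rows Cfsg.Agent.Omega.ML.Known
  Cfsg.Agent.Omega.ML.ExLow Cfsg.Agent.Omega.ML.ExLow.NumX

universe u v

/-- `PSL₂(q)`, `q > 3` odd, `q ≠ 9` -/
def IsLTwo (S : Type u) [Group S] : Prop :=
  ∃ (F : Type) (_ : Field F) (_ : Fintype F), Odd (Fintype.card F) ∧ 3 < Fintype.card F ∧ Fintype.card F ≠ 9 ∧
    Nonempty (S ≃* Matrix.ProjectiveSpecialLinearGroup (Fin 2) F)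

/-- the groups which are not numerical (with `PSL₂(q)`) -/
def Small (S : Type u) [Group S] : Prop :=
  RowL33.IsL33 S ∨ IsUFourThree S ∨ RowPspFour.Cls S ∨ RowPspSix.IsPspSix S ∨ RowPspEight.Cls S ∨
    RowGTwoThree.IsGTwoThree S ∨ Lie.IsoRee S

/-- **The list.** -/
theorem cases {S : Type u} [Group S] (h : OddLie S) (h2 : ¬ IsLieTypeChar 2 S) (h33 : ¬ IsUThreeThree S)
    (h6 : ¬ Nonempty (S ≃* alternatingGroup (Fin 6))) : IsLTwo S ∨ Small S ∨ NX.{u, v} S := by
  obtain ⟨p, hp, hp2, h⟩ := h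
  rcases h with h | h | h | h | h | h | h | h | h | h | h
  · rcases XPsl.psl.{u, v} ⟨p, hp, hp2, h⟩ with h | h | h
    · left
      obtain ⟨F, i, j, h3, h4, ⟨e⟩⟩ := h
      refine ⟨F, i, j, h3, h4, fun h9 => h6 ?_, ⟨e⟩⟩
      obtain ⟨f⟩ := S0254.result h9
      exact ⟨e.trans f⟩
    · exact Or.inr (Or.inl (Or.inl h))
    · exact Or.inr (Or.inr h)
  · rcases XPsp.psp.{u, v} ⟨p, hp, hp2, h⟩ with ⟨F, i, j, h3, ⟨e⟩⟩ | h | h | h
    · by_cases h4 : 3 < Fintype.card F
      · exact Or.inr (Or.inl (Or.inr (Or.inr (Or.inl ⟨F, i, j, h3, h4, ⟨e⟩⟩))))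
      · exfalso
        have h5 : 1 < Fintype.card F := Fintype.one_lt_card
        obtain ⟨k, hk⟩ := h3
        exact h2 (RowPsp.lie_of_three (by omega) e)
    · exact Or.inr (Or.inl (Or.inr (Or.inr (Or.inr (Or.inl h)))))
    · exact Or.inr (Or.inl (Or.inr (Or.inr (Or.inr (Or.inr (Or.inl h))))))
    · exact Or.inr (Or.inr h)
  · by_cases h43 : IsUFourThree S
    · exact Or.inr (Or.inl (Or.inr (Or.inl h43)))
    · refine Or.inr (Or.inr (XPsu.psu _ ⟨p, hp, hp2, h⟩ ?_ h43))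
      rintro ⟨F, iF, jF, hF, ⟨e⟩⟩
      exact h33 ⟨F, iF, jF, by rw [hF]; norm_num, ⟨e⟩⟩
  · exact Or.inr (Or.inr (XOm.omOdd _ ⟨p, hp, hp2, h⟩))
  · exact Or.inr (Or.inr (XOm.omPlus _ ⟨p, hp, hp2, h⟩))
  · exact Or.inr (Or.inr (XOm.omMinus _ ⟨p, hp, hp2, h⟩))
  · rcases XExc.exceptional.{u, v} ⟨p, hp, hp2, h⟩ with h | h
    · exact Or.inr (Or.inl (Or.inr (Or.inr (Or.inr (Or.inr (Or.inr (Or.inl h)))))))
    · exact Or.inr (Or.inr h)
  · exact Or.inr (Or.inr (XExc.twisted ⟨p, hp, hp2, h⟩))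
  · exact absurd h.1 hp2
  · exact absurd h.1 hp2
  · exact Or.inr (Or.inl (Or.inr (Or.inr (Or.inr (Or.inr (Or.inr (Or.inr h.2)))))))

/-- the rows which are not numerical, without `PSL₂(q)` -/
theorem small : DeadX.{u, v} @Small.{u} :=
  RowL33X.deadEx.or <| RowUFourX.deadX.or <| RowPspFour.deadX.or <| RowPspSixX.dead.or <| RowPspEight.deadX.or <|
    RowGTwoX.deadX.or RowReeX.dead

/-- **The groups of Lie type in odd characteristic** over `InX`, from the row `PSL₂(q)`. -/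
theorem oddX_of (hl : DeadX.{u, v} @IsLTwo.{u}) :
    DeadX.{u, v} fun S _ => OddLie S ∧ ¬ IsLieTypeChar 2 S ∧ ¬ IsUThreeThree S ∧
      ¬ Nonempty (S ≃* alternatingGroup (Fin 6)) :=
  (hl.or (small.or ExLow.Dead.deadX)).mono fun _ _ h => cases h.1 h.2.1 h.2.2.1 h.2.2.2

/-- **The groups of Lie type in odd characteristic** over `Row`, from the row `PSL₂(q)`. -/
theorem odd_of (hl : Row.{u, v} @IsLTwo.{u}) :
    Row.{u, v} fun S _ => OddLie S ∧ ¬ IsLieTypeChar 2 S ∧ ¬ IsUThreeThree S ∧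
      ¬ Nonempty (S ≃* alternatingGroup (Fin 6)) :=
  (hl.or (small.row.or ExLow.Dead.deadX.row)).mono fun _ _ h => cases h.1 h.2.1 h.2.2.1 h.2.2.2

end Cfsg.Agent.Omega.ML.Ex.OddLieX

end

section


/-!
# Exact and low configurations: the group-theoretic row Co3 over `ASx` (helper333)
-/

set_option autoImplicit false

namespace Cfsg.Agent.Omega.ML.Ex.RowCo3X

open Subgroup Cfsg Cfsg.Agent.OddHalf.D8.Sheet Cfsg.Agent.Omega.ML.Rows
open Cfsg.Agent.ZN
open Cfsg.Agent.MinSimple.VModule (o2_isPGroup o2_le le_o2 le_normalizer_o2)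

universe u v

/-- `S = X`, `z` 2-central, `O₂(C_S(z)) ≤ ⟨z⟩`. -/
theorem card_le_of_center {X : Type*} [Group X] [Finite X] {S T A : Subgroup X} (h : ASx S T A) (hS : S = ⊤) {z : S}
    (hz1 : z ≠ 1) (hzz : z * z = 1)
    (hz : ∃ S₀ : Sylow 2 S, z ∈ S₀ ∧ (∀ x ∈ S₀, x * z = z * x) ∧ ∀ y ∈ S₀, (∀ x ∈ S₀, x * y = y * x) → y = 1 ∨ y = z)
    (hq : ∀ x ∈ o2 (centralizer ({z} : Set S)), x = 1 ∨ x = z) : Nat.card A ≤ 2 := by
  refine h.card_le_of_syl hz1 hz fun B hB _ => ?_
  have hN : (o2 (centralizer ({(z : X)} : Set X))).comap S.subtype ≤ o2 (centralizer ({z} : Set S)) := by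
    refine le_o2 ?_ ((o2_isPGroup _).comap_of_injective _ S.subtype_injective) ?_
    · intro x hx
      exact mem_centralizer_singleton_iff.2 (Subtype.ext (mem_centralizer_singleton_iff.1 (o2_le _ hx)))
    · intro x hx
      have h1 : (x : X) ∈ centralizer ({(z : X)} : Set X) :=
        mem_centralizer_singleton_iff.2 (congrArg Subtype.val (mem_centralizer_singleton_iff.1 hx))
      have h2 := mem_normalizer_iff.1 (le_normalizer_o2 _ h1)
      rw [mem_normalizer_iff]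
      intro y
      exact h2 (y : X)
  have hle : B ≤ zpowers (z : X) := by
    intro b hb
    have hbS : b ∈ S := hS ▸ mem_top b
    rcases hq ⟨b, hbS⟩ (hN (hB hb)) with h1 | h1
    · rw [show b = 1 from congrArg Subtype.val h1]
      exact one_mem _
    · rw [show b = (z : X) from congrArg Subtype.val h1]
      exact mem_zpowers _
  refine (card_le_of_le hle).trans ?_
  rw [Nat.card_zpowers]
  exact Nat.le_of_dvd (by norm_num) (orderOf_dvd_of_pow_eq_one (by rw [pow_two]; exact congrArg Subtype.val hzz))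

/-- **The row `Co3`.** -/
theorem co3 : DeadGx.{u} 2 (fun S _ => Spor.IsoCo3 S) := by
  intro X _ _ S T A h hS
  obtain ⟨z, hz⟩ := Cfsg.Agent.KFacts.Co3.Sheet.exists_facts hS
  have htop : S = ⊤ := h.top_of_inn fun α => hz.inner α
  refine card_le_of_center h htop hz.basic.z1 hz.basic.zz hz.basic.syl fun x hx => ?_
  exact hz.center x (o2_le _ hx) (RowCo3.o2_central hz.quasi x hx)

/-- **The row is dead.** -/
theorem co3_dead : DeadX.{u, v} (fun S _ => Spor.IsoCo3 S) := co3.deadX (by norm_num)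

end Cfsg.Agent.Omega.ML.Ex.RowCo3X

end

end

-- merged: Cfsg.Agent.Mrg.Omega.ML.Ex.RowJ23X
section

section


/-!
# Exact and low configurations: the group-theoretic rows J2, J3 over `ASx` (helper333)
-/

set_option autoImplicit false

namespace Cfsg.Agent.Omega.ML.Ex.RowJ23X

open Subgroup Cfsg Cfsg.Agent.OddHalf.D8.JTwo.Sheet Cfsg.Agent.Omega.ML.Rows

universe u

/-- **The row `J3`.** -/
theorem j3 : DeadGx.{u} 4 (fun S _ => Spor.IsoJ3 S) := by
  refine deadGx_of_sheet fun S _ _ hS => ?_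
  obtain ⟨z, Q, v, ρ, M, -, -, h⟩ := Cfsg.Agent.OddHalf.D8.RowJ3.sheet' S hS
  exact ⟨z, _, _, of_sheetE h, fun B hB hBe => Cfsg.Agent.Omega.TwoF.RowJ3.card_le_Q M B hB hBe⟩

/-- **The row `J2`.** -/
theorem j2 : DeadGx.{u} 4 (fun S _ => Spor.IsoJ2 S) := by
  refine deadGx_of_sheet fun S _ _ hS => ?_
  obtain ⟨t, u, Q, v, ρ, D⟩ := Cfsg.Agent.KFacts.J2.Facts.exists_dat_of hS
  exact ⟨t, _, _, Cfsg.Agent.KFacts.J2.SheetX.sheetX D, fun B hB hBe =>
    Cfsg.Agent.Omega.TwoF.RowJ3.card_le_Q D.M B hB hBe⟩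

end Cfsg.Agent.Omega.ML.Ex.RowJ23X

end

section


/-!
# Exact and low configurations: the rows J2, J3, all orders of `A` (helper181)

* `dead_sheet_rank_two` : a class of groups with a sheet `SheetX z P R` in which the elementary abelian subgroups of `R`
  have order at most 4 and the involutions of `R` are conjugate to `z` is a row (`DeadX`);   `deadX_J2`, `deadX_J3`.
-/

set_option autoImplicit false

namespace Cfsg.Agent.Omega.ML.Ex.RowJ23Y

open Subgroup Cfsg Cfsg.Agent.OddHalf.D8.Sheet Cfsg.Agent.OddHalf.D8.JTwo.Sheet Cfsg.Agent.Omega.ML.Rows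

universe u v

/-- **Sheets of type (E) with `R` of 2-rank at most 2.** -/
theorem dead_sheet_rank_two {𝒮 : ∀ (S : Type u) [Group S], Prop}
    (hs : ∀ (S : Type u) [Group S], Finite S → 𝒮 S → ∃ (z : S) (P R : Subgroup S), SheetX z P R ∧
      (∀ B ≤ R, (∀ b ∈ B, b * b = 1) → Nat.card B ≤ 4) ∧ ∀ r ∈ R, r * r = 1 → r ≠ 1 → IsConj z r) : DeadX.{u, v} 𝒮 := by
  intro H _ _ M _ _ _ K T A h hS
  obtain ⟨z, P, R, hz, hR, hfus⟩ := hs K inferInstance hS
  obtain ⟨g, hg⟩ := h.asx.le_conj hz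
  have hinj := K.subtype_injective
  have hmem : ∀ x : K, (x : H) ∈ R.map K.subtype ↔ x ∈ R := by
    intro x
    constructor
    · rintro ⟨r, hr, hrx⟩
      rwa [← hinj hrx]
    · exact fun hx => ⟨x, hx, rfl⟩
  refine Extra.false_of_rank_two h (z := (z : H)) (P := P.map K.subtype) (R := R.map K.subtype) (g := (g : H)) ?_ ?_ ?_ ?_
    ?_ ?_ ?_ ?_ ?_ ?_ hg
  · exact congrArg Subtype.val hz.zz
  · exact fun h1 => hz.z1 (Subtype.ext h1)
  · exact (hmem z).2 hz.zR
  · rintro _ ⟨r, hr, rfl⟩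
    exact congrArg Subtype.val (hz.cen r (hz.RP hr))
  · rintro _ ⟨p, hp, rfl⟩
    exact congrArg Subtype.val (hz.cen p hp)
  · rintro _ ⟨p, hp, rfl⟩ _ ⟨r, hr, rfl⟩
    exact ⟨_, hz.Rn p hp r hr, by simp⟩
  · intro B hB hBP
    have h1 : ∀ b ∈ B, ∃ r ∈ R, (r : H) = b := fun b hb => hB hb
    rcases hz.Rmin (B.comap K.subtype) (fun x hx => (hmem x).1 (hB hx)) (fun p hp b hb => by
      have h2 := hBP _ ⟨p, hp, rfl⟩ _ hb
      rw [mem_comap, map_mul, map_mul, map_inv]
      exact h2) with h3 | h3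
    · left
      intro b hb
      obtain ⟨r, hr, rfl⟩ := h1 b hb
      rcases h3 r hb with rfl | rfl
      · exact Or.inl rfl
      · exact Or.inr rfl
    · right
      rw [← h3]
      refine (map_comap_eq_self ?_).symm
      rw [range_subtype]
      exact hB.trans (map_subtype_le _)
  · obtain ⟨a, ha, b, hb, hab⟩ := hz.Rna
    exact ⟨_, ⟨a, ha, rfl⟩, _, ⟨b, hb, rfl⟩, fun h1 => hab (hinj (by rw [map_mul, map_mul]; exact h1))⟩
  · intro B hB hel
    have h1 := hR (B.comap K.subtype) (fun x hx => (hmem x).1 (hB hx)) (fun b hb => Subtype.ext (hel _ hb))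
    have h2 : (B.comap K.subtype).map K.subtype = B := by
      refine map_comap_eq_self ?_
      rw [range_subtype]
      exact hB.trans (map_subtype_le _)
    rw [← h2, card_map_of_injective hinj]
    exact h1
  · rintro _ ⟨r, hr, rfl⟩ hrr hr1
    obtain ⟨k, hk⟩ := isConj_iff.1 (hfus r hr (hinj (by rw [map_mul, map_one]; exact hrr))
      (fun h1 => hr1 (by rw [h1, map_one])))
    exact ⟨k, by rw [← hk]; simp⟩

/-- `J3` has one class of involutions -/
theorem one {S : Type u} [Group S] (hS : Spor.IsoJ3 S) (x y : S) (hx : x * x = 1) (hx1 : x ≠ 1) (hy : y * y = 1)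
    (hy1 : y ≠ 1) : IsConj x y := by
  obtain ⟨-, z, Q, v, ρ, n, u, F⟩ := Cfsg.Agent.KFacts.J3.exists_facts hS
  have h1 : ∀ x : S, x * x = 1 → x ≠ 1 → IsConj z x := by
    intro x hx hx1
    obtain ⟨g, hg⟩ := F.one x hx1 hx
    exact isConj_iff.2 ⟨g, hg⟩
  exact (h1 x hx hx1).symm.trans (h1 y hy hy1)

/-- **The row `J3`.** -/
theorem deadX_J3 : DeadX.{u, v} (fun S _ => Spor.IsoJ3 S) := by
  refine dead_sheet_rank_two fun S _ _ hS => ?_
  obtain ⟨z, Q, v, ρ, M, -, -, h⟩ := Cfsg.Agent.OddHalf.D8.RowJ3.sheet' S hS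
  refine ⟨z, _, _, of_sheetE h, fun B hB hBe => Cfsg.Agent.Omega.TwoF.RowJ3.card_le_Q M B hB hBe, fun r _ hrr hr1 => ?_⟩
  exact one hS z r h.zz h.z1 hrr hr1

/-- **The row `J2`.** -/
theorem deadX_J2 : DeadX.{u, v} (fun S _ => Spor.IsoJ2 S) := by
  refine dead_sheet_rank_two fun S _ _ hS => ?_
  obtain ⟨t, u, Q, v, ρ, D⟩ := Cfsg.Agent.KFacts.J2.Facts.exists_dat_of hS
  refine ⟨t, _, _, Cfsg.Agent.KFacts.J2.SheetX.sheetX D, fun B hB hBe =>
    Cfsg.Agent.Omega.TwoF.RowJ3.card_le_Q D.M B hB hBe, ?_⟩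
  rintro _ ⟨r, hr, rfl⟩ hrr hr1
  exact D.isConj_of_mem_Q hr (Subtype.ext hrr) (fun h1 => hr1 (by rw [h1, map_one]))

end Cfsg.Agent.Omega.ML.Ex.RowJ23Y

end

end

-- merged: Cfsg.Agent.Mrg.Omega.ML.Ex.RowMTX
section

section


/-!
# Exact and low configurations: the group-theoretic rows McL, Ly over `ASx` (helper333)
-/

set_option autoImplicit false

namespace Cfsg.Agent.Omega.ML.Ex.RowMTX

open Subgroup Cfsg Cfsg.Agent.ZN Cfsg.Agent.Omega.TwoF Cfsg.Agent.Omega.ML.Rows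
open Cfsg.Agent.TypeM.Two (MT)

universe u v

theorem card_le {X : Type u} [Group X] [Finite X] {S T A : Subgroup X} (h : ASx S T A) {n k : ℕ} (hn : 5 ≤ n)
    (L : MT n S) (h2 : 2 ∣ Nat.card S) (hk : (MulAut.conj : S →* MulAut S).range.index ≤ k) : Nat.card A ≤ 2 * k := by
  refine h.card_le_of_inv h2 (n := 2) (k := k) (fun z hz hz1 Q hQ hQ2 hN => ?_) hk
  obtain ⟨L', hL'⟩ := L.exists_rebase hz hz1
  rw [← hL'] at hQ hN
  exact RowMT.card_le_two hn L' Q hQ hQ2 hN

/-- **The row `McL`.** -/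
theorem mcl : DeadGx.{u} 4 (fun S _ => Spor.IsoMcL S) := by
  intro X _ _ S T A h hS
  obtain ⟨hfin, hs, hc, ⟨L⟩⟩ := Cfsg.Agent.TypeM.FactsMcL.facts hS
  refine card_le h (k := 2) (by norm_num) L (by rw [hc]; norm_num) ?_
  rcases RowMcL.index_cases L hc with h1 | h1 <;> rw [h1]
  norm_num

/-- **The row `Ly`.** -/
theorem ly : DeadGx.{u} 2 (fun S _ => Spor.IsoLy S) := by
  intro X _ _ S T A h hS
  obtain ⟨hfin, hs, hc, ⟨L⟩⟩ := Cfsg.Agent.TypeM.FactsLy.facts hS
  refine card_le h (k := 1) (by norm_num) L (by rw [hc]; norm_num) ?_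
  have h1 : (MulAut.conj : S →* MulAut S).range = ⊤ := by
    rw [eq_top_iff]
    exact fun φ _ => Cfsg.Agent.TypeM.OutLyFin.inner hS φ
  rw [h1, index_top]

/-- **The row is dead.** -/
theorem ly_dead : DeadX.{u, v} (fun S _ => Spor.IsoLy S) := ly.deadX (by norm_num)

end Cfsg.Agent.Omega.ML.Ex.RowMTX

end

section


/-!
# Exact and low configurations: the row McL (helper333): `|A| ≤ 2`

`D = O₂(C_X(t))`: `D ∩ S ≤ ⟨t⟩`, so `D` acts trivially on `C_S(t) / ⟨t⟩ = A₈`; the automorphisms of McL which do so are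
inner (`EvenInner`), so `D ≤ S` and `D ≤ ⟨t⟩`.
-/

set_option autoImplicit false

namespace Cfsg.Agent.Omega.ML.Ex.RowMcLX

open Subgroup Cfsg Cfsg.Agent.ZN Cfsg.Agent.Omega.TwoF Cfsg.Agent.Omega.ML.Rows
open Cfsg.Agent.TypeM.Two (MT)
open Cfsg.Agent.TypeM.OuterMcL (EvenInner Compat)
open Cfsg.Agent.MinSimple.VModule (o2_isPGroup o2_le le_o2 le_normalizer_o2)

universe u v

theorem le_zp {S : Type u} [Group S] [Finite S] {n : ℕ} (hn : 5 ≤ n) (L : MT n S) (Q : Subgroup S)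
    (hQ : Q ≤ centralizer ({L.t} : Set S)) (hQ2 : IsPGroup 2 Q)
    (hN : centralizer ({L.t} : Set S) ≤ normalizer (Q : Set S)) : Q ≤ zpowers L.t := by
  have ht : zpowers L.t ≤ centralizer ({L.t} : Set S) := by
    rw [zpowers_le]
    exact mem_centralizer_singleton_iff.2 rfl
  have ht2 : IsPGroup 2 (zpowers L.t) := by
    refine IsPGroup.of_card (n := 1) ?_
    rw [Nat.card_zpowers, L.orderOf_t, pow_one]
  have htn : centralizer ({L.t} : Set S) ≤ normalizer ((zpowers L.t : Subgroup S) : Set S) := by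
    intro c hc
    have h1 := mem_centralizer_singleton_iff.1 hc
    have h2 : ∀ k : ℤ, c * L.t ^ k * c⁻¹ = L.t ^ k := by
      intro k
      have h3 : Commute c L.t := h1
      rw [(h3.zpow_right k).eq, mul_inv_cancel_right]
    rw [mem_normalizer_iff]
    intro x
    constructor
    · rintro ⟨k, rfl⟩
      exact ⟨k, (h2 k).symm⟩
    · rintro ⟨k, hk⟩
      change L.t ^ k = c * x * c⁻¹ at hk
      have h4 : x = L.t ^ k := by
        have h5 := h2 k
        have h6 : c * x * c⁻¹ = c * L.t ^ k * c⁻¹ := hk.symm.trans h5.symm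
        exact mul_left_cancel (mul_right_cancel h6)
      exact ⟨k, h4.symm⟩
  have hs : IsPGroup 2 (Q ⊔ zpowers L.t : Subgroup S) := hQ2.to_sup_of_normal_right' ht2 (hQ.trans htn)
  have hsn : ∀ c ∈ centralizer ({L.t} : Set S), ∀ x ∈ Q ⊔ zpowers L.t, c * x * c⁻¹ ∈ Q ⊔ zpowers L.t := by
    intro c hc x hx
    have h2 : Q ⊔ zpowers L.t ≤ (Q ⊔ zpowers L.t : Subgroup S).comap (MulAut.conj c).toMonoidHom := by
      refine sup_le (fun y hy => ?_) (fun y hy => ?_)
      · exact (le_sup_left : Q ≤ Q ⊔ zpowers L.t) ((mem_normalizer_iff.1 (hN hc) y).1 hy)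
      · exact (le_sup_right : zpowers L.t ≤ Q ⊔ zpowers L.t) ((mem_normalizer_iff.1 (htn hc) y).1 hy)
    exact h2 hx
  have h1 := RowMT.card_le_two hn L (Q ⊔ zpowers L.t) (sup_le hQ ht) hs (fun c hc => by
    rw [mem_normalizer_iff]
    intro x
    refine ⟨fun hx => hsn c hc x hx, fun hx => ?_⟩
    have h3 := hsn c⁻¹ (inv_mem hc) _ hx
    have h4 : c⁻¹ * (c * x * c⁻¹) * c⁻¹⁻¹ = x := by group
    rwa [h4] at h3)
  have h2 : zpowers L.t = Q ⊔ zpowers L.t := by
    refine eq_of_le_of_card_ge le_sup_right (h1.trans ?_)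
    rw [Nat.card_zpowers, L.orderOf_t]
  rw [h2]
  exact le_sup_left

theorem card_o2_le {X : Type u} [Group X] [Finite X] {S : Subgroup X} (hS : S.Normal)
    (hc : centralizer (S : Set X) = ⊥) {n : ℕ} (hn : 5 ≤ n) (L : MT n S) (hI : EvenInner L) :
    Nat.card (o2 (centralizer ({((L.t : S) : X)} : Set X))) ≤ 2 := by
  set R := centralizer ({((L.t : S) : X)} : Set X) with hR
  set D := o2 R with hD
  have hDS : D.comap S.subtype ≤ zpowers L.t := by
    refine le_zp hn L _ ?_ ((o2_isPGroup R).comap_of_injective _ S.subtype_injective) ?_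
    · intro x hx
      exact mem_centralizer_singleton_iff.2 (Subtype.ext (mem_centralizer_singleton_iff.1 (o2_le R hx)))
    · intro c hc
      have h4 : (c : X) ∈ R := mem_centralizer_singleton_iff.2
        (congrArg Subtype.val (mem_centralizer_singleton_iff.1 hc))
      have h5 := mem_normalizer_iff.1 (le_normalizer_o2 R h4)
      rw [mem_normalizer_iff]
      intro y
      exact h5 (y : X)
  have hle : D ≤ S := by
    intro d hd
    have hdt := mem_centralizer_singleton_iff.1 (o2_le R hd)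
    obtain ⟨g, hg⟩ := hI (MulAut.conjNormal d) 1 (Subtype.ext (by
      rw [MulAut.conjNormal_apply, hdt, mul_inv_cancel_right])) (by
      intro g h hh
      have h1 : (g : S)⁻¹ * h ∈ zpowers L.t := by
        apply hDS
        show (((g : S)⁻¹ * (h : S) : S) : X) ∈ D
        rw [hh, Subgroup.coe_mul, MulAut.conjNormal_apply, Subgroup.coe_inv]
        have h2 : (((g : S) : X))⁻¹ * (d * ((g : S) : X) * d⁻¹) =
            ((((g : S) : X))⁻¹ * d * ((g : S) : X)) * d⁻¹ := by group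
        rw [h2]
        refine D.mul_mem ?_ (D.inv_mem hd)
        have h3 : (((g : S) : X))⁻¹ ∈ R := inv_mem (mem_centralizer_singleton_iff.2
          (congrArg Subtype.val (mem_centralizer_singleton_iff.1 g.2)))
        have h4 := (mem_normalizer_iff.1 (le_normalizer_o2 R h3) d).1 hd
        rwa [inv_inv] at h4
      have h2 : L.K.π (g⁻¹ * h) = 1 := by
        apply (L.K.ker _).2
        obtain ⟨k, hk⟩ := h1
        have h3 : (L.t ^ k : S) = (g : S)⁻¹ * h := hk
        have h4 : L.t ^ k = 1 ∨ L.t ^ k = L.t := by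
          have h5 : L.t ^ (2 : ℤ) = 1 := by
            rw [zpow_ofNat, pow_two]
            exact L.t_mul_t
          rcases Int.even_or_odd' k with ⟨j, rfl | rfl⟩
          · left
            rw [zpow_mul, h5, one_zpow]
          · right
            rw [zpow_add, zpow_mul, h5, one_zpow, one_mul, zpow_one]
        rcases h4 with h4 | h4
        · left
          apply Subtype.ext
          show (g : S)⁻¹ * (h : S) = 1
          rw [← h3, h4]
        · right
          apply Subtype.ext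
          show (g : S)⁻¹ * (h : S) = (L.K.z : S)
          rw [← h3, h4, L.hz]
      rw [map_mul, map_inv, inv_mul_eq_one] at h2
      rw [one_mul, inv_one, mul_one, h2]) Equiv.Perm.sign_one
    have h1 : (g : X)⁻¹ * d ∈ centralizer (S : Set X) := by
      rw [mem_centralizer_iff]
      intro y hy
      have h2 : d * y * d⁻¹ = (g : X) * y * (g : X)⁻¹ := by
        have h3 := congrArg (fun β : MulAut S => ((β ⟨y, hy⟩ : S) : X)) hg.symm
        change ((MulAut.conjNormal d ⟨y, hy⟩ : S) : X) = _ at h3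
        rw [MulAut.conjNormal_apply] at h3
        exact h3
      calc y * ((g : X)⁻¹ * d) = (g : X)⁻¹ * (g * y * (g : X)⁻¹) * d := by group
        _ = (g : X)⁻¹ * (d * y * d⁻¹) * d := by rw [h2]
        _ = (g : X)⁻¹ * d * y := by group
    rw [hc, mem_bot, inv_mul_eq_one] at h1
    rw [← h1]
    exact g.2
  have h1 : D ≤ zpowers ((L.t : S) : X) := by
    intro d hd
    obtain ⟨k, hk⟩ := hDS (show (⟨d, hle hd⟩ : S) ∈ D.comap S.subtype from hd)
    refine ⟨k, ?_⟩
    have h2 := congrArg Subtype.val hk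
    exact h2
  refine (card_le_of_le h1).trans ?_
  rw [Nat.card_zpowers, Subgroup.orderOf_coe, L.orderOf_t]

/-- **The row `McL`**: `|A| ≤ 2`. -/
theorem mcl : DeadGx.{u} 2 (fun S _ => Spor.IsoMcL S) := by
  intro X _ _ S T A h hS
  obtain ⟨hfin, hs, hc, ⟨L⟩⟩ := Cfsg.Agent.TypeM.FactsMcL.facts hS
  obtain ⟨z, hz, hzz, hz1, hT⟩ := h.exists_inv (by rw [hc]; norm_num)
  have hne := h.cent_ne_top hz1
  obtain ⟨L', hL'⟩ := L.exists_rebase (s := (⟨z, hz⟩ : S)) (Subtype.ext hzz) (fun h4 => hz1 (congrArg Subtype.val h4))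
  have hI : EvenInner L' := Cfsg.Agent.TypeM.OutLyFin.evenInner L' (Or.inl rfl) (Or.inl ⟨rfl, hc⟩)
  have h1 := card_o2_le h.norm h.cen (by norm_num) L' hI
  rw [hL'] at h1
  exact h.card_le_of_o2 hT hne h1

/-- **The row is dead.** -/
theorem mcl_dead : DeadX.{u, v} (fun S _ => Spor.IsoMcL S) := mcl.deadX (by norm_num)

end Cfsg.Agent.Omega.ML.Ex.RowMcLX

end

end

-- merged: Cfsg.Agent.Mrg.Omega.ML.Ex.RowSuz
section

/-!
# Exact and low configurations, the row `Suz` (with `Suz.2`) (helper202)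

`A ^ g ≤ O₂(C_X(z)) ≤ R = 2^{1+6}_-`, so `|A| ≤ 8`; `A ^ g` contains an involution `y ≠ z` of `R`, which inverts an element
of order 5 in a Frobenius group `11 : 5`, so `|M : C_M(y)| ≥ 16 > |A|`.
-/

set_option autoImplicit false

namespace Cfsg.Agent.Omega.ML.Ex.RowSuz

open Cfsg Cfsg.Spor Cfsg.Agent.SuzThree.QZero Cfsg.Agent.KFacts.SuzSheet Cfsg.Agent.Omega.ML.InvChain
open Cfsg.Agent.OddHalf.D8.JTwo.Sheet Cfsg.Agent.SuzThree.Basic Cfsg.Agent.SuzThree.CentA
open Cfsg.Agent.KFacts.SuzCent Cfsg.Agent.KFacts.SuzR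

universe u v

/-- **The row `Suz`.** -/
theorem deadX : DeadX.{u, v} (fun S _ => IsoSuz S) := by
  refine deadX_of_sheetInv ?_
  rintro S _ _ ⟨e⟩
  refine ⟨e.symm z0, _, _, 3, of_sheetE (KFacts.SheetIso.sheetE_map e.symm KFacts.SuzSheetE.sheetE), ?_, ?_⟩
  · intro B hB hBe
    have h1 : B.map e.toMonoidHom ≤ Q0 := by
      rintro _ ⟨b, hb, rfl⟩
      have h2 := (KFacts.SheetIso.mem_map' e.symm).1 (hB hb)
      exact h2
    have h2 := Omega.TwoF.RowSuz.card_le_eight h1 (by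
      rintro _ ⟨b, hb, rfl⟩
      rw [← map_mul, hBe b hb, map_one])
    rwa [Subgroup.card_map_of_injective e.injective] at h2
  · intro y hy hyy h1 hz
    have h2 : e y ∈ Q0 := (KFacts.SheetIso.mem_map' e.symm).1 hy
    have h3 : InvAt (e y) 4 := ML.RowSuz.invAt_R h2 (by rw [← map_mul, hyy, map_one]) (by
      intro h3
      exact h1 (by rwa [map_eq_one_iff e e.injective] at h3)) (by
      intro h3
      exact hz (by rw [← h3, e.symm_apply_apply]))
    have h4 := h3.map e.symm.toMonoidHom e.symm.injective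
    have h5 : e.symm.toMonoidHom (e y) = y := e.symm_apply_apply y
    rwa [h5] at h4

end Cfsg.Agent.Omega.ML.Ex.RowSuz

end

-- merged: Cfsg.Agent.Mrg.Omega.ML.Ex.RowHeFiX
section

/-!
# The K-list for EXACT subgroups (EXL): the numerical rows `He`, `Fi22` (helper68)

* `InX.false_of_nx` : `NX K` is impossible in the situation `InX`;
* `deadX_he` (`LB 42`, `|He| ≤ 2 ^ 32`, `|Out| ≤ 2`), `deadX_fi22` (`LB 54`, `|Fi22| ≤ 2 ^ 46`, `|Out| ≤ 2`).
-/

set_option autoImplicit false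

namespace Cfsg.Agent.Omega.ML.Ex.RowHeFiX

open Subgroup Cfsg Cfsg.Agent.Omega.ML.ExLow.NumX Cfsg.Agent.ClassTwoFusion.Quad Cfsg.Agent.Omega.ML.CD

universe u v

open scoped commutatorElement

/-- `K` is perfect -/
theorem perfect {H : Type u} [Group H] {M : Type v} [Group M] [MulDistribMulAction H M] {K T A : Subgroup H}
    (h : InX H M K T A) : _root_.commutator K = ⊤ := by
  have hs := h.simple
  rcases hs.eq_bot_or_eq_top_of_normal (_root_.commutator K) inferInstance with h1 | h1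
  · exfalso
    have h2 : K ≤ centralizer (K : Set H) := by
      intro x hx
      rw [mem_centralizer_iff]
      intro y hy
      have h3 : ⁅(⟨y, hy⟩ : K), (⟨x, hx⟩ : K)⁆ ∈ _root_.commutator K :=
        commutator_mem_commutator (mem_top _) (mem_top _)
      rw [h1, mem_bot, commutatorElement_eq_one_iff_mul_comm] at h3
      exact congrArg Subtype.val h3
    rw [h.cen] at h2
    obtain ⟨x, hx⟩ := exists_ne (1 : K)
    exact hx (Subtype.ext (mem_bot.1 (h2 x.2)))
  · exact h1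

/-- **The numerical criterion.** -/
theorem false_of_nx {H : Type u} [Group H] [Finite H] {M : Type v} [Group M] [Finite M] [MulDistribMulAction H M]
    {K T A : Subgroup H} (h : InX H M K T A) (hS : NX.{u, v} K) : False := by
  refine false_of (A := A) h.norm h.simple (perfect h) h.cen h.sq ?_ h.el h.A_ne_bot ?_ hS
  · have hs := h.simple
    obtain ⟨x, hx⟩ := exists_ne (1 : K)
    by_contra hc
    unfold Mv at hc
    push Not at hc
    exact hx (Subtype.ext (h.faith x fun m => hc x x.2 m))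
  · show Nat.card M ≤ Nat.card A * Nat.card (cv M (A : Set H))
    rw [← h.exact, mul_comm, card_mul_index]

/-- **The row `He`.** -/
theorem deadX_he : DeadX.{u, v} @Spor.IsoHe := by
  intro H _ _ M _ _ _ K T A h hS
  refine false_of_nx h (NX.of_card (n := 42) (b := 1) (N := 32) (RowHe.lb hS) (RowHe.outB hS) ?_ (by norm_num))
  rw [(TwoF.RowHe.card_of hS).2]
  norm_num

/-- **The row `Fi22`.** -/
theorem deadX_fi22 : DeadX.{u, v} @Spor.IsoFi22 := by
  intro H _ _ M _ _ _ K T A h hS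
  refine false_of_nx h (NX.of_card (n := 54) (b := 1) (N := 46) (RowFi22.lb hS) ?_ ?_ (by norm_num))
  · obtain ⟨e⟩ := hS
    exact RowFi22.outB e
  · obtain ⟨e⟩ := hS
    rw [Nat.card_congr e.toEquiv, RowFi22.isFi22.2]
    norm_num

end Cfsg.Agent.Omega.ML.Ex.RowHeFiX

end

-- merged: Cfsg.Agent.Mrg.Omega.ML.Ex.RowRuX
section

/-!
# The K-list for EXACT subgroups (EXL): the row Ru (helper638)

`m₂(Aut Ru) ≤ 11`, `Out Ru = 1`, and every involution inverts an element `w` with `dim [M, w] ≥ 24` (`RowRu.invAt` of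
helper226), so `|M : C_M(x)| ≥ 2^12 > |A|` for the involutions `x ∈ A`.

* `dead_of_model` : `Inv.dead_strong` from a model;
* **`dead : DeadX IsoRu`**.
-/

set_option autoImplicit false

namespace Cfsg.Agent.Omega.ML.Ex.RowRuX

open Subgroup Cfsg Cfsg.Agent.Omega.ML.Rows Cfsg.Agent.Omega.ML.InvChain Cfsg.Agent.Omega.ML.InvTool
open Cfsg.Agent.Omega.TwoF

universe u v w

/-- **The row from a model**, strong form. -/
theorem dead_of_model {S₀ : Type w} [Group S₀] {n : ℕ} (hrk : RK S₀ n)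
    (hout : (MulAut.conj : S₀ →* MulAut S₀).range.index < 4) (hinv : ∀ x : S₀, x * x = 1 → x ≠ 1 → InvAt x (n + 1)) :
    DeadX.{u, v} (fun S _ => Nonempty (S ≃* S₀)) := by
  apply Inv.dead_strong
  rintro S _ _ ⟨e⟩
  refine ⟨n, hrk.equiv e, by rwa [index_conj_eq e], fun x h2 h1 => ?_⟩
  have h3 := hinv (e x) (by rw [← map_mul, h2, map_one]) (fun h => h1 (e.injective (h.trans (map_one e).symm)))
  have h4 := h3.map e.symm.toMonoidHom e.symm.injective
  have h5 : e.symm.toMonoidHom (e x) = x := e.symm_apply_apply x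
  rwa [h5] at h4

theorem dead_model : DeadX.{u, v} (fun S _ => Nonempty (S ≃* SporadicB.RuOrder.H)) :=
  dead_of_model (n := 11) (RowTool.toRK TwoF.RowRu.center_eq TwoF.RowRu.rk)
    (by rw [TwoF.RowRu.range_eq, index_top]; norm_num) fun _ h2 h1 => ML.RowRu.invAt h2 h1

/-- **The row Ru.** -/
theorem dead : DeadX.{u, v} @Spor.IsoRu := by
  intro H _ _ M _ _ _ K T A h hS
  obtain ⟨e⟩ := hS
  exact dead_model H M K T A h ⟨e.trans Cfsg.Agent.RuLat.Main.equiv⟩

end Cfsg.Agent.Omega.ML.Ex.RowRuX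

end

-- merged: Cfsg.Agent.Mrg.Omega.ML.Ex.RowONX
section

/-!
# Exact and low configurations: the group-theoretic row O'N over `ASx` (helper333): `A` lies in a cyclic group
-/

set_option autoImplicit false

namespace Cfsg.Agent.Omega.ML.Ex.RowONX

open Subgroup Cfsg Cfsg.Agent.ZN Cfsg.Agent.Omega.TwoF Cfsg.Agent.Omega.ML.Rows
open Cfsg.Agent.OddHalf Cfsg.Agent.OddHalf.D8.Sheet Cfsg.Agent.OddHalf.D8.ON.Sheet

universe u v

/-- **The row `O'N`**: `|A| ≤ 2`. -/
theorem on : DeadGx.{u} 2 (fun S _ => Spor.IsoON S) := by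
  intro X _ _ S T A h hS
  have hn := h.norm
  obtain ⟨z, v, P, E, sh⟩ := Cfsg.Agent.KFacts.ON.Sheet.exists_sheet hS
  refine h.card_le_of_syl sh.basic.z1 sh.basic.syl fun B hB hBe => ?_
  have hle : B ≤ zpowers (v : X) := by
    intro d hd
    have h1 := RowON.cent_P hn sh.basic.cen sh.basic.perf sh.basic.der sh.qs d (hB hd)
    obtain ⟨u, hu, hu'⟩ := sh.autP (MulAut.conjNormal d) fun x hx => Subtype.ext (by
      rw [MulAut.conjNormal_apply]
      exact h1 x hx)
    have h2 : d = u := by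
      apply h.conj_inj
      rw [hu']
      ext s
      rw [MulAut.conjNormal_apply, MulAut.conj_apply]
      simp
    rw [h2]
    obtain ⟨k, hk⟩ := hu
    exact ⟨k, by rw [← hk]; rfl⟩
  -- an elementary abelian subgroup of a cyclic group
  have hcyc : IsCyclic B := by
    have : IsCyclic (B.subgroupOf (zpowers (v : X))) := inferInstance
    exact isCyclic_of_surjective (subgroupOfEquivOfLe hle).toMonoidHom (subgroupOfEquivOfLe hle).surjective
  obtain ⟨b, hb⟩ := hcyc.exists_generator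
  have h3 : Nat.card B = orderOf b := (orderOf_eq_card_of_forall_mem_zpowers hb).symm
  rw [h3]
  exact Nat.le_of_dvd (by norm_num) (orderOf_dvd_of_pow_eq_one (by
    rw [pow_two]
    exact Subtype.ext (hBe b b.2)))

/-- **The row is dead.** -/
theorem on_dead : DeadX.{u, v} (fun S _ => Spor.IsoON S) := on.deadX (by norm_num)

end Cfsg.Agent.Omega.ML.Ex.RowONX

end

-- merged: Cfsg.Agent.Mrg.Omega.ML.ExEx.RowHN
section

/-!
# K-list "exact + low": the row `HN` (helper96)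
-/

set_option autoImplicit false

namespace Cfsg.Agent.Omega.ML.ExEx.RowHN

open Subgroup Cfsg Cfsg.Agent.Omega.ML.ExRec Cfsg.Agent.OddHalf.D8 Cfsg.Agent.Omega.ML.Ex

universe u v

/-- **The row `HN`.** -/
theorem deadX : DeadX.{u, v} @Spor.IsoHN := by
  refine SheetRow.deadX_of_sheet fun S _ _ hS => ?_
  obtain ⟨e⟩ := hS
  refine ⟨_, _, _, 4, SheetMap.sheetE_map e.symm Cfsg.Agent.KFacts.HN.sheetE, by norm_num, ?_, ?_⟩
  · rw [card_map_of_injective e.symm.injective]
    exact ExHN.card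
  · rw [SheetMap.centralizer_map]
    exact Cfsg.Agent.Omega.ML.RowHN.trivC_map e.symm ExHN.rec_hn.triv

end Cfsg.Agent.Omega.ML.ExEx.RowHN

end

-- merged: Cfsg.Agent.Mrg.Omega.ML.Ex.KnownDone
section

section


/-!
# The K-list for EXACT subgroups (EXL) (helper484)

`rows : RowsX`, and the closed exits
* **`exitX : ExitX`** (helper854, `LA.lean`) : a simple group with an offender sheet (`InX`) is of Lie type in
  characteristic 2, `U₃(3)` or `A₆`;
* **`exitN : Two.ExitN`** (helper585, `Two.lean`): over `InN` there is no `A₆`.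
-/

set_option autoImplicit false

namespace Cfsg.Agent.Omega.ML.Ex.KnownDone

open Cfsg Cfsg.Agent.Omega.ML.Ex Cfsg.Agent.Omega.ML.Known Cfsg.Agent.Omega.ML.Rows

universe u v

/-- **The groups of Lie type in odd characteristic** -/
theorem odd : DeadX.{u, v} fun S _ => OddLie S ∧ ¬ IsLieTypeChar 2 S ∧ ¬ IsUThreeThree S ∧
    ¬ Nonempty (S ≃* alternatingGroup (Fin 6)) :=
  (RowLTwoX.deadX.or (OddLieX.small.or ExLow.Dead.deadX)).mono fun S _ h => by
    rcases OddLieX.cases.{u, v} h.1 h.2.1 h.2.2.1 h.2.2.2 with h1 | h1 | h1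
    · exact Or.inl ⟨h.2.1, h1⟩
    · exact Or.inr (Or.inl h1)
    · exact Or.inr (Or.inr h1)

/-- **The rows.** -/
theorem rows : RowsX.{u, v} where
  alt := ExLow.Alt.deadX_alt
  odd := odd
  tits := RowTitsX.deadX
  m11 := RowM11X.m11_dead
  m12 := RowM12X.deadX
  m22 := RowM22X.deadX
  m23 := RowM23X.m23_dead
  m24 := RowM24X.deadX
  j1 := RowJ1X.j1_dead
  j2 := RowJ23Y.deadX_J2
  j3 := RowJ23Y.deadX_J3
  j4 := RowJ4X.deadX
  co1 := RowCo1.deadX
  co2 := RowCo2X.deadX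
  co3 := RowCo3X.co3_dead
  mcl := RowMcLX.mcl_dead
  hs := RowHSX.deadEx
  suz := RowSuz.deadX
  he := RowHeFiX.deadX_he
  ru := RowRuX.dead
  on := RowONX.on_dead
  ly := RowMTX.ly_dead
  fi22 := RowHeFiX.deadX_fi22
  fi23 := RowFi23X.fi23_dead
  fi24 := ExEx.RowFi24.deadX
  hn := ExEx.RowHN.deadX
  th := ExEx.RowBM.thompson
  b := ExEx.RowBM.baby
  m := ExEx.RowBM.monster

/-- helper854: **`ExitX`** (LA.lean) -/
theorem exitX : ExitX.{u, v} := fun _ _ _ _ _ _ _ _ _ _ hI hS => rows.exit hI hS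

/-- helper585: **`ExitN`** (Two.lean) -/
theorem exitN : Two.ExitN.{u, v} := fun _ _ _ _ _ _ _ _ _ _ hI hS => rows.exitN RowASixN.deadN hI hS

end Cfsg.Agent.Omega.ML.Ex.KnownDone

end

section


/-!
# THEOREM RED with the W-part (helper844)

* `Wd T p` : `X` acts on `W`, `p : W → M` onto with central kernel, `C_W(T) ≤ ker p`;
* `Sc.dat` : the data `WSec.Dat` for the section `Sc`;
* **`Sc.wpart`** : `WPart K₁ T₁ p₁` for `p₁ : p⁻¹(N) → N / C_N(K₁)`.
-/

set_option autoImplicit false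
set_option linter.style.haveILetI false

namespace Cfsg.Agent.Omega.ML.Ex.Red

open Subgroup Cfsg Cfsg.Agent.ZN Cfsg.Agent.Omega.NOThree.NoOver Cfsg.Agent.Omega.ML.CD
open Cfsg.Agent.ClassTwoFusion.Quad Cfsg.Agent.Omega.ML.MinFrame Cfsg.Agent.Omega.ML.Ex.SecLow

universe u v w x

variable {X : Type u} [Group X] {M : Type v} [CommGroup M] [MulDistribMulAction X M] {W : Type w} [CommGroup W]
  [MulDistribMulAction X W] {T B K E : Subgroup X} {lam : M} {p : W →* M}

/-- the W-side -/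
structure Wd (T : Subgroup X) (p : W →* M) : Prop where
  sq : ∀ w : W, w * w = 1
  eqv : ∀ (x : X) (w : W), p (x • w) = x • p w
  surj : Function.Surjective p
  ker : ∀ w : W, p w = 1 → ∀ x : X, x • w = w
  fixT : ∀ w : W, (∀ t ∈ T, t • w = w) → p w = 1

namespace Sc

variable {X₁ : Type x} [Group X₁] [MulDistribMulAction X₁ (cm M E)] {a : YY T E →* X₁}

/-- **the data of `WSec`** -/
theorem dat [Finite X] (h : Sc T B K E lam a) (hW : Wd T p) :
    haveI := h.inN0.ck_normal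
    letI := modAct (H := X₁) (InN.ck (cm M E) (im a E)) h.inN0.smul_mem_ck
    WSec.Dat p T K E (K ⊓ centralizer (E : Set X)) (YY T E) (cm M E) a
      (QuotientGroup.mk' (InN.ck (cm M E) (im a E))) := by
  haveI := h.inN0.ck_normal
  letI := modAct (H := X₁) (InN.ck (cm M E) (im a E)) h.inN0.smul_mem_ck
  have hq := h.quo
  have hsqN := h.inN0.sq
  exact
    { sq := hW.sq
      eqv := hW.eqv
      surj := hW.surj
      ker := hW.ker
      fixT := hW.fixT
      two := h.cmpM.cmp.mn.two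
      Kn := h.cmpM.cmp.normK
      sylK := h.cmpM.cmp.sylK
      sylE := h.cmpM.cmp.sylE
      EK := h.cmpM.cmp.EK
      KEF := h.cmpM.cmp.KEF
      cEF := h.cmpM.cmp.cEF
      iEF := h.cmpM.cmp.iEF
      pE := h.cmpM.cmp.perfE
      pF := h.cmpM.cmp.perfF
      FN := fun f hf n hn => h.cmpM.cenN f hf.1 hf.2 n hn
      NE := h.cmpM.le_cc
      EY := E_le_YY
      YE := fun y hy e he => hq.YY_conj hy he
      YN := fun y hy n hn => h.cmpM.smul_mem hy hn
      asurj := h.surj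
      qsurj := QuotientGroup.mk'_surjective _
      aq := fun y n => by
        have h1 : (⟨(y : X) • (n : M), h.cmpM.smul_mem y.2 n.2⟩ : cm M E) = a y • n := Subtype.ext (h.act y n).symm
        rw [h1]
        rfl
      qker := fun n => by
        rw [QuotientGroup.mk'_apply, QuotientGroup.eq_one_iff]
        constructor
        · intro h1 e he
          have h2 := congrArg Subtype.val (h1 (a ⟨e, E_le_YY he⟩) (apply_mem_im (y := ⟨e, E_le_YY he⟩) he))
          rw [h.act] at h2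
          exact h2
        · rintro h1 _ ⟨y, hy, rfl⟩
          apply Subtype.ext
          rw [h.act]
          exact h1 y hy
      inj := fun e he h1 => congrArg Subtype.val (h.inj ⟨e, E_le_YY he⟩ he h1)
      faith := fun x hx => h.inN0.faith_quot fun m => by
        have h1 := hx (QuotientGroup.mk m)
        have h2 : (QuotientGroup.mk (x • m) : cm M E ⧸ InN.ck (cm M E) (im a E)) = QuotientGroup.mk m := h1
        rw [eq_comm, QuotientGroup.eq] at h2
        have h3 : m⁻¹ = m := inv_eq_of_mul_eq_one_right (hsqN m)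
        rw [h3] at h2
        rw [h.inN0.comm]
        exact h2 }

/-- the image of `T ∩ Y` -/
theorem im_T (_h : Sc T B K E lam a) : ((T ⊓ YY T E).subgroupOf (YY T E)).map a = im a (T1 T E) := by
  apply le_antisymm
  · rintro _ ⟨y, hy, rfl⟩
    refine ⟨y, ⟨hy.1, ?_⟩, rfl⟩
    exact (sup_le le_normalizer inf_le_right : YY T E ≤ normalizer (E : Set X)) y.2
  · rintro _ ⟨y, hy, rfl⟩
    exact ⟨y, ⟨hy.1, y.2⟩, rfl⟩

end Sc

/-- **THEOREM RED with the W-part, from one component.** -/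
theorem CmpM.exists_section [Finite X] [Finite M] [Finite W] (h : CmpM T B K E lam) (hML : Final.MLK.{u, v})
    (hKG : IsKGroup X) (hW : Wd T p) :
    ∃ (X₁ : Type u) (_ : Group X₁) (_ : Finite X₁) (N : Type v) (_ : Group N) (_ : Finite N)
      (_ : MulDistribMulAction X₁ N) (K₁ T₁ B₁ : Subgroup X₁) (M₁ : Type v) (_ : Group M₁) (_ : Finite M₁)
      (_ : MulDistribMulAction X₁ M₁) (W₁ : Type w) (_ : CommGroup W₁) (_ : Finite W₁)
      (_ : MulDistribMulAction X₁ W₁) (p₁ : W₁ →* M₁),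
      InN X₁ N K₁ T₁ B₁ ∧ InX X₁ M₁ K₁ T₁ B₁ ∧ WPart K₁ T₁ p₁ ∧ IsKGroup X₁ ∧ Nonempty (E ≃* K₁) ∧
        Nat.card B₁ = Nat.card B := by
  letI := h.qact
  have hs := h.sc
  have hfX : Finite h.Xq := Finite.of_surjective _ (QuotientGroup.mk'_surjective h.rep.ker)
  have hKG1 : IsKGroup h.Xq := Final.kgroup_of_surj hKG (YY T E) (QuotientGroup.mk' h.rep.ker)
    (QuotientGroup.mk'_surjective _)
  have hN := hs.inN0.inN hML hKG1
  have hI := hN.inX
  haveI := hN.ck_normal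
  letI := modAct (H := h.Xq) (InN.ck (cm M E) (im (QuotientGroup.mk' h.rep.ker) E)) hN.smul_mem_ck
  have hd := hs.dat hW
  letI := hd.inst
  have hwp := hd.wpart
  rw [hs.im_T] at hwp
  exact ⟨h.Xq, inferInstance, hfX, cm M E, inferInstance, inferInstance, h.qact, _, _, _, _, _, inferInstance, _, _,
    inferInstance, inferInstance, hd.inst, _, hN, hI, hwp, hKG1, ⟨hs.quo.equiv⟩, hs.card_im le_rfl⟩

end Cfsg.Agent.Omega.ML.Ex.Red

end

section


/-!
# The row `U₃(3) = G₂(2)'` of the exact K-list, with the W-part (helper325)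

`InX X M K T A`, `WPart K T p`, `K ≅ U₃(3)` is impossible (`dead_W`).  Neither `low`, `nmax`, `sub` nor an atom is used.

Proof: let `z ∈ T ∩ K` be an involution central in `T`, `B := ⟨A, z⟩`.  Outer involutions `x` commuting with `z` invert an
element of order 7, so `|M : C_M(x)| ≥ 8` (`RowU33.eight_le`); elementary abelian subgroups of `K` over `z` have order at
most 4 (`RowU33.inner_le`).  So `z ∈ A`, `|A| ≤ 8`, `|A ∩ K| ≥ 4`.  An involution `a ∈ C_K(z)`, `a ≠ z`, satisfies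
`[a, a^g] = z` for an element `g ∈ C_K(z)` of order 3 (`comm_ga`).  Now `KillZ.false_of`.
-/

set_option autoImplicit false

namespace Cfsg.Agent.Omega.ML.Ex.RowU33W

section kfact

open Matrix Subgroup Cfsg
open Cfsg.Agent.Classification.RTwo.UThreeThree (K9 card_k9 card_k9' IsGood psuEquiv center_SU)
open Cfsg.Agent.OddHalf.Small.U33
open Cfsg.Agent.OddHalf.D4.Small.KU33
open Cfsg.Agent.OddHalf.D6.RThree.U33
open Cfsg.Agent.Omega.ML.RowU33

/-- all involutions of `U₃(3)` are conjugate -/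
theorem exists_conj {S : SU33} (hTT : S * S = 1) (hT1 : S ≠ 1) : ∃ g : SU33, g⁻¹ * S * g = t0 := by
  obtain ⟨v, hv, hTv⟩ := exists_fixed hTT hT1
  obtain ⟨g, hg⟩ := exists_su hv
  have hgi : mt g⁻¹ * mt g = 1 := by rw [← mt_mul, inv_mul_cancel, mt_one]
  refine ⟨g, ?_⟩
  apply eq_t0
  · calc g⁻¹ * S * g * (g⁻¹ * S * g) = g⁻¹ * (S * S) * g := by group
      _ = 1 := by rw [hTT]; group
  · intro h
    apply hT1
    calc S = g * (g⁻¹ * S * g) * g⁻¹ := by group
      _ = 1 := by rw [h]; group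
  · rw [mt_mul, mt_mul, ← Matrix.mulVec_mulVec, ← Matrix.mulVec_mulVec, hg, hTv, ← hg,
      Matrix.mulVec_mulVec, hgi, Matrix.one_mulVec]

/-- an outer involution commuting with `t0` inverts an element of order 7 -/
theorem out_inverts {β : MulAut SU33} (hβI : β ∉ (MulAut.conj : SU33 →* MulAut SU33).range) (h2 : β * β = 1)
    (h6 : β t0 = t0) : ∃ w : SU33, w ≠ 1 ∧ w ^ 7 = 1 ∧ β w = w⁻¹ := by
  obtain ⟨g, hg, h7 | h7⟩ := fix_cases h6
  · exact absurd ⟨g, h7.symm⟩ hβI
  have h8' : ∀ x, β x = (g * gi) * φ x * (g * gi)⁻¹ := by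
    intro x
    rw [h7, MulAut.mul_apply, MulAut.conj_apply, f_apply]
    group
  have h9 : (g * gi) * φ (g * gi) = 1 := by
    apply conj_inj
    rw [map_one, ← h2]
    refine MulEquiv.ext fun x => ?_
    have e1 : φ ((g * gi) * φ x * (g * gi)⁻¹) = φ (g * gi) * x * (φ (g * gi))⁻¹ := by
      rw [map_mul, map_mul _ (g * gi), map_inv, φφ]
    rw [MulAut.mul_apply, h8' (β x), h8' x, e1, MulAut.conj_apply]
    group
  obtain ⟨w, hw1, hw7, hw⟩ := exists_seven (comm_mul hg gi_t0) h9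
  refine ⟨w, hw1, hw7, ?_⟩
  rw [h8', eq_inv_iff_mul_eq_one]
  have e : (g * gi) * φ w = w⁻¹ * (g * gi) := by
    rw [eq_inv_mul_iff_mul_eq]; exact hw
  rw [e]
  group

theorem ga_aux' : ∀ s : Fin 8, s ≠ 0 → s ≠ 1 →
    (q8m s * (g0M * q8m s * (g0M * g0M))) * (q8m s * (g0M * q8m s * (g0M * g0M))) = dg := by decide +kernel

theorem q8m_zero : q8m 0 = 1 := rfl
theorem q8m_one : q8m 1 = dg := rfl

/-- `[r, r^ga] = t0` for `r ∈ Q₈` of order 4 -/
theorem comm_q8 {r : SU33} (hr : r ∈ Q8) (hrr : r * r = t0) :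
    r * (ga * r * ga⁻¹) * r⁻¹ * (ga * r * ga⁻¹)⁻¹ = t0 := by
  have hrt := Q8_comm hr
  obtain ⟨s, hs⟩ := q8_cases hr
  have hs0 : s ≠ 0 := by
    rintro rfl
    have h1 : r = 1 := mt_ext (by rw [hs, mt_one, q8m_zero])
    rw [h1, mul_one] at hrr
    exact t0_ne hrr.symm
  have hs1 : s ≠ 1 := by
    rintro rfl
    have h1 : r = t0 := mt_ext (by rw [hs, mt_t0, q8m_one])
    rw [h1, t0_t0] at hrr
    exact t0_ne hrr.symm
  set r' := ga * r * ga⁻¹ with hr'
  have hr't : r' * t0 = t0 * r' := comm_mul (comm_mul ga_t0 hrt) (comm_inv ga_t0)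
  have hrr' : r' * r' = t0 := by
    calc r' * r' = ga * (r * r) * ga⁻¹ := by rw [hr']; group
      _ = t0 := by rw [hrr, ga_t0, mul_inv_cancel_right]
  have hi : r⁻¹ = r * t0 := by
    rw [inv_eq_iff_mul_eq_one, ← mul_assoc, hrr, t0_t0]
  have hi' : r'⁻¹ = r' * t0 := by
    rw [inv_eq_iff_mul_eq_one, ← mul_assoc, hrr', t0_t0]
  have h1 : r * r' * r⁻¹ * r'⁻¹ = (r * r') * (r * r') := by
    rw [hi, hi']
    calc r * r' * (r * t0) * (r' * t0) = r * r' * (r * (t0 * r') * t0) := by simp only [mul_assoc]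
      _ = r * r' * (r * r') * (t0 * t0) := by rw [← hr't]; simp only [mul_assoc]
      _ = (r * r') * (r * r') := by rw [t0_t0, mul_one]
  rw [h1]
  apply mt_ext
  rw [hr', ga_inv]
  simp only [mt_mul]
  rw [mt_ga, hs, mt_t0]
  exact ga_aux' s hs0 hs1

/-- **`[x, x^ga] = t0`** for involutions `x ≠ t0` of `C(t0)` -/
theorem comm_ga {x : SU33} (hx : x * t0 = t0 * x) (hxx : x * x = 1) (h1 : x ≠ 1) (h2 : x ≠ t0) :
    x * (ga * x * ga⁻¹) * x⁻¹ * (ga * x * ga⁻¹)⁻¹ = t0 := by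
  have hD : D x = 1 ∨ D x = -1 := by
    have h3 : D x * D x = 1 := by rw [← D_mul hx, hxx, D_one]
    exact mul_self_eq_one_iff.1 h3
  have h3 : InQ x := inQ_of_two hx (isP_of_pow (k := 1) (by rw [pow_one, pow_two, hxx])) hD
  rcases inQ_cases h3 with h4 | ⟨r, hr, h4⟩
  · have h5 := isQ.sq x h4 h1 h2
    rw [hxx] at h5
    exact absurd h5.symm t0_ne
  · have hrt := Q8_comm hr
    have hcr : c * r = r * c := c_comm hrt
    have hcr' : c⁻¹ * r = r * c⁻¹ := ((show Commute c r from hcr).inv_left).eq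
    have hrr : r * r = t0 := by
      have h5 : c * c * (x * x) = r * r := by
        rw [h4]
        calc c * c * (c⁻¹ * r * (c⁻¹ * r)) = c * (r * c⁻¹) * r := by group
          _ = r * r := by rw [← hcr']; group
      rw [← h5, hxx, mul_one, c_c]
    have hcg : c⁻¹ * ga = ga * c⁻¹ := ((show Commute c ga from c_comm ga_t0).inv_left).eq
    have hx' : ga * x * ga⁻¹ = c⁻¹ * (ga * r * ga⁻¹) := by
      rw [h4]
      calc ga * (c⁻¹ * r) * ga⁻¹ = (ga * c⁻¹) * r * ga⁻¹ := by group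
        _ = c⁻¹ * (ga * r * ga⁻¹) := by rw [← hcg]; group
    have hr't : (ga * r * ga⁻¹) * t0 = t0 * (ga * r * ga⁻¹) := comm_mul (comm_mul ga_t0 hrt) (comm_inv ga_t0)
    rw [hx', h4]
    have hcr2 : Commute c⁻¹ (ga * r * ga⁻¹) := (show Commute c (ga * r * ga⁻¹) from c_comm hr't).inv_left
    have hcr1 : Commute c⁻¹ r := hcr'
    calc c⁻¹ * r * (c⁻¹ * (ga * r * ga⁻¹)) * (c⁻¹ * r)⁻¹ * (c⁻¹ * (ga * r * ga⁻¹))⁻¹
        = c⁻¹ * (r * c⁻¹) * ((ga * r * ga⁻¹) * r⁻¹) * c * ((ga * r * ga⁻¹)⁻¹ * c) := by group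
      _ = c⁻¹ * (c⁻¹ * r) * ((ga * r * ga⁻¹) * r⁻¹) * c * (c * (ga * r * ga⁻¹)⁻¹) := by
          rw [hcr', ← (show Commute c (ga * r * ga⁻¹)⁻¹ from
            (show Commute c (ga * r * ga⁻¹) from c_comm hr't).inv_right).eq]
      _ = c⁻¹ * c⁻¹ * (r * (ga * r * ga⁻¹) * r⁻¹) * (c * c) * (ga * r * ga⁻¹)⁻¹ := by group
      _ = c⁻¹ * c⁻¹ * (c * c) * (r * (ga * r * ga⁻¹) * r⁻¹) * (ga * r * ga⁻¹)⁻¹ := by
          have h6 : Commute (c * c) (r * (ga * r * ga⁻¹) * r⁻¹) := by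
            have h7 : Commute c r := hcr
            have h8 : Commute c (ga * r * ga⁻¹) := c_comm hr't
            have h9 : Commute c (r * (ga * r * ga⁻¹) * r⁻¹) := (h7.mul_right h8).mul_right h7.inv_right
            exact h9.mul_left h9
          rw [mul_assoc (c⁻¹ * c⁻¹), ← h6.eq]
          simp only [mul_assoc]
      _ = r * (ga * r * ga⁻¹) * r⁻¹ * (ga * r * ga⁻¹)⁻¹ := by group
      _ = t0 := comm_q8 hr hrr

end kfact

section row

open Subgroup Cfsg Cfsg.Agent.ClassTwoFusion.Quad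
open Cfsg.Agent.OddHalf.Small.U33 (SU33 t0)
open Cfsg.Agent.OddHalf.D6.RThree.U33 (ga ga_t0 ga_cube conj_inj t0_t0 t0_ne index_inn)

universe u v w

/-- an involution of `T ∩ K` central in `T` -/
theorem exists_z {X : Type*} [Group X] [Finite X] {K T : Subgroup X} (hK : K.Normal) (two : IsPGroup 2 T)
    (syl : ¬ 2 ∣ T.index) {u : X} (hu : u ∈ K) (uu : u * u = 1) (u1 : u ≠ 1) :
    ∃ z ∈ K, z ∈ T ∧ z * z = 1 ∧ z ≠ 1 ∧ ∀ t ∈ T, t * z = z * t := by
  have h2f : Fact (Nat.Prime 2) := ⟨Nat.prime_two⟩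
  -- a conjugate of `u` in `T`
  have h1 : ∃ y ∈ T ⊓ K, y ≠ 1 := by
    let P : Sylow 2 X := two.toSylow syl
    have hu2 : IsPGroup 2 (zpowers u) := by
      refine IsPGroup.of_card (n := 1) ?_
      rw [Nat.card_zpowers, pow_one]
      exact orderOf_eq_prime (by rw [pow_two, uu]) u1
    obtain ⟨Q, hQ⟩ := hu2.exists_le_sylow
    obtain ⟨g, hg⟩ := MulAction.exists_smul_eq X Q P
    have h2 : g * u * g⁻¹ ∈ (P : Subgroup X) := by
      rw [← hg, Sylow.coe_subgroup_smul]
      refine ⟨u, hQ (mem_zpowers u), ?_⟩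
      exact MulAut.conj_apply g u
    refine ⟨g * u * g⁻¹, ⟨h2, hK.conj_mem u hu g⟩, fun h3 => u1 ?_⟩
    calc u = g⁻¹ * (g * u * g⁻¹) * g := by group
      _ = 1 := by rw [h3]; group
  obtain ⟨y, hy, hy1⟩ := h1
  -- fixed points of `T` on `T ∩ K`
  have h2 : ∃ c ∈ T ⊓ K, c ≠ 1 ∧ ∀ t ∈ T, t * c = c * t := by
    let _ : MulAction T (T ⊓ K : Subgroup X) :=
      { smul := fun t x => ⟨(t : X) * x * (t : X)⁻¹,
          ⟨T.mul_mem (T.mul_mem t.2 x.2.1) (T.inv_mem t.2), hK.conj_mem _ x.2.2 _⟩⟩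
        one_smul := fun x => Subtype.ext (by
          show ((1 : T) : X) * x * ((1 : T) : X)⁻¹ = x
          rw [OneMemClass.coe_one, one_mul, inv_one, mul_one])
        mul_smul := fun s t x => Subtype.ext (by
          show ((s * t : T) : X) * x * ((s * t : T) : X)⁻¹ = (s : X) * ((t : X) * x * (t : X)⁻¹) * (s : X)⁻¹
          rw [Subgroup.coe_mul]; group) }
    have h3 : 2 ∣ Nat.card (T ⊓ K : Subgroup X) := by
      obtain ⟨k, hk⟩ := IsPGroup.iff_card.1 (two.to_le (inf_le_left : T ⊓ K ≤ T))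
      rw [hk]
      refine dvd_pow_self 2 ?_
      rintro rfl
      rw [pow_zero, card_eq_one] at hk
      rw [hk] at hy
      exact hy1 (mem_bot.1 hy)
    obtain ⟨b, hb, hb1⟩ := two.exists_fixed_point_of_prime_dvd_card_of_fixed_point (T ⊓ K : Subgroup X) h3
      (a := (1 : (T ⊓ K : Subgroup X))) (fun t => Subtype.ext (by
        show (t : X) * 1 * (t : X)⁻¹ = 1
        rw [mul_one, mul_inv_cancel]))
    refine ⟨b, b.2, fun h => hb1 (Subtype.ext h.symm), fun t ht => ?_⟩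
    have h4 : t * (b : X) * t⁻¹ = b := congrArg Subtype.val (hb ⟨t, ht⟩)
    exact mul_inv_eq_iff_eq_mul.1 h4
  obtain ⟨c, hc, hc1, hcT⟩ := h2
  -- a power of `c`
  obtain ⟨n, hn⟩ := two ⟨c, hc.1⟩
  have hn' : c ^ 2 ^ n = 1 := congrArg Subtype.val hn
  have h3 : ∃ k, c ^ 2 ^ k = 1 := ⟨n, hn'⟩
  classical
  obtain ⟨k, hk⟩ : ∃ k, Nat.find h3 = k + 1 := by
    refine Nat.exists_eq_succ_of_ne_zero fun h0 => ?_
    have := Nat.find_spec h3
    rw [h0, pow_zero, pow_one] at this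
    exact hc1 this
  have h4 : c ^ 2 ^ (k + 1) = 1 := hk ▸ Nat.find_spec h3
  have h5 : c ^ 2 ^ k ≠ 1 := Nat.find_min h3 (by omega)
  refine ⟨c ^ 2 ^ k, K.pow_mem hc.2 _, T.pow_mem hc.1 _, ?_, h5, fun t ht => ?_⟩
  · rw [← pow_add, ← two_mul, ← pow_succ', h4]
  · exact ((show Commute t c from hcT t ht).pow_right _).eq

variable {X : Type u} [Group X] [Finite X] {M : Type v} [Group M] [Finite M] [MulDistribMulAction X M]
  {K T A : Subgroup X}

/-- the automorphism of `SU₃(3)` induced by `x` -/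
noncomputable def al (K : Subgroup X) [K.Normal] (e : K ≃* SU33) : X →* MulAut SU33 :=
  (MulAut.congr e).toMonoidHom.comp MulAut.conjNormal

omit [Finite X] in
theorem al_apply [K.Normal] (e : K ≃* SU33) (x : X) (s : K) :
    al K e x (e s) = e ⟨x * s * x⁻¹, (inferInstance : K.Normal).conj_mem s s.2 x⟩ := by
  have h1 : al K e x (e s) = e (MulAut.conjNormal x (e.symm (e s))) := rfl
  rw [h1, MulEquiv.symm_apply_apply]
  congr 1

omit [Finite X] in
theorem al_coe [K.Normal] (e : K ≃* SU33) (k : K) : al K e (k : X) = MulAut.conj (e k) := by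
  refine MulEquiv.ext fun y => ?_
  obtain ⟨s, rfl⟩ := e.surjective y
  rw [al_apply, MulAut.conj_apply, ← map_inv, ← map_mul, ← map_mul]
  rfl

omit [Finite X] in
theorem al_inj [K.Normal] (e : K ≃* SU33) (cen : centralizer (K : Set X) = ⊥) : Function.Injective (al K e) := by
  rw [injective_iff_map_eq_one]
  intro x hx
  have h1 : x ∈ centralizer (K : Set X) := by
    refine mem_centralizer_iff.2 fun k hk => ?_
    have h2 := al_apply e x ⟨k, hk⟩
    rw [hx, MulAut.one_apply] at h2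
    have h3 := congrArg Subtype.val (e.injective h2)
    have h4 : k = x * k * x⁻¹ := h3
    exact (mul_inv_eq_iff_eq_mul.1 h4.symm).symm
  rw [cen] at h1
  exact mem_bot.1 h1

omit [Finite X] in
/-- the inner automorphisms -/
theorem mem_K [K.Normal] (e : K ≃* SU33) (cen : centralizer (K : Set X) = ⊥) (x : X) :
    x ∈ K ↔ al K e x ∈ (MulAut.conj : SU33 →* MulAut SU33).range := by
  constructor
  · intro hx
    exact ⟨e ⟨x, hx⟩, (al_coe e ⟨x, hx⟩).symm⟩
  · rintro ⟨s, hs⟩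
    obtain ⟨k, rfl⟩ := e.surjective s
    rw [← al_coe] at hs
    rw [← al_inj e cen hs]
    exact k.2

/-- **The row `U₃(3)` with the W-part.** -/
theorem dead_SU {W : Type w} [CommGroup W] [Finite W] [MulDistribMulAction X W] {p : W →* M} (h : InX X M K T A)
    (hw : WPart K T p) (e : K ≃* SU33) : False := by
  have hKn := h.norm
  have cen := h.cen
  -- `z`
  obtain ⟨z, zK, zT, zz, z1, zc⟩ : ∃ z ∈ K, z ∈ T ∧ z * z = 1 ∧ z ≠ 1 ∧ ∀ t ∈ T, t * z = z * t := by
    refine exists_z hKn h.two h.syl (u := ((e.symm t0 : K) : X)) (e.symm t0).2 ?_ ?_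
    · rw [← Subgroup.coe_mul, ← map_mul, t0_t0, map_one, OneMemClass.coe_one]
    · intro h1
      have h2 : e.symm t0 = 1 := Subtype.ext h1
      rw [MulEquiv.symm_apply_eq, map_one] at h2
      exact t0_ne h2
  -- conjugate `e z` into `t0`
  have hconj : ∀ x : K, x * x = 1 → x ≠ 1 → ∃ s : SU33, s⁻¹ * e x * s = t0 := fun x hx hx1 =>
    exists_conj (by rw [← map_mul, hx, map_one]) (fun h1 => hx1 (e.injective (by rw [h1, map_one])))
  obtain ⟨s₀, hs₀⟩ := hconj ⟨z, zK⟩ (Subtype.ext zz) (fun h1 => z1 (congrArg Subtype.val h1))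
  obtain ⟨e', he'⟩ : ∃ e' : K ≃* SU33, e' ⟨z, zK⟩ = t0 :=
    ⟨e.trans (MulAut.conj s₀⁻¹), by
      rw [MulEquiv.trans_apply, MulAut.conj_apply, inv_inv]; exact hs₀⟩
  clear hs₀ s₀ hconj
  have hconj : ∀ x ∈ K, x * x = 1 → x ≠ 1 → ∃ y : X, y * z * y⁻¹ = x := by
    intro x hx hxx hx1
    obtain ⟨s, hs⟩ := exists_conj (S := e' ⟨x, hx⟩) (by
      rw [← map_mul, show (⟨x, hx⟩ : K) * ⟨x, hx⟩ = 1 from Subtype.ext hxx, map_one])
      (fun h1 => hx1 (congrArg Subtype.val (e'.injective (h1.trans (map_one e').symm))))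
    obtain ⟨y, rfl⟩ := e'.surjective s
    rw [← he', ← map_inv, ← map_mul, ← map_mul] at hs
    have h1 : (y : X)⁻¹ * x * y = z := congrArg Subtype.val (e'.injective hs)
    exact ⟨y, by rw [← h1]; group⟩
  -- commuting with `z`
  have hcomm : ∀ x : X, x * z = z * x → al K e' x t0 = t0 := by
    intro x hx
    have h1 := al_apply e' x ⟨z, zK⟩
    rw [he'] at h1
    rw [h1]
    have h2 : (⟨x * z * x⁻¹, hKn.conj_mem z zK x⟩ : K) = ⟨z, zK⟩ := Subtype.ext (by
      show x * z * x⁻¹ = z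
      rw [hx, mul_inv_cancel_right])
    exact (congrArg e' h2).trans he'
  -- outer involutions
  have hout : ∀ x : X, x ∉ K → x * x = 1 → x * z = z * x → 8 ≤ (cv M ({x} : Set X)).index := by
    intro x hxK hxx hxz
    obtain ⟨w₀, hw1, hw7, hw⟩ := out_inverts (β := al K e' x) (fun h1 => hxK ((mem_K e' cen x).2 h1))
      (by rw [← map_mul, hxx, map_one]) (hcomm x hxz)
    obtain ⟨k, rfl⟩ := e'.surjective w₀
    rw [al_apply, ← map_inv] at hw
    have h1 : x * (k : X) * x⁻¹ = (k : X)⁻¹ := congrArg Subtype.val (e'.injective hw)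
    refine RowU33.eight_le h.sq hxx (w := (k : X)) ?_ h1 ?_
    · rw [← map_pow] at hw7
      have h2 : k ^ 7 = 1 := e'.injective (by rw [hw7, map_one])
      have h3 := congrArg Subtype.val h2
      rwa [Subgroup.coe_pow] at h3
    · by_contra hcon
      push Not at hcon
      have h2 := h.faith _ hcon
      apply hw1
      rw [show k = 1 from Subtype.ext h2, map_one]
  -- the group `B`
  have hzA : ∀ a ∈ A, a * z = z * a := fun a ha => zc a (h.AT ha)
  let B : Subgroup X :=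
    { carrier := {x | x ∈ A ∨ x * z ∈ A}
      one_mem' := Or.inl A.one_mem
      mul_mem' := by
        rintro x y (hx | hx) (hy | hy)
        · exact Or.inl (A.mul_mem hx hy)
        · right
          rw [mul_assoc]
          exact A.mul_mem hx hy
        · right
          rw [mul_assoc, hzA y hy, ← mul_assoc]
          exact A.mul_mem hx hy
        · left
          have h1 : y * z = z * y := by
            have h2 := hzA _ hy
            rw [mul_assoc, zz, mul_one] at h2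
            have h3 : z * y = z * (y * z * z) := by rw [mul_assoc, zz, mul_one]
            calc y * z = z * (z * (y * z)) := by rw [← mul_assoc, zz, one_mul]
              _ = z * y := by rw [← h2]
          have h2 : x * y = (x * z) * (y * z) := by
            rw [h1, mul_assoc, ← mul_assoc z z, zz, one_mul]
          rw [h2]
          exact A.mul_mem hx hy
      inv_mem' := by
        rintro x (hx | hx)
        · exact Or.inl (A.inv_mem hx)
        · right
          have h1 := A.inv_mem hx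
          have h2 := hzA _ h1
          have h3 : z⁻¹ = z := inv_eq_of_mul_eq_one_left zz
          have h4 : x⁻¹ * z = z * ((x * z)⁻¹) * z := by rw [mul_inv_rev, h3, ← mul_assoc, zz, one_mul]
          rw [h4, ← h2, mul_assoc, zz, mul_one]
          exact h1 }
  have hAB : A ≤ B := fun x hx => Or.inl hx
  have hzB : z ∈ B := Or.inr (by rw [zz]; exact A.one_mem)
  have hBz : ∀ b ∈ B, b * z = z * b := by
    rintro b (hb | hb)
    · exact hzA b hb
    · have h2 := hzA _ hb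
      rw [mul_assoc, zz, mul_one] at h2
      calc b * z = z * (z * (b * z)) := by rw [← mul_assoc, zz, one_mul]
        _ = z * b := by rw [← h2]
  have hBB : ∀ b ∈ B, b * b = 1 := by
    rintro b (hb | hb)
    · exact h.el b hb
    · have h2 := h.el _ hb
      have h3 := hBz b (Or.inr hb)
      calc b * b = b * (z * z) * b := by rw [zz, mul_one]
        _ = (b * z) * (z * b) := by simp only [mul_assoc]
        _ = 1 := by rw [← h3, h2]
  -- `|B ∩ K| ≤ 4`
  have hB4 : Nat.card (B ⊓ K : Subgroup X) ≤ 4 := by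
    have h1 : Nat.card ((B.comap K.subtype).map e'.toMonoidHom : Subgroup SU33) ≤ 4 := by
      refine RowU33.inner_le ⟨⟨z, zK⟩, hzB, he'⟩ ?_
      rintro _ ⟨b, hb, rfl⟩
      rw [← map_mul, show b * b = 1 from Subtype.ext (hBB _ hb), map_one]
    rw [card_map_of_injective e'.injective] at h1
    have h2 : (B.comap K.subtype).map K.subtype = B ⊓ K := by
      rw [map_comap_eq, K.range_subtype, inf_comm]
    rw [← h2, card_map_of_injective K.subtype_injective]
    exact h1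
  have hB2 : Nat.card B ≤ 2 * Nat.card (B ⊓ K : Subgroup X) := by
    have h5 : K.relIndex B ≤ 2 := by
      have h7 : K = (MulAut.conj : SU33 →* MulAut SU33).range.comap (al K e') := by
        ext x
        exact mem_K e' cen x
      have h8 : K.index ≤ (MulAut.conj : SU33 →* MulAut SU33).range.index := by
        have h9 : ((MulAut.conj : SU33 →* MulAut SU33).range.comap (al K e')).index ≤
            (MulAut.conj : SU33 →* MulAut SU33).range.index := by
          rw [index_comap]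
          conv_rhs => rw [← relIndex_top_right]
          exact relIndex_le_of_le_right le_top (by rw [relIndex_top_right]; exact index_ne_zero_of_finite)
        rwa [← h7] at h9
      rw [index_inn] at h8
      have h6 : K.relIndex B ≤ K.relIndex ⊤ :=
        relIndex_le_of_le_right le_top (by rw [relIndex_top_right]; exact index_ne_zero_of_finite)
      rw [relIndex_top_right] at h6
      exact h6.trans h8
    have h4 : Nat.card ↥(B ⊓ K) * K.relIndex B = Nat.card B := by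
      have h5 := relIndex_mul_relIndex (⊥ : Subgroup X) (B ⊓ K) B bot_le inf_le_left
      rw [relIndex_bot_left, relIndex_bot_left, inf_relIndex_left] at h5
      exact h5
    rw [← h4, mul_comm]
    exact Nat.mul_le_mul_right _ h5
  -- index of the fixed points
  have hcvle : ∀ x ∈ A, cv M (A : Set X) ≤ cv M ({x} : Set X) := fun x hx => cv_anti (by simpa using hx)
  have hcveq : ∀ x ∈ A, Nat.card A ≤ (cv M ({x} : Set X)).index → cv M ({x} : Set X) = cv M (A : Set X) := by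
    intro x hx hle
    refine (Subgroup.eq_of_le_of_card_ge (hcvle x hx) ?_).symm
    have h2 := card_mul_index (cv M ({x} : Set X))
    have h3 := card_mul_index (cv M (A : Set X))
    rw [h.exact] at h3
    have h4 : Nat.card (cv M ({x} : Set X)) * Nat.card A ≤ Nat.card (cv M (A : Set X)) * Nat.card A := by
      rw [h3, ← h2]
      exact Nat.mul_le_mul_left _ hle
    exact Nat.le_of_mul_le_mul_right h4 Nat.card_pos
  have hfour := h.four
  have hA8 : Nat.card A ≤ 8 := (card_le_of_le hAB).trans (hB2.trans (by omega))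
  -- `z ∈ A`, and some element of `A` has the fixed points of `A` unless `A ≤ K`
  have hkey : A = B ∧ ((∃ b ∈ A, cv M ({b} : Set X) = cv M (A : Set X)) ∨ Nat.card A = 4) ∧
      4 ≤ Nat.card (A ⊓ K : Subgroup X) := by
    by_cases hAK : A ≤ K
    · have h1 : B ≤ K := by
        rintro b (hb | hb)
        · exact hAK hb
        · have h2 := K.mul_mem (hAK hb) zK
          rwa [mul_assoc, zz, mul_one] at h2
      rw [inf_eq_left.2 h1] at hB4
      have h2 : A = B := Subgroup.eq_of_le_of_card_ge hAB (hB4.trans hfour)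
      refine ⟨h2, Or.inr (le_antisymm (h2 ▸ hB4) hfour), ?_⟩
      rw [inf_eq_left.2 hAK]
      exact hfour
    · obtain ⟨x, hx, hxK⟩ := SetLike.not_le_iff_exists.1 hAK
      have h1 := hout x hxK (h.el x hx) (hzA x hx)
      have h2 : (cv M ({x} : Set X)).index ≤ Nat.card A := h.index_le (Set.singleton_subset_iff.2 hx)
      have h3 : A = B := Subgroup.eq_of_le_of_card_ge hAB ((hB2.trans (by omega)).trans (h1.trans h2))
      refine ⟨h3, Or.inl ⟨x, hx, hcveq x hx (hA8.trans h1)⟩, ?_⟩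
      have h4 : Nat.card A ≤ 2 * Nat.card (A ⊓ K : Subgroup X) := by
        have h5 := hB2
        rw [← h3] at h5
        exact h5
      omega
  obtain ⟨hAB', hcase, hAK4⟩ := hkey
  have zA : z ∈ A := by rw [hAB']; exact hzB
  -- `a`
  obtain ⟨a, aA, aK, a1, az⟩ : ∃ a ∈ A, a ∈ K ∧ a ≠ 1 ∧ a ≠ z := by
    by_contra hcon
    push Not at hcon
    have h1 : ((A ⊓ K : Subgroup X) : Set X) ⊆ {1, z} := by
      intro x hx
      rcases eq_or_ne x 1 with h2 | h2
      · exact Or.inl h2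
      · exact Or.inr (hcon x hx.1 hx.2 h2)
    have h3 := Set.ncard_le_ncard h1 (Set.toFinite _)
    have h4 : ({1, z} : Set X).ncard ≤ 2 := Set.ncard_insert_le _ _ |>.trans (by rw [Set.ncard_singleton])
    have h5 : Nat.card (A ⊓ K : Subgroup X) = ((A ⊓ K : Subgroup X) : Set X).ncard :=
      (Nat.card_coe_set_eq _)
    omega
  have haz := hzA a aA
  have haa := h.el a aA
  -- `g`
  set g : X := ((e'.symm ga : K) : X) with hg
  have gK : g ∈ K := (e'.symm ga).2
  have gz : g * z = z * g := by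
    have h1 : e'.symm ga * ⟨z, zK⟩ = ⟨z, zK⟩ * e'.symm ga := by
      apply e'.injective
      rw [map_mul, map_mul, he', MulEquiv.apply_symm_apply, ga_t0]
    exact congrArg Subtype.val h1
  have g3 : g * g * g = 1 := by
    have h1 : e'.symm ga * e'.symm ga * e'.symm ga = 1 := by
      rw [← map_mul, ← map_mul, ga_cube, map_one]
    exact congrArg Subtype.val h1
  have hcom : a * (g * a * g⁻¹) * a⁻¹ * (g * a * g⁻¹)⁻¹ = z := by
    have h1 := comm_ga (x := e' ⟨a, aK⟩)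
      (by
        rw [← he', ← map_mul, ← map_mul]
        exact congrArg e' (Subtype.ext haz))
      (by rw [← map_mul, show (⟨a, aK⟩ : K) * ⟨a, aK⟩ = 1 from Subtype.ext haa, map_one])
      (fun h2 => a1 (congrArg Subtype.val (e'.injective (h2.trans (map_one e').symm))))
      (fun h2 => az (congrArg Subtype.val (e'.injective (h2.trans he'.symm))))
    have h2 : e' (⟨a, aK⟩ * (e'.symm ga * ⟨a, aK⟩ * (e'.symm ga)⁻¹) * ⟨a, aK⟩⁻¹ *
        (e'.symm ga * ⟨a, aK⟩ * (e'.symm ga)⁻¹)⁻¹) = e' ⟨z, zK⟩ := by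
      simp only [map_mul, map_inv, MulEquiv.apply_symm_apply]
      rw [he']
      exact h1
    exact congrArg Subtype.val (e'.injective h2)
  -- no transvections
  have hz4 : 4 ≤ (cv M ({z} : Set X)).index := by
    have hidx : ∀ x ∈ K, x * x = 1 → x ≠ 1 → (cv M ({x} : Set X)).index = (cv M ({z} : Set X)).index := by
      intro x hx hxx hx1
      obtain ⟨y, rfl⟩ := hconj x hx hxx hx1
      exact InvFrob.index_cv_conj y z
    have h1 : ¬ (cv M ({z} : Set X)).index ≤ 2 := by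
      intro hle
      refine KillZ.false_of_index h.sq h.faith z1 zz haa haz gz hcom hle ?_ ?_
      · rw [hidx a aK haa a1]; exact hle
      · have h2 : a * z * (a * z) = 1 := h.el _ (A.mul_mem aA zA)
        have h3 : a * z ≠ 1 := by
          intro h4
          apply az
          calc a = a * z * z := by rw [mul_assoc, zz, mul_one]
            _ = z := by rw [h4, one_mul]
        rw [hidx (a * z) (K.mul_mem aK zK) h2 h3]
        exact hle
    obtain ⟨n, hn⟩ := (IsPGroup.iff_card.1 h.M_two)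
    have h7 : (cv M ({z} : Set X)).index ∣ 2 ^ n := by
      rw [← hn]
      exact index_dvd_card _
    obtain ⟨k, -, hk⟩ := (Nat.dvd_prime_pow Nat.prime_two).1 h7
    rw [hk] at h1 ⊢
    match k, h1 with
    | 0, h5 => simp at h5
    | 1, h5 => simp at h5
    | k + 2, _ => rw [pow_add]; have := Nat.one_le_two_pow (n := k); omega
  -- quadratic
  obtain ⟨b, bA, hb⟩ : ∃ b ∈ A, cv M ({b} : Set X) = cv M (A : Set X) := by
    rcases hcase with h1 | h1
    · exact h1
    · exact ⟨z, zA, hcveq z zA (by rw [h1]; exact hz4)⟩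
  refine KillZ.false_of h.sq h.faith hw h.two zA zK z1 zc aA aK
    (KillZ.quad_of h.sq h.A_comm bA (h.el b bA) (fun m hm => hb ▸ mem_cv_singleton.2 hm) aA) gK gz g3 hcom ?_
  have h2 := card_mul_index (cv M ({z} : Set X))
  have h3 := card_mul_index (cv M (A : Set X))
  rw [h.exact, ← h2] at h3
  have h4 : Nat.card (cv M ({z} : Set X)) * 4 ≤ Nat.card (cv M ({z} : Set X)) * (cv M ({z} : Set X)).index :=
    Nat.mul_le_mul_left _ hz4
  have h5 : Nat.card (cv M (A : Set X)) * Nat.card A ≤ Nat.card (cv M (A : Set X)) * 8 := Nat.mul_le_mul_left _ hA8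
  omega

open Cfsg.Agent.Classification.RTwo.UThreeThree (K9 card_k9 psuEquiv) in
/-- **The row `U₃(3)` with the W-part** -/
theorem dead_W {W : Type w} [CommGroup W] [Finite W] [MulDistribMulAction X W] {p : W →* M} (h : InX X M K T A)
    (hw : WPart K T p) (hK : ∃ (F : Type) (_ : Field F) (_ : Fintype F), Fintype.card F = 9 ∧
    Nonempty (K ≃* PSU 3 F 3)) : False := by
  obtain ⟨F, _, _, hF, ⟨e⟩⟩ := hK
  have hcard : Fintype.card F = Fintype.card K9 := by rw [hF, card_k9]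
  let g : F ≃+* K9 := FiniteField.ringEquivOfCardEq hcard
  exact dead_SU h hw (e.trans ((psuEquiv hF).trans (LieClassical.FieldTransfer.suCongr 3 3 g)))

end row

end Cfsg.Agent.Omega.ML.Ex.RowU33W

end

section


/-!
# The pieces behind `PsR` which are finished (helper854)
-/

set_option autoImplicit false

namespace Cfsg.Agent.Omega.ML.Ex

open Cfsg

universe u v w

/-- **The row `U₃(3)` with the W-part** (helper325). -/
theorem u33W : DeadXW.{u, v, w} fun S _ => Rows.IsUThreeThree S :=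
  fun _ _ _ _ _ _ _ _ _ _ _ _ _ _ _ h hW hK => RowU33W.dead_W h hW hK

/-- **The row `A₆` with the W-part** (helper848). -/
theorem a6W : DeadXW.{u, v, w} fun S _ => Nonempty (S ≃* alternatingGroup (Fin 6)) :=
  fun _ _ _ _ _ _ _ _ _ _ _ _ _ _ _ h hW hK => RowASix.alt6_W h hW hK

end Cfsg.Agent.Omega.ML.Ex

end

section


/-!
# (LA) through RED (#23238; helper451)

The situation of `SecLow.Quo` : `K = E F` normal in `X = K T`, `F = C_K(E)`, `T₁ = N_T(E)`, `Y = E T₁`, `a : Y → X₁` onto,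
injective on `E`; `X` acts on `M` (exponent 2), `N ≤ M` is invariant under `N_X(E)`, centralised by `F`, `[M,B] ≤ N`,
`[lam,E] ≤ N`; `q : N → M₁` with kernel `C_N(E)`.

* `Sit` : this situation;
* `stab` : `{x : [lam,x] ∈ C_M(K)} = C_X(lam)`;
* `exists_n` : `lam = n c` with `n ∈ N`, `c ∈ C_M(E)`;
* `cF` : an element of `Y` with `[M,y] ≤ N` centralises `F`;
* `cj_le` : a `Y`-conjugate `C` of `B` with `a(C) ≤ O₂(C_{X₁}(m₁))` lies in `O₂(C_X(lam))`;
* **`la`** : `LA X M T B lam → LA X₁ M₁ (im a T₁) (im a B) (q n)`.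
-/

set_option autoImplicit false
set_option linter.style.haveILetI false
set_option linter.unusedVariables false

namespace Cfsg.Agent.Omega.ML.Ex.RedLA

open Subgroup Cfsg Cfsg.Agent.ZN Cfsg.Agent.Omega.NOThree.NoOver Cfsg.Agent.Omega.ML.Ex.SecLow
open Cfsg.Agent.ClassTwoFusion.Quad
open Cfsg.Agent.MinSimple.VModule (o2_isPGroup o2_le le_o2 le_normalizer_o2 o2_le_of_sylow)

variable {X : Type*} [Group X] {M : Type*} [CommGroup M] [MulDistribMulAction X M]

/-- **The situation.** -/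
structure Sit (T B K E F : Subgroup X) (lam : M) (N : Subgroup M) : Prop extends Cp T K E F where
  sq : ∀ m : M, m * m = 1
  faith : ∀ x : X, (∀ m : M, x • m = m) → x = 1
  cen : centralizer (K : Set X) = ⊥
  core : ∀ L : Subgroup X, L.Normal → IsPGroup 2 L → L = ⊥
  syl : ¬ 2 ∣ T.index
  fixT : ∀ t ∈ T, t • lam = lam
  ne : MulAction.stabilizer X lam ≠ ⊤
  /-- `N` is `N(E)`-invariant -/
  NN : ∀ x : X, (∀ e ∈ E, x * e * x⁻¹ ∈ E) → ∀ n ∈ N, x • n ∈ N
  FN : ∀ f ∈ F, ∀ n ∈ N, f • n = n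
  BE : ∀ b ∈ B, b ∈ T1 T E
  MB : ∀ b ∈ B, ∀ m : M, (b • m) * m⁻¹ ∈ N
  lamE : ∀ e ∈ E, (e • lam) * lam⁻¹ ∈ N

/-- the elements of `N(E)` with `[M,x] ≤ N` -/
def QN (E : Subgroup X) (N : Subgroup M) (hN : ∀ x : X, (∀ e ∈ E, x * e * x⁻¹ ∈ E) → ∀ n ∈ N, x • n ∈ N) :
    Subgroup X where
  carrier := {x | (∀ e, e ∈ E ↔ x * e * x⁻¹ ∈ E) ∧ ∀ m : M, (x • m) * m⁻¹ ∈ N}
  one_mem' := ⟨fun e => by rw [one_mul, inv_one, mul_one], fun m => by rw [one_smul, mul_inv_cancel]; exact one_mem _⟩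
  mul_mem' := by
    rintro x y ⟨hx, hx'⟩ ⟨hy, hy'⟩
    refine ⟨fun e => ?_, fun m => ?_⟩
    · rw [hy, hx]
      have h1 : x * (y * e * y⁻¹) * x⁻¹ = x * y * e * (x * y)⁻¹ := by group
      rw [h1]
    · have h1 : ((x * y) • m) * m⁻¹ = ((x • y • m) * (y • m)⁻¹) * ((y • m) * m⁻¹) := by
        rw [mul_smul]
        group
      rw [h1]
      exact mul_mem (hx' _) (hy' _)
  inv_mem' := by
    rintro x ⟨hx, hx'⟩
    have hi : ∀ e, e ∈ E ↔ x⁻¹ * e * x⁻¹⁻¹ ∈ E := by
      intro e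
      rw [hx (x⁻¹ * e * x⁻¹⁻¹)]
      have h1 : x * (x⁻¹ * e * x⁻¹⁻¹) * x⁻¹ = e := by group
      rw [h1]
    refine ⟨hi, fun m => ?_⟩
    have h1 : (x⁻¹ • m) * m⁻¹ = (x⁻¹ • ((x • m) * m⁻¹))⁻¹ := by
      rw [smul_mul', inv_smul_smul, smul_inv', mul_inv, inv_inv, mul_comm]
    rw [h1]
    exact inv_mem (hN _ (fun e he => (hi e).1 he) _ (hx' m))

theorem mem_QN {E : Subgroup X} {N : Subgroup M} {hN : ∀ x : X, (∀ e ∈ E, x * e * x⁻¹ ∈ E) → ∀ n ∈ N, x • n ∈ N}
    {x : X} : x ∈ QN E N hN ↔ (∀ e, e ∈ E ↔ x * e * x⁻¹ ∈ E) ∧ ∀ m : M, (x • m) * m⁻¹ ∈ N := Iff.rfl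

namespace Sit

variable {T B K E F : Subgroup X} {lam : M} {N : Subgroup M}

theorem T1_iff {T E : Subgroup X} {t : X} (ht : t ∈ T1 T E) (e : X) : e ∈ E ↔ t * e * t⁻¹ ∈ E := mem_normalizer_iff.1 ht.2 e

theorem YY_iff {T E : Subgroup X} {y : X} (hy : y ∈ YY T E) (e : X) : e ∈ E ↔ y * e * y⁻¹ ∈ E := by
  have h1 : YY T E ≤ normalizer (E : Set X) := sup_le le_normalizer inf_le_right
  exact mem_normalizer_iff.1 (h1 hy) e

/-- `F ⊴ K` -/
theorem F_normalK (h : Sit T B K E F lam N) {k f : X} (hk : k ∈ K) (hf : f ∈ F) : k * f * k⁻¹ ∈ F := by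
  obtain ⟨e, he, g, hg, rfl⟩ := h.KEF k hk
  have h1 : e * g * f * (e * g)⁻¹ = g * f * g⁻¹ := by
    have h2 : g * f * g⁻¹ ∈ F := mul_mem (mul_mem hg hf) (inv_mem hg)
    calc e * g * f * (e * g)⁻¹ = e * (g * f * g⁻¹) * e⁻¹ := by group
      _ = (g * f * g⁻¹) * e * e⁻¹ := by rw [h.cEF e he _ h2]
      _ = _ := by group
  rw [h1]
  exact mul_mem (mul_mem hg hf) (inv_mem hg)

/-- an element which normalises `E` normalises `F` -/
theorem F_conj' (h : Sit T B K E F lam N) {x f : X} (hx : ∀ e, e ∈ E ↔ x * e * x⁻¹ ∈ E) (hf : f ∈ F) :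
    x * f * x⁻¹ ∈ F := by
  refine h.cF _ (h.Kn.conj_mem f (h.FK hf) x) ?_
  intro e he
  have h1 : x⁻¹ * e * x ∈ E := by
    rw [hx]
    have : x * (x⁻¹ * e * x) * x⁻¹ = e := by group
    rwa [this]
  calc x * f * x⁻¹ * e = x * (f * (x⁻¹ * e * x)) * x⁻¹ := by group
    _ = x * ((x⁻¹ * e * x) * f) * x⁻¹ := by rw [h.cEF _ h1 f hf]
    _ = e * (x * f * x⁻¹) := by group

/-- `F ∩ {x : [M,x] ≤ N} = 1` -/
theorem inf_F [Finite X] (h : Sit T B K E F lam N) : QN E N h.NN ⊓ F = ⊥ := by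
  have hsq : ∀ x ∈ QN E N h.NN ⊓ F, x * x = 1 := by
    rintro x ⟨hx, hxF⟩
    apply h.faith
    intro m
    have h1 := h.FN x hxF _ ((mem_QN.1 hx).2 m)
    rw [smul_mul', smul_inv'] at h1
    -- `x x m (x m)⁻¹ = x m m⁻¹`
    rw [mul_smul]
    have h2 : x • x • m = ((x • m) * m⁻¹) * (x • m) := by
      rw [← h1]
      group
    have h3 : (x • m) * (x • m) = 1 := h.sq _
    have h4 : m⁻¹ = m := inv_eq_of_mul_eq_one_right (h.sq m)
    rw [h2, mul_assoc, mul_comm m⁻¹, ← mul_assoc, h3, one_mul, h4]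
  have hp : IsPGroup 2 (QN E N h.NN ⊓ F : Subgroup X) := by
    rintro ⟨x, hx⟩
    refine ⟨1, Subtype.ext ?_⟩
    show x ^ (2 ^ 1) = 1
    rw [pow_one, pow_two]
    exact hsq x hx
  have hn : K ≤ normalizer ((QN E N h.NN ⊓ F : Subgroup X) : Set X) := by
    have key : ∀ k ∈ K, ∀ x ∈ QN E N h.NN ⊓ F, k * x * k⁻¹ ∈ QN E N h.NN ⊓ F := by
      rintro k hk x ⟨hx, hxF⟩
      refine ⟨?_, h.F_normalK hk hxF⟩
      obtain ⟨e, he, g, hg, rfl⟩ := h.KEF k hk
      have h1 : e * g * x * (e * g)⁻¹ = g * x * g⁻¹ := by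
        have h2 : g * x * g⁻¹ ∈ F := mul_mem (mul_mem hg hxF) (inv_mem hg)
        calc e * g * x * (e * g)⁻¹ = e * (g * x * g⁻¹) * e⁻¹ := by group
          _ = (g * x * g⁻¹) * e * e⁻¹ := by rw [h.cEF e he _ h2]
          _ = _ := by group
      rw [h1]
      have hgx : g * x * g⁻¹ ∈ F := mul_mem (mul_mem hg hxF) (inv_mem hg)
      refine mem_QN.2 ⟨fun e => ?_, fun m => ?_⟩
      · constructor
        · intro he
          rw [← h.cEF e he _ hgx, mul_inv_cancel_right]
          exact he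
        · intro he
          have h3 := h.cEF _ he _ hgx
          have h4 : e = (g * x * g⁻¹) * e * (g * x * g⁻¹)⁻¹ := by
            have h5 : (g * x * g⁻¹) * e * (g * x * g⁻¹)⁻¹ * (g * x * g⁻¹) =
                (g * x * g⁻¹) * ((g * x * g⁻¹) * e * (g * x * g⁻¹)⁻¹) := h3
            rw [inv_mul_cancel_right] at h5
            exact mul_left_cancel h5
          rw [h4]
          exact he
      · have h3 := h.NN g (fun e he => by rw [← h.cEF e he g hg, mul_inv_cancel_right]; exact he) _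
          ((mem_QN.1 hx).2 (g⁻¹ • m))
        rw [smul_mul', smul_inv', smul_inv_smul] at h3
        rwa [mul_smul, mul_smul]
    intro k hk
    rw [mem_normalizer_iff]
    intro x
    refine ⟨key k hk x, fun hx => ?_⟩
    have h5 := key k⁻¹ (K.inv_mem hk) _ hx
    have h6 : k⁻¹ * (k * x * k⁻¹) * k⁻¹⁻¹ = x := by group
    rwa [h6] at h5
  have h1 : QN E N h.NN ⊓ F ≤ o2 K := le_o2 (inf_le_right.trans h.FK) hp hn
  have hKn := h.Kn
  have h2 : (o2 K).Normal := by
    refine ⟨fun x hx g => ?_⟩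
    have h3 : cj g (o2 K) ≤ o2 K := by
      refine le_o2 ?_ ((o2_isPGroup K).map _) ?_
      · intro y hy
        have h4 := h.Kn.conj_mem _ (o2_le K (mem_cj.1 hy)) g
        have h5 : g * (g⁻¹ * y * g) * g⁻¹ = y := by group
        rwa [h5] at h4
      · rw [normalizer_cj]
        intro k hk
        rw [mem_cj]
        refine le_normalizer_o2 K ?_
        have h4 := h.Kn.conj_mem k hk g⁻¹
        rwa [inv_inv] at h4
    refine h3 (mem_cj.2 ?_)
    have h5 : g⁻¹ * (g * x * g⁻¹) * g = x := by group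
    rwa [h5]
  rw [eq_bot_iff, ← h.core _ h2 (o2_isPGroup K)]
  exact h1

/-- an element `x` of `N(E)` with `[M,x] ≤ N` centralises `F` -/
theorem comm_F [Finite X] (h : Sit T B K E F lam N) {x f : X} (hx : x ∈ QN E N h.NN) (hf : f ∈ F) :
    x * f = f * x := by
  have hfE : ∀ e, e ∈ E ↔ f * e * f⁻¹ ∈ E := by
    intro e
    constructor
    · intro he
      rw [← h.cEF e he f hf, mul_inv_cancel_right]
      exact he
    · intro he
      have h3 := h.cEF _ he f hf
      rw [inv_mul_cancel_right] at h3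
      have h4 : e = f * e * f⁻¹ := mul_left_cancel h3
      rw [h4]
      exact he
  have hfQ : f * x⁻¹ * f⁻¹ ∈ QN E N h.NN := by
    have hx' := mem_QN.1 (inv_mem hx)
    refine mem_QN.2 ⟨fun e => ?_, fun m => ?_⟩
    · have e1 : f * x⁻¹ * f⁻¹ * e * (f * x⁻¹ * f⁻¹)⁻¹ = f * (x⁻¹ * (f⁻¹ * e * f) * x⁻¹⁻¹) * f⁻¹ := by group
      have e2 : f * (f⁻¹ * e * f) * f⁻¹ = e := by group
      rw [e1, ← hfE, ← hx'.1, hfE (f⁻¹ * e * f), e2]
    · have h3 := h.NN f (fun e he => (hfE e).1 he) _ (hx'.2 (f⁻¹ • m))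
      rw [smul_mul', smul_inv', smul_inv_smul] at h3
      rwa [mul_smul, mul_smul]
  have h1 : x * (f * x⁻¹ * f⁻¹) ∈ QN E N h.NN ⊓ F := by
    refine ⟨mul_mem hx hfQ, ?_⟩
    have h2 := mul_mem (h.F_conj' (mem_QN.1 hx).1 hf) (inv_mem hf)
    have e1 : x * f * x⁻¹ * f⁻¹ = x * (f * x⁻¹ * f⁻¹) := by group
    rwa [e1] at h2
  rw [h.inf_F, mem_bot] at h1
  have e1 : x * (f * x⁻¹ * f⁻¹) = x * f * x⁻¹ * f⁻¹ := by group
  rw [e1, mul_inv_eq_one, mul_inv_eq_iff_eq_mul] at h1
  exact h1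

/-- **`{x : [lam,x] ∈ C_M(K)} = C_X(lam)`** -/
theorem stab [Finite X] (h : Sit T B K E F lam N) {x : X}
    (hx : ∀ k ∈ K, k • ((x • lam) * lam⁻¹) = (x • lam) * lam⁻¹) : x • lam = lam := by
  have hKn := h.Kn
  let St : Subgroup X :=
    { carrier := {k | k ∈ K ∧ ∀ l ∈ K, l • ((k • lam) * lam⁻¹) = (k • lam) * lam⁻¹}
      one_mem' := ⟨one_mem _, fun l _ => by rw [one_smul, mul_inv_cancel, smul_one]⟩
      mul_mem' := by
        rintro k l ⟨hk, hk'⟩ ⟨hl, hl'⟩
        refine ⟨mul_mem hk hl, fun m hm => ?_⟩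
        have e1 : ((k * l) • lam) * lam⁻¹ = (k • ((l • lam) * lam⁻¹)) * ((k • lam) * lam⁻¹) := by
          rw [smul_mul', mul_smul, smul_inv']
          group
        rw [e1, hl' k hk, smul_mul', hl' m hm, hk' m hm]
      inv_mem' := by
        rintro k ⟨hk, hk'⟩
        refine ⟨inv_mem hk, fun m hm => ?_⟩
        have e1 : (k⁻¹ • lam) * lam⁻¹ = (k⁻¹ • ((k • lam) * lam⁻¹))⁻¹ := by
          rw [smul_mul', inv_smul_smul, smul_inv', mul_inv, inv_inv, mul_comm]
        rw [e1, hk' _ (inv_mem hk), smul_inv', hk' m hm] }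
  let f : St →* M :=
    { toFun := fun k => ((k : X) • lam) * lam⁻¹
      map_one' := by
        show ((1 : X) • lam) * lam⁻¹ = 1
        rw [one_smul, mul_inv_cancel]
      map_mul' := fun k l => by
        show (((k : X) * (l : X)) • lam) * lam⁻¹ = (((k : X) • lam) * lam⁻¹) * (((l : X) • lam) * lam⁻¹)
        have e1 : (((k : X) * (l : X)) • lam) * lam⁻¹ = ((k : X) • (((l : X) • lam) * lam⁻¹)) * (((k : X) • lam) * lam⁻¹) := by
          rw [smul_mul', mul_smul, smul_inv']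
          group
        rw [e1, l.2.2 k k.2.1, mul_comm] }
  have hf : ∀ k : St, f k = 1 := by
    intro k
    by_contra hne
    have h1 : (T ⊓ K).subgroupOf St ≤ f.ker := by
      intro t ht
      rw [MonoidHom.mem_ker]
      show ((t : X) • lam) * lam⁻¹ = 1
      have h0 : (t : X) • lam = lam := h.fixT _ (mem_subgroupOf.1 ht).1
      rw [h0, mul_inv_cancel]
    have h2 : orderOf (⟨f k, k, rfl⟩ : f.range) = 2 := by
      rw [orderOf_eq_prime_iff]
      refine ⟨Subtype.ext ?_, fun h0 => hne (congrArg Subtype.val h0)⟩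
      show f k ^ 2 = 1
      rw [pow_two]
      exact h.sq _
    have h3 : 2 ∣ f.ker.index := by
      rw [Subgroup.index_ker]
      have := orderOf_dvd_natCard (⟨f k, k, rfl⟩ : f.range)
      rwa [h2] at this
    have h4 : f.ker.index ∣ ((T ⊓ K).subgroupOf St).index := index_dvd_of_le h1
    have h5 : (T ⊓ K).relIndex St ∣ (T ⊓ K).relIndex K := by
      by_cases hle : T ⊓ K ≤ St
      · exact ⟨_, (relIndex_mul_relIndex (T ⊓ K) St K hle fun k hk => hk.1).symm⟩
      · exfalso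
        apply hle
        rintro t ⟨htT, htK⟩
        refine ⟨htK, fun l _ => ?_⟩
        rw [h.fixT t htT, mul_inv_cancel, smul_one]
    have h6 : (T ⊓ K).relIndex K = T.index := by
      rw [inf_relIndex_right]
      exact (index_eq_of_sup h.gen).symm
    exact h.syl (h6 ▸ (h3.trans h4).trans h5)
  obtain ⟨k, hk, t, ht, rfl⟩ := mem_sup_of_normal_left.1 (h.gen ▸ mem_top x : x ∈ K ⊔ T)
  have e1 : (k * t) • lam = k • lam := by rw [mul_smul, h.fixT t ht]
  rw [e1] at hx ⊢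
  have h1 := hf ⟨k, hk, hx⟩
  exact mul_inv_eq_one.1 h1

/-- **`lam = n c` with `n ∈ N`, `c ∈ C_M(E)`** -/
theorem exists_n [Finite X] [Finite M] (h : Sit T B K E F lam N) :
    ∃ n ∈ N, ∀ e ∈ E, e • (n * lam⁻¹) = n * lam⁻¹ := by
  classical
  let O : Set M := MulAction.orbit E lam
  let S : Finset M := (Set.toFinite O).toFinset
  have hS : ∀ v, v ∈ S ↔ ∃ e ∈ E, v = e • lam := by
    intro v
    rw [Set.Finite.mem_toFinset]
    constructor
    · rintro ⟨e, rfl⟩
      exact ⟨e, e.2, rfl⟩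
    · rintro ⟨e, he, rfl⟩
      exact ⟨⟨e, he⟩, rfl⟩
  -- the orbit is odd
  have hcard : S.card = (MulAction.stabilizer E lam).index := by
    rw [MulAction.index_stabilizer, ← Set.ncard_eq_toFinset_card O (Set.toFinite O)]
  have hodd : Odd S.card := by
    rw [← Nat.not_even_iff_odd, even_iff_two_dvd, hcard]
    intro h1
    apply h.sylE
    have h2 : (T ⊓ E).subgroupOf E ≤ MulAction.stabilizer E lam := fun t ht => h.fixT _ ht.1
    exact h1.trans (index_dvd_of_le h2)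
  let c : M := ∏ v ∈ S, v
  have hc : ∀ e ∈ E, e • c = c := by
    intro e he
    show e • (∏ v ∈ S, v) = ∏ v ∈ S, v
    rw [Finset.smul_prod']
    refine Finset.prod_bij (fun v _ => e • v) ?_ ?_ ?_ ?_
    · intro v hv
      obtain ⟨g, hg, rfl⟩ := (hS v).1 hv
      exact (hS _).2 ⟨e * g, mul_mem he hg, by rw [mul_smul]⟩
    · intro v _ w _ hvw
      exact smul_left_cancel e hvw
    · intro v hv
      obtain ⟨g, hg, rfl⟩ := (hS v).1 hv
      exact ⟨e⁻¹ • g • lam, (hS _).2 ⟨e⁻¹ * g, mul_mem (inv_mem he) hg, by rw [mul_smul]⟩, by rw [smul_inv_smul]⟩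
    · intro v _
      rfl
  have hcN : c * lam⁻¹ ∈ N := by
    have h1 : ∏ v ∈ S, (v * lam⁻¹) ∈ N := by
      refine Subgroup.prod_mem _ fun v hv => ?_
      obtain ⟨g, hg, rfl⟩ := (hS v).1 hv
      exact h.lamE g hg
    rw [Finset.prod_mul_distrib, Finset.prod_const] at h1
    obtain ⟨k, hk⟩ := hodd
    have h2 : lam⁻¹ ^ S.card = lam⁻¹ := by
      rw [hk, pow_succ, pow_mul, pow_two, h.sq, one_pow, one_mul]
    rwa [h2] at h1
  refine ⟨c * lam⁻¹, hcN, fun e he => ?_⟩
  have h3 : c * lam⁻¹ * lam⁻¹ = c := by rw [mul_assoc, h.sq, mul_one]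
  rw [h3]
  exact hc e he

/-- `z ∈ N(E)` or `E^z ≤ F` -/
theorem dich [Finite X] (h : Sit T B K E F lam N) (z : X) :
    (∀ e, e ∈ E ↔ z * e * z⁻¹ ∈ E) ∨ ∀ e ∈ E, z * e * z⁻¹ ∈ F := by
  have hKn := h.Kn
  obtain ⟨k, hk, t, ht, rfl⟩ := mem_sup_of_normal_left.1 (h.gen ▸ mem_top z : z ∈ K ⊔ T)
  have e1 : ∀ e, k * t * e * (k * t)⁻¹ = k * (t * e * t⁻¹) * k⁻¹ := fun e => by group
  have hKE : ∀ k ∈ K, ∀ e ∈ E, k * e * k⁻¹ ∈ E := by
    intro k hk e he
    obtain ⟨g, hg, f, hf, rfl⟩ := h.KEF k hk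
    have h1 : g * f * e * (g * f)⁻¹ = g * e * g⁻¹ := by
      calc g * f * e * (g * f)⁻¹ = g * (f * e) * f⁻¹ * g⁻¹ := by group
        _ = g * (e * f) * f⁻¹ * g⁻¹ := by rw [h.cEF e he f hf]
        _ = _ := by group
    rw [h1]
    exact mul_mem (mul_mem hg he) (inv_mem hg)
  rcases h.conj t ht with h1 | h1
  · left
    intro e
    rw [e1, T1_iff (h.mem_T1 ht h1) e]
    refine ⟨fun he => hKE k hk _ he, fun he => ?_⟩
    have h2 := hKE k⁻¹ (inv_mem hk) _ he
    have h3 : k⁻¹ * (k * (t * e * t⁻¹) * k⁻¹) * k⁻¹⁻¹ = t * e * t⁻¹ := by group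
    rwa [h3] at h2
  · right
    intro e he
    rw [e1]
    exact h.F_normalK hk (h1 e he)

/-- two elements which centralise `F`, resp. `E` and normalise `E` -/
theorem comm_of [Finite X] (h : Sit T B K E F lam N) {d d' : X} (hd : d ∈ QN E N h.NN)
    (hd' : ∀ e ∈ E, d' * e = e * d') : d * d' = d' * d := by
  have hd2 := (mem_QN.1 hd).1
  have hdF : ∀ f ∈ F, d * f = f * d := fun f hf => h.comm_F hd hf
  have hE' : ∀ e, e ∈ E ↔ d' * e * d'⁻¹ ∈ E := by
    intro e
    constructor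
    · intro he
      rw [hd' e he, mul_inv_cancel_right]
      exact he
    · intro he
      have h1 := hd' _ he
      have h2 : e = d' * e * d'⁻¹ := by
        have h3 : d' * (d' * e * d'⁻¹) = d' * e := by rw [h1]; group
        exact (mul_left_cancel h3).symm
      rw [h2]
      exact he
  have hc : (d' * d)⁻¹ * (d * d') ∈ centralizer (K : Set X) := by
    have hE : ∀ e ∈ E, (d' * d)⁻¹ * (d * d') * e = e * ((d' * d)⁻¹ * (d * d')) := by
      intro e he
      have h1 := hd' e he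
      have h2 := hd' _ ((hd2 e).1 he)
      have h3 : d * d' * e * (d * d')⁻¹ = d' * d * e * (d' * d)⁻¹ := by
        calc d * d' * e * (d * d')⁻¹ = d * (d' * e) * d'⁻¹ * d⁻¹ := by group
          _ = d * (e * d') * d'⁻¹ * d⁻¹ := by rw [h1]
          _ = (d * e * d⁻¹) * d' * d'⁻¹ := by group
          _ = d' * (d * e * d⁻¹) * d'⁻¹ := by rw [← h2]
          _ = _ := by group
      calc (d' * d)⁻¹ * (d * d') * e = (d' * d)⁻¹ * (d * d' * e * (d * d')⁻¹) * (d * d') := by group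
        _ = (d' * d)⁻¹ * (d' * d * e * (d' * d)⁻¹) * (d * d') := by rw [h3]
        _ = _ := by group
    have hF : ∀ f ∈ F, (d' * d)⁻¹ * (d * d') * f = f * ((d' * d)⁻¹ * (d * d')) := by
      intro f hf
      have h1 := hdF f hf
      have h2 := hdF _ (h.F_conj' hE' hf)
      have h3 : d * d' * f * (d * d')⁻¹ = d' * d * f * (d' * d)⁻¹ := by
        calc d * d' * f * (d * d')⁻¹ = d * (d' * f * d'⁻¹) * d⁻¹ := by group
          _ = (d' * f * d'⁻¹) * d * d⁻¹ := by rw [h2]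
          _ = d' * (f * d) * d⁻¹ * d'⁻¹ := by group
          _ = d' * (d * f) * d⁻¹ * d'⁻¹ := by rw [h1]
          _ = _ := by group
      calc (d' * d)⁻¹ * (d * d') * f = (d' * d)⁻¹ * (d * d' * f * (d * d')⁻¹) * (d * d') := by group
        _ = (d' * d)⁻¹ * (d' * d * f * (d' * d)⁻¹) * (d * d') := by rw [h3]
        _ = _ := by group
    rw [mem_centralizer_iff]
    intro k hk
    obtain ⟨e, he, f, hf, rfl⟩ := h.KEF k hk
    rw [mul_assoc e f, ← hF f hf, ← mul_assoc, ← hE e he, mul_assoc]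
  rw [h.cen, mem_bot, inv_mul_eq_one] at hc
  exact hc.symm

end Sit

section quo

variable {T B K E F : Subgroup X} {lam : M} {N : Subgroup M} {X₁ : Type*} [Group X₁] {M₁ : Type*} [Group M₁]
  [MulDistribMulAction X₁ M₁] {a : YY T E →* X₁} {q : N →* M₁}

/-- the kernel of `a` is a 2-group -/
theorem ker_two [Finite X] (hQ : Quo T K E F a) {y : YY T E} (hy : a y = 1) : ∃ k : ℕ, y ^ (2 ^ k) = 1 := by
  obtain ⟨e, he, t, ht, h1⟩ := hQ.exists_mul y.2
  have hEn : (E.subgroupOf (YY T E)).Normal := ⟨fun x hx g => by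
    rw [mem_subgroupOf] at hx ⊢
    exact hQ.YY_conj g.2 hx⟩
  obtain ⟨k, hk⟩ := hQ.two ⟨t, ht.1⟩
  have hk' : t ^ (2 ^ k) = 1 := congrArg Subtype.val hk
  refine ⟨k, hQ.inj _ ?_ (by rw [map_pow, hy, one_pow])⟩
  have h3 : (QuotientGroup.mk' (E.subgroupOf (YY T E))) (y ^ (2 ^ k)) = 1 := by
    have h0 : (QuotientGroup.mk' (E.subgroupOf (YY T E))) ⟨e, E_le_YY he⟩ = 1 :=
      (QuotientGroup.eq_one_iff _).2 (mem_subgroupOf.2 he)
    have h4 : y = ⟨e, E_le_YY he⟩ * ⟨t, T1_le_YY ht⟩ := Subtype.ext h1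
    have h5 : (⟨t, T1_le_YY ht⟩ : YY T E) ^ (2 ^ k) = 1 := Subtype.ext hk'
    rw [map_pow, h4, map_mul, h0, one_mul, ← map_pow, h5, map_one]
  exact mem_subgroupOf.1 ((QuotientGroup.eq_one_iff _).1 h3)

/-- the module data of the quotient -/
structure QDat (T K E F : Subgroup X) (a : YY T E →* X₁) (N : Subgroup M) (q : N →* M₁) : Prop extends Quo T K E F a where
  aq : ∀ (y : YY T E) (n n' : N), (n' : M) = (y : X) • (n : M) → q n' = a y • q n
  qker : ∀ n : N, q n = 1 ↔ ∀ e ∈ E, e • (n : M) = n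

theorem mk_eq_iff (hQ : QDat T K E F a N q) {n n' : N} :
    q n' = q n ↔ ∀ e ∈ E, e • ((n' : M) * (n : M)⁻¹) = (n' : M) * (n : M)⁻¹ := by
  rw [← mul_inv_eq_one, ← map_inv, ← map_mul, hQ.qker]
  rfl

/-- an element of `Y` which fixes `q n` and has `[M,y] ≤ N` fixes `lam` -/
theorem fix_lam [Finite X] (h : Sit T B K E F lam N) (hQ : QDat T K E F a N q) {n : N}
    (hc : ∀ e ∈ E, e • ((n : M) * lam⁻¹) = (n : M) * lam⁻¹) {y : YY T E} (hy : (y : X) ∈ QN E N h.NN)
    (hyn : a y • q n = q n) : (y : X) • lam = lam := by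
  apply h.stab
  have hN : ((y : X) • lam) * lam⁻¹ ∈ N := (mem_QN.1 hy).2 lam
  have hyE := (mem_QN.1 hy).1
  have hn' : (y : X) • (n : M) ∈ N := h.NN _ (fun e he => (hyE e).1 he) _ n.2
  have h1 := hQ.aq y n ⟨_, hn'⟩ rfl
  rw [hyn, mk_eq_iff hQ] at h1
  have h2 : ∀ e ∈ E, e • (((y : X) • lam) * lam⁻¹) = ((y : X) • lam) * lam⁻¹ := by
    intro e he
    have h3 := h1 e he
    have h4 : e • ((y : X) • ((n : M) * lam⁻¹)) = (y : X) • ((n : M) * lam⁻¹) := by
      have h5 : (y : X)⁻¹ * e * y ∈ E := by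
        rw [hyE]
        have : (y : X) * ((y : X)⁻¹ * e * y) * (y : X)⁻¹ = e := by group
        rwa [this]
      have h6 := hc _ h5
      have h7 : e • ((y : X) • ((n : M) * lam⁻¹)) = (y : X) • (((y : X)⁻¹ * e * y) • ((n : M) * lam⁻¹)) := by
        rw [← mul_smul, ← mul_smul]
        congr 1
        group
      rw [h7, h6]
    -- `y lam lam⁻¹ = (y n n⁻¹) (y c)⁻¹ c`
    have e1 : ((y : X) • lam) * lam⁻¹ =
        (((y : X) • (n : M)) * (n : M)⁻¹) * ((y : X) • ((n : M) * lam⁻¹))⁻¹ * ((n : M) * lam⁻¹) := by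
      rw [smul_mul', smul_inv', mul_inv, inv_inv]
      have : ((y : X) • (n : M)) * (n : M)⁻¹ * (((y : X) • (n : M))⁻¹ * (y : X) • lam) * ((n : M) * lam⁻¹) =
          (((y : X) • (n : M)) * ((y : X) • (n : M))⁻¹) * ((n : M)⁻¹ * (n : M)) * (((y : X) • lam) * lam⁻¹) := by
        ac_rfl
      rw [this, mul_inv_cancel, inv_mul_cancel, one_mul, one_mul]
    rw [e1, smul_mul', smul_mul', smul_inv', h4, hc e he]
    congr 2
  intro k hk
  obtain ⟨e, he, f, hf, rfl⟩ := h.KEF k hk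
  rw [mul_smul, h.FN f hf _ hN, h2 e he]

/-- `x n n⁻¹ ∈ C_M(E)` for `x ∈ C_X(lam) ∩ N(E)` -/
theorem fix_n (h : Sit T B K E F lam N) {n : N} (hc : ∀ e ∈ E, e • ((n : M) * lam⁻¹) = (n : M) * lam⁻¹) {x : X}
    (hx : x • lam = lam) (hxE : ∀ e, e ∈ E ↔ x * e * x⁻¹ ∈ E) :
    ∀ e ∈ E, e • ((x • (n : M)) * (n : M)⁻¹) = (x • (n : M)) * (n : M)⁻¹ := by
  intro e he
  have h4 : e • (x • ((n : M) * lam⁻¹)) = x • ((n : M) * lam⁻¹) := by
    have h5 : x⁻¹ * e * x ∈ E := by
      rw [hxE]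
      have : x * (x⁻¹ * e * x) * x⁻¹ = e := by group
      rwa [this]
    have h6 := hc _ h5
    have h7 : e • (x • ((n : M) * lam⁻¹)) = x • ((x⁻¹ * e * x) • ((n : M) * lam⁻¹)) := by
      rw [← mul_smul, ← mul_smul]
      congr 1
      group
    rw [h7, h6]
  have e1 : (x • (n : M)) * (n : M)⁻¹ = (x • ((n : M) * lam⁻¹)) * ((n : M) * lam⁻¹)⁻¹ := by
    rw [smul_mul', smul_inv', hx, mul_inv, inv_inv]
    have : (x • (n : M)) * lam⁻¹ * ((n : M)⁻¹ * lam) = ((x • (n : M)) * (n : M)⁻¹) * (lam⁻¹ * lam) := by ac_rfl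
    rw [this, inv_mul_cancel, mul_one]
  rw [e1, smul_mul', smul_inv', h4, hc e he]

/-- `C_X(lam) ∩ N(E) ≤ F (Y ∩ a⁻¹(C(q n)))` -/
theorem exists_fy [Finite X] (h : Sit T B K E F lam N) (hQ : QDat T K E F a N q) {n : N}
    (hc : ∀ e ∈ E, e • ((n : M) * lam⁻¹) = (n : M) * lam⁻¹) {x : X} (hx : x • lam = lam)
    (hxE : ∀ e, e ∈ E ↔ x * e * x⁻¹ ∈ E) : ∃ f ∈ F, ∃ y : YY T E, x = f * y ∧ a y • q n = q n := by
  have hKn := h.Kn
  obtain ⟨k, hk, t, ht, rfl⟩ := mem_sup_of_normal_left.1 (h.gen ▸ mem_top x : x ∈ K ⊔ T)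
  obtain ⟨e, he, f, hf, rfl⟩ := h.KEF k hk
  have ht1 : t ∈ T1 T E := by
    rcases h.conj t ht with h1 | h1
    · exact h.mem_T1 ht h1
    · exfalso
      have hs := h.simple
      obtain ⟨g, hg⟩ := exists_ne (1 : E)
      apply hg
      have h2 : e * f * t * g * (e * f * t)⁻¹ ∈ F := by
        have h3 : e * f * t * g * (e * f * t)⁻¹ = (e * f) * (t * g * t⁻¹) * (e * f)⁻¹ := by group
        rw [h3]
        exact h.F_normalK hk (h1 g g.2)
      have h3 := h.iEF _ ((hxE g).1 g.2) h2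
      have h4 : (g : X) = 1 := by
        rw [mul_inv_eq_one] at h3
        exact mul_eq_left.1 h3
      exact Subtype.ext h4
  refine ⟨f, hf, ⟨e * t, mul_mem (E_le_YY he) (T1_le_YY ht1)⟩, ?_, ?_⟩
  · show e * f * t = f * (e * t)
    rw [h.cEF e he f hf, mul_assoc]
  · have hn' : (e * t) • (n : M) ∈ N :=
      h.NN _ (fun g hg => (Sit.YY_iff (mul_mem (E_le_YY he) (T1_le_YY ht1)) g).1 hg) _ n.2
    rw [← hQ.aq ⟨e * t, mul_mem (E_le_YY he) (T1_le_YY ht1)⟩ n ⟨_, hn'⟩ rfl, mk_eq_iff hQ]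
    have h1 := fix_n h hc hx hxE
    have h2 : (e * f * t) • (n : M) = (e * t) • (n : M) := by
      rw [h.cEF e he f hf, mul_assoc, mul_smul, h.FN f hf _ hn']
    rw [h2] at h1
    exact h1

/-- **the elements `y` of `Y` with `[M,y] ≤ N` and `a y ∈ O₂(C_{X₁}(m₁))`** -/
def PP (hN : ∀ x : X, (∀ e ∈ E, x * e * x⁻¹ ∈ E) → ∀ n ∈ N, x • n ∈ N) (a : YY T E →* X₁) (m₁ : M₁) : Subgroup X :=
  QN E N hN ⊓ Quo.pre a (o2 (MulAction.stabilizer X₁ m₁))

theorem mem_PP {hN : ∀ x : X, (∀ e ∈ E, x * e * x⁻¹ ∈ E) → ∀ n ∈ N, x • n ∈ N} {m₁ : M₁} {x : X} :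
    x ∈ PP hN a m₁ ↔ x ∈ QN E N hN ∧ ∃ y : YY T E, (y : X) = x ∧ a y ∈ o2 (MulAction.stabilizer X₁ m₁) := by
  constructor
  · rintro ⟨hx, y, hy, rfl⟩
    exact ⟨hx, y, rfl, hy⟩
  · rintro ⟨hx, y, rfl, hy⟩
    exact ⟨hx, y, hy, rfl⟩

theorem PP_two [Finite X] (hQ : Quo T K E F a) {hN : ∀ x : X, (∀ e ∈ E, x * e * x⁻¹ ∈ E) → ∀ n ∈ N, x • n ∈ N}
    {m₁ : M₁} : IsPGroup 2 (PP hN a m₁) := by
  rintro ⟨x, hx⟩
  obtain ⟨-, y, rfl, hy⟩ := mem_PP.1 hx
  obtain ⟨k, hk⟩ := o2_isPGroup (MulAction.stabilizer X₁ m₁) ⟨a y, hy⟩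
  have hk' : (a y) ^ (2 ^ k) = 1 := congrArg Subtype.val hk
  rw [← map_pow] at hk'
  obtain ⟨l, hl⟩ := ker_two hQ hk'
  refine ⟨k + l, Subtype.ext ?_⟩
  show (y : X) ^ (2 ^ (k + l)) = 1
  rw [pow_add, pow_mul]
  exact congrArg Subtype.val hl

/-- `C_X(lam) ∩ N(E)` normalises `PP` -/
theorem PP_conj [Finite X] (h : Sit T B K E F lam N) (hQ : QDat T K E F a N q) {n : N}
    (hc : ∀ e ∈ E, e • ((n : M) * lam⁻¹) = (n : M) * lam⁻¹) {z : X} (hz : z • lam = lam)
    (hzE : ∀ e, e ∈ E ↔ z * e * z⁻¹ ∈ E) {x : X} (hx : x ∈ PP h.NN a (q n)) :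
    z * x * z⁻¹ ∈ PP h.NN a (q n) := by
  obtain ⟨f, hf, y, rfl, hy⟩ := exists_fy h hQ hc hz hzE
  obtain ⟨hx1, w, rfl, hw⟩ := mem_PP.1 hx
  have h1 : (y : X) * w * (y : X)⁻¹ ∈ QN E N h.NN := by
    have hyE := Sit.YY_iff y.2
    have hwE := (mem_QN.1 hx1).1
    refine mem_QN.2 ⟨fun e => ?_, fun m => ?_⟩
    · have e1 : (y : X) * w * (y : X)⁻¹ * e * ((y : X) * w * (y : X)⁻¹)⁻¹ =
          (y : X) * (w * ((y : X)⁻¹ * e * y) * (w : X)⁻¹) * (y : X)⁻¹ := by group
      have e2 : (y : X) * ((y : X)⁻¹ * e * y) * (y : X)⁻¹ = e := by group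
      rw [e1, ← hyE, ← hwE, hyE ((y : X)⁻¹ * e * y), e2]
    · have h3 := h.NN (y : X) (fun e he => (hyE e).1 he) _ ((mem_QN.1 hx1).2 ((y : X)⁻¹ • m))
      rw [smul_mul', smul_inv', smul_inv_smul] at h3
      rwa [mul_smul, mul_smul]
  have h2 : f * (y : X) * w * (f * (y : X))⁻¹ = (y : X) * w * (y : X)⁻¹ := by
    have h3 := h.comm_F h1 hf
    calc f * (y : X) * w * (f * (y : X))⁻¹ = f * ((y : X) * w * (y : X)⁻¹) * f⁻¹ := by group
      _ = ((y : X) * w * (y : X)⁻¹) * f * f⁻¹ := by rw [h3]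
      _ = _ := by group
  rw [h2]
  refine mem_PP.2 ⟨h1, y * w * y⁻¹, rfl, ?_⟩
  rw [map_mul, map_mul, map_inv]
  exact (mem_normalizer_iff.1 (le_normalizer_o2 _ (show a y ∈ MulAction.stabilizer X₁ (q n) from hy)) _).1 hw

theorem PP_fix [Finite X] (h : Sit T B K E F lam N) (hQ : QDat T K E F a N q) {n : N}
    (hc : ∀ e ∈ E, e • ((n : M) * lam⁻¹) = (n : M) * lam⁻¹) : PP h.NN a (q n) ≤ MulAction.stabilizer X lam := by
  intro x hx
  obtain ⟨hx1, w, rfl, hw⟩ := mem_PP.1 hx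
  exact fix_lam h hQ hc hx1 (o2_le _ hw)

/-- **`PP ≤ O₂(C_X(lam))`** -/
theorem PP_le [Finite X] (h : Sit T B K E F lam N) (hQ : QDat T K E F a N q) {n : N}
    (hc : ∀ e ∈ E, e • ((n : M) * lam⁻¹) = (n : M) * lam⁻¹) :
    PP h.NN a (q n) ≤ o2 (MulAction.stabilizer X lam) := by
  obtain ⟨Z, hZ⟩ : ∃ Z, Z = MulAction.stabilizer X lam := ⟨_, rfl⟩
  have hZm : ∀ z, z ∈ Z ↔ z • lam = lam := fun z => by rw [hZ]; rfl
  obtain ⟨P, hP⟩ : ∃ P : Subgroup X, P = PP h.NN a (q n) := ⟨_, rfl⟩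
  rw [← hZ, ← hP]
  have hPZ : P ≤ Z := by rw [hP, hZ]; exact PP_fix h hQ hc
  have hP2 : IsPGroup 2 P := by rw [hP]; exact PP_two hQ.toQuo
  -- two conjugates
  have hnorm1 : ∀ z ∈ Z, ∀ x ∈ cj z P, x ∈ normalizer (P : Set X) := by
    intro z hz x hx
    rcases h.dich z with h1 | h1
    · refine le_normalizer ?_
      have hx1 := mem_cj.1 hx
      rw [hP] at hx1 ⊢
      have h2 := PP_conj h hQ hc ((hZm z).1 hz) h1 hx1
      have h3 : z * (z⁻¹ * x * z) * z⁻¹ = x := by group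
      rwa [h3] at h2
    · -- `z⁻¹` moves `E` into `F`, too
      have h1' : ∀ e ∈ E, z⁻¹ * e * z ∈ F := by
        rcases h.dich z⁻¹ with h2 | h2
        · exfalso
          have hs := h.simple
          obtain ⟨g, hg⟩ := exists_ne (1 : E)
          apply hg
          have h3 := h1 g g.2
          have h4 : z * g * z⁻¹ ∈ E := by
            rw [h2]
            have : z⁻¹ * (z * g * z⁻¹) * z⁻¹⁻¹ = g := by group
            rw [this]
            exact g.2
          have h5 := h.iEF _ h4 h3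
          rw [mul_inv_eq_one] at h5
          exact Subtype.ext (mul_eq_left.1 h5)
        · intro e he
          have := h2 e he
          rwa [inv_inv] at this
      have hx1 := mem_cj.1 hx
      rw [hP] at hx1
      have hx2 := (mem_PP.1 hx1).1
      -- `x` centralises `E`
      have hxE : ∀ e ∈ E, x * e = e * x := by
        intro e he
        have h3 := h.comm_F hx2 (h1' e he)
        calc x * e = z * ((z⁻¹ * x * z) * (z⁻¹ * e * z)) * z⁻¹ := by group
          _ = z * ((z⁻¹ * e * z) * (z⁻¹ * x * z)) * z⁻¹ := by rw [h3]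
          _ = _ := by group
      have hcen : ∀ d ∈ P, d * x = x * d := by
        intro d hd
        rw [hP] at hd
        exact h.comm_of (mem_PP.1 hd).1 hxE
      rw [mem_normalizer_iff]
      intro d
      constructor
      · intro hd
        rw [← hcen d hd, mul_inv_cancel_right]
        exact hd
      · intro hd
        have h3 := hcen _ hd
        have h4 : d = x * d * x⁻¹ := by
          have h5 : x * (x * d * x⁻¹) = x * d := by rw [← h3]; group
          exact (mul_left_cancel h5).symm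
        rw [h4]
        exact hd
  have hnorm : ∀ z ∈ Z, ∀ z' ∈ Z, cj z' P ≤ normalizer (cj z P : Set X) := by
    intro z hz z' hz' x hx
    rw [normalizer_cj, mem_cj]
    apply hnorm1 (z⁻¹ * z') (mul_mem (inv_mem hz) hz')
    rw [mem_cj] at hx ⊢
    have : (z⁻¹ * z')⁻¹ * (z⁻¹ * x * z) * (z⁻¹ * z') = z'⁻¹ * x * z' := by group
    rwa [this]
  let R : Subgroup X := ⨆ z : Z, cj (z : X) P
  have hRZ : R ≤ Z := by
    refine iSup_le fun z => ?_
    intro x hx
    have h1 := hPZ (mem_cj.1 hx)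
    have h2 := mul_mem (mul_mem z.2 h1) (inv_mem z.2)
    have h3 : (z : X) * ((z : X)⁻¹ * x * z) * (z : X)⁻¹ = x := by group
    rwa [h3] at h2
  have hle : ∀ z : Z, cj (z : X) P ≤ R := fun z => le_iSup (fun z : Z => cj (z : X) P) z
  have hR2 : R ≤ o2 R := by
    refine iSup_le fun z => le_o2 (hle z) (hP2.map _) ?_
    exact iSup_le fun z' => hnorm z z.2 z' z'.2
  have hRp : IsPGroup 2 R := (o2_isPGroup R).to_le hR2
  have hRn : Z ≤ normalizer (R : Set X) := by
    have key : ∀ z ∈ Z, R ≤ cj z⁻¹ R := by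
      intro z hz
      refine iSup_le fun w => ?_
      rw [← cj_le_iff, cj_cj]
      exact hle ⟨z * w, mul_mem hz w.2⟩
    intro z hz
    rw [mem_normalizer_iff]
    intro x
    constructor
    · intro hx
      have h1 := mem_cj.1 (key z hz hx)
      rwa [inv_inv] at h1
    · intro hx
      have h1 := mem_cj.1 (key z⁻¹ (inv_mem hz) hx)
      have h2 : z⁻¹⁻¹⁻¹ * (z * x * z⁻¹) * z⁻¹⁻¹ = x := by group
      rwa [h2] at h1
  have h1 : R ≤ o2 Z := le_o2 hRZ hRp hRn
  have h2 := (hle ⟨1, one_mem _⟩).trans h1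
  rw [show ((⟨1, one_mem _⟩ : Z) : X) = 1 from rfl, cj_one] at h2
  exact h2

theorem im_cj {g : YY T E} (B : Subgroup X) : im a (cj (g : X) B) = cj (a g) (im a B) := by
  ext x
  rw [mem_im, mem_cj, mem_im]
  constructor
  · rintro ⟨y, hy, rfl⟩
    refine ⟨g⁻¹ * y * g, mem_cj.1 hy, ?_⟩
    rw [map_mul, map_mul, map_inv]
  · rintro ⟨y, hy, h1⟩
    refine ⟨g * y * g⁻¹, ?_, ?_⟩
    · rw [mem_cj]
      have : (g : X)⁻¹ * ((g * y * g⁻¹ : YY T E) : X) * g = y := by
        rw [Subgroup.coe_mul, Subgroup.coe_mul, Subgroup.coe_inv]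
        group
      rwa [this]
    · rw [map_mul, map_mul, map_inv, h1]
      group

/-- **a `Y`-conjugate `C` of `B` with `a(C) ≤ O₂(C_{X₁}(m₁))` lies in `O₂(C_X(lam))`** -/
theorem cj_le [Finite X] (h : Sit T B K E F lam N) (hQ : QDat T K E F a N q) {n : N}
    (hc : ∀ e ∈ E, e • ((n : M) * lam⁻¹) = (n : M) * lam⁻¹) {g : YY T E}
    (hg : cj (a g) (im a B) ≤ o2 (MulAction.stabilizer X₁ (q n))) :
    cj (g : X) B ≤ o2 (MulAction.stabilizer X lam) := by
  refine le_trans ?_ (PP_le h hQ hc)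
  intro x hx
  have hb := mem_cj.1 hx
  have hgE := Sit.YY_iff g.2
  have hbY : (g : X)⁻¹ * x * g ∈ YY T E := T1_le_YY (h.BE _ hb)
  have hxY : x ∈ YY T E := by
    have h1 := mul_mem (mul_mem g.2 hbY) (inv_mem g.2)
    have h2 : (g : X) * ((g : X)⁻¹ * x * g) * (g : X)⁻¹ = x := by group
    rwa [h2] at h1
  refine mem_PP.2 ⟨mem_QN.2 ⟨Sit.YY_iff hxY, fun m => ?_⟩, ⟨x, hxY⟩, rfl, ?_⟩
  · have h3 := h.NN (g : X) (fun e he => (hgE e).1 he) _ (h.MB _ hb ((g : X)⁻¹ • m))
    rw [smul_mul', smul_inv', smul_inv_smul, ← mul_smul, ← mul_smul] at h3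
    have h4 : (g : X) * ((g : X)⁻¹ * x * g) * (g : X)⁻¹ = x := by group
    rwa [h4] at h3
  · apply hg
    rw [← im_cj]
    exact apply_mem_im (y := ⟨x, hxY⟩) hx

/-- **(LA) through RED.** -/
theorem la [Finite X] [Finite M] (h : Sit T B K E F lam N) (hQ : QDat T K E F a N q) (hla : LA X M T B lam) :
    ∃ (n : M) (hn : n ∈ N), (∀ e ∈ E, e • (n * lam⁻¹) = n * lam⁻¹) ∧
      LA X₁ M₁ (im a (T1 T E)) (im a B) (q ⟨n, hn⟩) := by
  have hKn := h.Kn
  obtain ⟨n, hn, hc⟩ := h.exists_n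
  refine ⟨n, hn, hc, ?_, ?_, ?_⟩
  · rintro _ ⟨t, ht, rfl⟩
    have hn' : (t : X) • n ∈ N := h.NN _ (fun e he => (Sit.T1_iff ht e).1 he) _ hn
    rw [← hQ.aq t ⟨n, hn⟩ ⟨_, hn'⟩ rfl, mk_eq_iff hQ]
    exact fix_n (n := ⟨n, hn⟩) h hc (h.fixT _ ht.1) (Sit.T1_iff ht)
  · intro h1
    have h2 := (hQ.qker _).1 h1
    have h3 : ∀ e ∈ E, e • lam = lam := by
      intro e he
      have h4 := hc e he
      rw [smul_mul', h2 e he, smul_inv', mul_right_inj, inv_inj] at h4
      exact h4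
    apply h.ne
    have h4 : K ≤ MulAction.stabilizer X lam := h.KE.trans (by
      rw [closure_le]
      rintro _ ⟨t, ht, e, he, rfl⟩
      show (t * e * t⁻¹) • lam = lam
      rw [mul_smul, mul_smul, h.fixT _ (inv_mem ht), h3 e he, h.fixT _ ht])
    rw [eq_top_iff, ← h.gen]
    exact sup_le h4 h.fixT
  · intro g₁ hg R hR hRt
    obtain ⟨g, rfl⟩ := hQ.surj g₁
    have h1 := cj_le (n := ⟨n, hn⟩) h hQ hc hg
    have h2 := hla.low g h1
    have hTs : T ≤ MulAction.stabilizer X lam := h.fixT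
    have h3 : o2 (MulAction.stabilizer X lam) ≤ T := o2_le_of_sylow h.two fun h4 => h.syl (h4.trans
      ⟨_, (relIndex_mul_index hTs).symm⟩)
    have h4 : cj (g : X) B ≤ T1 T E := by
      intro x hx
      refine ⟨h3 (h1 hx), ?_⟩
      have hb := mem_cj.1 hx
      have hbY : (g : X)⁻¹ * x * g ∈ YY T E := T1_le_YY (h.BE _ hb)
      have hxY : x ∈ YY T E := by
        have h1 := mul_mem (mul_mem g.2 hbY) (inv_mem g.2)
        have h2 : (g : X) * ((g : X)⁻¹ * x * g) * (g : X)⁻¹ = x := by group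
        rwa [h2] at h1
      exact mem_normalizer_iff.2 (Sit.YY_iff hxY)
    rw [← im_cj]
    exact hQ.low₁ h4 h2 hR hRt

end quo

end Cfsg.Agent.Omega.ML.Ex.RedLA

end

section


/-!
# (LA) through RED, for the section `Sc` (helper451)

* `CmpM.MB` : `[M,B] ≤ N`;  `CmpM.sit` : the situation of `RedLA`;
* **`Sc.la`** : `LA X M T B lam → ∃ m₁, LA X₁ M₁ K₁ T₁ B₁ m₁` for `M₁ = N / C_N(K₁)`.
-/

set_option autoImplicit false
set_option linter.style.haveILetI false
set_option linter.unusedVariables false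

namespace Cfsg.Agent.Omega.ML.Ex.Red

open Subgroup Cfsg Cfsg.Agent.ZN Cfsg.Agent.Omega.NOThree.NoOver Cfsg.Agent.Omega.ML.CD
open Cfsg.Agent.ClassTwoFusion.Quad Cfsg.Agent.Omega.ML.MinFrame Cfsg.Agent.Omega.ML.Ex.SecLow

universe u v w

variable {X : Type u} [Group X] {M : Type v} [CommGroup M] [MulDistribMulAction X M] {T B K E : Subgroup X} {lam : M}

/-- **`[M,B] ≤ N`** -/
theorem CmpM.MB (h : CmpM T B K E lam) [Finite M] : ∀ b ∈ B, ∀ m : M, (b • m) * m⁻¹ ∈ cm M E := by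
  have h1 : (cv M (B : Set X)).relIndex (cm M E) = (cv M (B : Set X)).index := by rw [h.exactN, h.cmp.mn.exact]
  have h2 : cm M E ⊔ cv M (B : Set X) = ⊤ := by
    have h3 : (cv M (B : Set X)).relIndex (cm M E ⊔ cv M (B : Set X)) = (cv M (B : Set X)).relIndex (cm M E) :=
      relIndex_sup_right _ _
    have h4 := relIndex_mul_index (le_sup_right : cv M (B : Set X) ≤ cm M E ⊔ cv M (B : Set X))
    rw [h3, h1] at h4
    have h5 : (cv M (B : Set X)).index ≠ 0 := index_ne_zero_of_finite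
    rw [← index_eq_one]
    exact Nat.eq_of_mul_eq_mul_left (Nat.pos_of_ne_zero h5) (by rw [h4, mul_one])
  intro b hb m
  obtain ⟨n, hn, v, hv, rfl⟩ := mem_sup.1 (h2 ▸ mem_top m : m ∈ cm M E ⊔ cv M (B : Set X))
  have h3 : b • v = v := hv b hb
  have h4 : (b • (n * v)) * (n * v)⁻¹ = (b • n) * n⁻¹ := by
    rw [smul_mul', h3, mul_inv]
    have : (b • n) * v * (n⁻¹ * v⁻¹) = (b • n) * n⁻¹ * (v * v⁻¹) := by ac_rfl
    rw [this, mul_inv_cancel, mul_one]
  rw [h4]
  have h5 : n⁻¹ = n := inv_eq_of_mul_eq_one_right (h.cmp.mn.sq n)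
  have h6 : b • n ∈ cm M E := smul_mem_cm (h.cmp.BE hb) hn
  exact mul_mem h6 (inv_mem hn)

/-- **The situation of `RedLA`.** -/
theorem CmpM.sit (h : CmpM T B K E lam) [Finite X] [Finite M] :
    RedLA.Sit T B K E (K ⊓ centralizer (E : Set X)) lam (cm M E) where
  toCp := h.cmp.cp
  sq := h.cmp.mn.sq
  faith := h.cmp.mn.faith
  cen := h.cmp.cenK
  core := fun _ hL h2 => h.cmp.mn.o2_eq_bot hL h2
  syl := h.cmp.mn.syl
  fixT := h.cmp.mn.fixT
  ne := h.cmp.mn.stab_ne_top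
  NN := fun x hx n hn => by
    refine smul_mem_cm ?_ hn
    have h2 : E.map (MulAut.conj x).toMonoidHom = E := by
      apply Subgroup.eq_of_le_of_card_ge
      · rintro _ ⟨e, he, rfl⟩
        exact hx e he
      · rw [card_map_of_injective (MulAut.conj x).injective]
    rw [mem_normalizer_iff]
    intro y
    refine ⟨hx y, fun hy => ?_⟩
    have h3 : x * y * x⁻¹ ∈ E.map (MulAut.conj x).toMonoidHom := by rw [h2]; exact hy
    obtain ⟨e, he, he2⟩ := h3
    have h4 : e = y := (MulAut.conj x).injective he2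
    exact h4 ▸ he
  FN := fun f hf n hn => h.cenN f hf.1 hf.2 n hn
  BE := fun b hb => h.cmp.B_le hb
  MB := h.MB
  lamE := fun e he => by
    have h1 : lam⁻¹ = lam := inv_eq_of_mul_eq_one_right (h.cmp.mn.sq lam)
    rw [h1]
    exact h.orbE e he

namespace Sc

variable {X₁ : Type w} [Group X₁] [MulDistribMulAction X₁ (cm M E)] {a : YY T E →* X₁}

/-- the module data -/
theorem qdat (h : Sc T B K E lam a) [Finite X] :
    haveI := h.inN0.ck_normal
    letI := modAct (H := X₁) (InN.ck (cm M E) (im a E)) h.inN0.smul_mem_ck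
    RedLA.QDat T K E (K ⊓ centralizer (E : Set X)) a (cm M E)
      (QuotientGroup.mk' (InN.ck (cm M E) (im a E))) := by
  haveI := h.inN0.ck_normal
  letI := modAct (H := X₁) (InN.ck (cm M E) (im a E)) h.inN0.smul_mem_ck
  exact
    { toQuo := h.quo
      aq := fun y n n' hn => by
        have h1 : n' = a y • n := Subtype.ext (by rw [hn, h.act])
        rw [h1]
        rfl
      qker := fun n => by
        rw [QuotientGroup.mk'_apply, QuotientGroup.eq_one_iff]
        constructor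
        · intro h1 e he
          have h2 := congrArg Subtype.val (h1 (a ⟨e, E_le_YY he⟩) (apply_mem_im (y := ⟨e, E_le_YY he⟩) he))
          rw [h.act] at h2
          exact h2
        · rintro h1 _ ⟨y, hy, rfl⟩
          apply Subtype.ext
          rw [h.act]
          exact h1 y hy }

/-- **(LA) through RED** -/
theorem la (h : Sc T B K E lam a) [Finite X] [Finite M] (hl : LA X M T B lam) :
    haveI := h.inN0.ck_normal
    letI := modAct (H := X₁) (InN.ck (cm M E) (im a E)) h.inN0.smul_mem_ck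
    ∃ m₁, LA X₁ (cm M E ⧸ InN.ck (cm M E) (im a E)) (im a (T1 T E)) (im a B) m₁ := by
  haveI := h.inN0.ck_normal
  letI := modAct (H := X₁) (InN.ck (cm M E) (im a E)) h.inN0.smul_mem_ck
  obtain ⟨n, hn, -, h1⟩ := RedLA.la h.cmpM.sit h.qdat hl
  exact ⟨_, h1⟩

end Sc

end Cfsg.Agent.Omega.ML.Ex.Red

end

section


/-!
# `PsRed` of `Ex/LA.lean` from THEOREM RED (helper844)

* `PsR.wd` : the W-side;
* **`psRed`** : `MLK → PsRed`.
-/

set_option autoImplicit false
set_option linter.unusedSectionVars false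
set_option linter.style.haveILetI false

namespace Cfsg.Agent.Omega.ML.Ex

open Subgroup Cfsg Cfsg.Agent.ZN Cfsg.Agent.Omega.NOThree.NoOver
open Cfsg.Agent.ClassTwoFusion.Quad Cfsg.Agent.Omega.ML.MinFrame Cfsg.Agent.Omega.ML.Ex.SecLow
open Cfsg.Agent.Omega.ML.Ex.Red (Mn CmpM Wd Sc cm)

universe u v w x

section

variable {X : Type u} [Group X] {M : Type v} [CommGroup M] [MulDistribMulAction X M] {W : Type w} [CommGroup W]
    [MulDistribMulAction X W] {T B : Subgroup X} {p : W →* M} {m : M}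

theorem PsR.wd (P : PsR T B p m) : Wd T p where
  sq := P.sq
  eqv := P.eqv
  surj := P.surj
  ker := P.ker
  fixT := P.fixT

end

/-- a simple K-group -/
theorem known_of_simple {S : Type u} [Group S] (hs : IsSimpleGroup S) (hna : ¬ IsMulCommutative S) (hK : IsKGroup S) :
    IsKnownSimple' S := by
  let e : (⊤ : Subgroup S) ⧸ (⊥ : Subgroup (⊤ : Subgroup S)) ≃* S :=
    (QuotientGroup.quotientBot).trans Subgroup.topEquiv
  exact OddHalf.Known.isKnownSimple'_congr e (Final.not_comm_congr e.symm hna)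
    (hK ⊤ ⊥ (Final.simple_congr e.symm hs) (Final.not_comm_congr e.symm hna))

/-- **`PsRed`** -/
theorem psRed (hML : Final.MLK.{u, v}) : PsRed.{u, v, w} := by
  intro X _ _ M _ _ _ W _ _ _ T B p m P
  obtain ⟨K, E, h, -⟩ := P.mn.exists_cmpMB hML P.known
  letI := h.qact
  have hs := h.sc
  have hfX : Finite h.Xq := Finite.of_surjective _ (QuotientGroup.mk'_surjective h.rep.ker)
  have hKG1 : IsKGroup h.Xq := Final.kgroup_of_surj P.known (YY T E) (QuotientGroup.mk' h.rep.ker)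
    (QuotientGroup.mk'_surjective _)
  have hN := hs.inN0.inN hML hKG1
  have hI := hN.inX
  have hL := hs.la P.la
  haveI := hN.ck_normal
  letI := modAct (H := h.Xq) (InN.ck (cm M E) (im (QuotientGroup.mk' h.rep.ker) E)) hN.smul_mem_ck
  have hd := hs.dat P.wd
  letI := hd.inst
  have hwp := hd.wpart
  rw [hs.im_T] at hwp
  obtain ⟨m₁, hm₁⟩ := hL
  refine ⟨h.Xq, inferInstance, hfX, cm M E ⧸ InN.ck (cm M E) (im (QuotientGroup.mk' h.rep.ker) E), inferInstance,
    inferInstance, inferInstance, _, inferInstance, inferInstance, hd.inst, _, _, _, _, m₁, hI, hwp, hm₁, ?_⟩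
  refine known_of_simple hI.simple ?_ (Final.kgroup_of_surj hKG1 _ (MonoidHom.id _) fun x => ⟨x, rfl⟩)
  intro h3
  have hsi := hI.simple
  have h4 : im (QuotientGroup.mk' h.rep.ker) E ≤ centralizer (im (QuotientGroup.mk' h.rep.ker) E : Set h.Xq) := by
    intro x hx
    rw [mem_centralizer_iff]
    intro z hz
    exact congrArg Subtype.val (h3.is_comm.comm (⟨z, hz⟩ : im (QuotientGroup.mk' h.rep.ker) E) ⟨x, hx⟩)
  rw [hI.cen, le_bot_iff] at h4
  obtain ⟨x, hx⟩ := exists_ne (1 : im (QuotientGroup.mk' h.rep.ker) E)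
  exact hx (Subtype.ext (mem_bot.1 (h4 ▸ x.2)))

end Cfsg.Agent.Omega.ML.Ex

end

section


/-!
# Diagram automorphisms and the nodes left by the WALL THEOREM (helper530; #22477, #23457 (2))

* `sig_M` : `M (σ i) (σ j) = M i j` for the permutation `σ` of the nodes induced by `h ∈ H`;
* `sigB`, `sigF` : type `B_l`, `l ≥ 3`: `σ = 1`; type `F₄`: `σ = 1` or `σ = ` the flip;
* `LLT A T L` : `L` is proper and `T`-invariant;
* `left_laced`, `left_B`, `left_F` : if `i ∉ J₀` is not good, then (simply laced) there is no such `J₀`;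
  (`B_l`, `l ≥ 3`) `J₀ = {k | k ≠ 0}`; (`F₄`) `J₀ = {1, 2}` and `T` induces the flip.
-/

set_option autoImplicit false
set_option linter.unusedSectionVars false

namespace Cfsg.Agent.Omega.ML.Ex.WallSig

open Cfsg.Agent.Tits.Core Cfsg.Agent.Tits Cfsg.Agent.FixBN.Cox Cfsg.Agent.Omega.ML.LieRow
  Cfsg.Agent.Omega.ML.Ex.WallGood

/-! ### The permutation of the nodes -/

/-- The permutation of the nodes preserves the Coxeter matrix. -/
theorem sig_M {I : Type*} {M : CoxeterMatrix I} {W : Type*} [Group W] {cs : CoxeterSystem M W} {C : Type*}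
    {Δ : Bldg cs C} {H : Type*} [Group H] {K : Subgroup H} [MulAction K C] [Finite I] [Finite W] (A : HAct Δ K)
    (h : H) (i j : I) : M (A.σ h i) (A.σ h j) = M i j := by
  rw [← Generic.orderOf_eq cs, ← Generic.orderOf_eq cs, ← A.φ_simple, ← A.φ_simple, ← map_mul]
  exact MulEquiv.orderOf_eq _ _

theorem injective_of_M {I : Type*} {M : CoxeterMatrix I} {s : I → I} (hs : ∀ i j, M (s i) (s j) = M i j) :
    Function.Injective s := by
  intro i j e
  by_contra hij
  have h1 := hs i j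
  rw [e, M.diagonal] at h1
  exact M.off_diagonal i j hij h1.symm

theorem B_apply {n : ℕ} {i j : Fin n} (hij : i ≠ j) : CoxeterMatrix.B n i j =
    if (i : ℕ) = n - 1 ∧ (j : ℕ) = n - 2 ∨ (j : ℕ) = n - 1 ∧ (i : ℕ) = n - 2
      then 4 else (if (j : ℕ) + 1 = i ∨ (i : ℕ) + 1 = j then 3 else 2) := by
  show (if i = j then 1 else _) = _
  rw [if_neg hij]

/-- **Type `B_l`, `l ≥ 3`**: there are no diagram automorphisms. -/
theorem sigB {l : ℕ} (hl : 3 ≤ l) {s : Fin l → Fin l}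
    (hs : ∀ i j, CoxeterMatrix.B l (s i) (s j) = CoxeterMatrix.B l i j) (i : Fin l) : s i = i := by
  have hinj := injective_of_M hs
  set a : Fin l := ⟨l - 1, by omega⟩ with ha
  set b : Fin l := ⟨l - 2, by omega⟩ with hb
  set c : Fin l := ⟨l - 3, by omega⟩ with hc
  have hab : a ≠ b := by rw [Ne, Fin.ext_iff]; simp only [ha, hb]; omega
  have hcb : c ≠ b := by rw [Ne, Fin.ext_iff]; simp only [hb, hc]; omega
  have h1 : CoxeterMatrix.B l a b = 4 := by
    rw [B_apply hab, if_pos]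
    left; exact ⟨rfl, rfl⟩
  have h2 : CoxeterMatrix.B l c b = 3 := by
    rw [B_apply hcb, if_neg, if_pos]
    · right; simp only [hb, hc]; omega
    · simp only [hb, hc]; omega
  have h3 := hs a b
  rw [h1, B_apply (fun e => hab (hinj e))] at h3
  have hsab : (s a = a ∧ s b = b) ∨ (s b = a ∧ s a = b) := by
    have h4 : (s a : ℕ) = l - 1 ∧ (s b : ℕ) = l - 2 ∨ (s b : ℕ) = l - 1 ∧ (s a : ℕ) = l - 2 := by
      by_contra h4
      rw [if_neg h4] at h3
      split_ifs at h3 <;> omega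
    rcases h4 with ⟨h5, h6⟩ | ⟨h5, h6⟩
    · left; exact ⟨Fin.ext h5, Fin.ext h6⟩
    · right; exact ⟨Fin.ext h5, Fin.ext h6⟩
  have hab' : s a = a ∧ s b = b := by
    rcases hsab with h4 | ⟨h4, h5⟩
    · exact h4
    · exfalso
      have h6 := hs c b
      have h7 : s c ≠ a := fun e => hcb (hinj (e.trans h4.symm))
      rw [h2, h4, B_apply h7] at h6
      have h8 := (s c).2
      have h9 : (s c : ℕ) ≠ l - 1 := fun e => h7 (Fin.ext e)
      have ha' : (a : ℕ) = l - 1 := rfl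
      split_ifs at h6 <;> omega
  -- downward induction
  have key : ∀ d : ℕ, ∀ k : Fin l, (k : ℕ) + d + 1 = l → s k = k ∧ ((h : (k : ℕ) + 1 < l) → s ⟨k + 1, h⟩ = ⟨k + 1, h⟩) := by
    intro d
    induction d with
    | zero =>
      intro k hk
      have hka : k = a := Fin.ext (by simp only [ha]; omega)
      exact ⟨by rw [hka]; exact hab'.1, fun h => by omega⟩
    | succ d ih =>
      intro k hk
      obtain ⟨i1, i2⟩ := ih ⟨(k : ℕ) + 1, by omega⟩ (by simp only; omega)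
      refine ⟨?_, fun _ => i1⟩
      by_cases hd : d = 0
      · have hkb : k = b := Fin.ext (by simp only [hb]; omega)
        rw [hkb]; exact hab'.2
      set k' : Fin l := ⟨(k : ℕ) + 1, by omega⟩ with hk'
      have hne : k ≠ k' := by rw [Ne, Fin.ext_iff]; simp only [hk']; omega
      have h4 : CoxeterMatrix.B l k k' = 3 := by
        rw [B_apply hne, if_neg, if_pos]
        · right; simp only [hk']
        · simp only [hk']; omega
      have h5 := hs k k'
      have h6 : s k ≠ k' := fun e => hne (hinj (e.trans i1.symm))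
      rw [i1, h4, B_apply h6] at h5
      have h7 : (s k : ℕ) ≠ (k : ℕ) + 2 := by
        intro e
        have h8 := i2 (by simp only [hk']; have := (s k).2; omega)
        have h9 : s k = ⟨(k' : ℕ) + 1, by simp only [hk']; have := (s k).2; omega⟩ := Fin.ext (by simp only [hk']; omega)
        have h10 := hinj (h9.trans h8.symm)
        rw [Fin.ext_iff] at h10
        simp only [hk'] at h10
        omega
      apply Fin.ext
      simp only [hk'] at h5
      split_ifs at h5 <;> omega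
  exact (key (l - i - 1) i (by have := i.2; omega)).1

/-- The flip of `F₄`. -/
def flip (i : Fin 4) : Fin 4 := ![3, 2, 1, 0] i

set_option backward.isDefEq.respectTransparency false in
theorem sigF_aux : ∀ a b c d : Fin 4, CoxeterMatrix.F₄ a b = 3 → CoxeterMatrix.F₄ b c = 4 →
    CoxeterMatrix.F₄ c d = 3 → (a = 0 ∧ b = 1 ∧ c = 2 ∧ d = 3) ∨ (a = 3 ∧ b = 2 ∧ c = 1 ∧ d = 0) := by
  decide +kernel

/-- **Type `F₄`**: the identity and the flip. -/
theorem sigF {s : Fin 4 → Fin 4} (hs : ∀ i j, CoxeterMatrix.F₄ (s i) (s j) = CoxeterMatrix.F₄ i j) :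
    (∀ i, s i = i) ∨ ∀ i, s i = flip i := by
  have hcase : ∀ i : Fin 4, i = 0 ∨ i = 1 ∨ i = 2 ∨ i = 3 := by decide
  rcases sigF_aux (s 0) (s 1) (s 2) (s 3) (hs 0 1) (hs 1 2) (hs 2 3) with ⟨h0, h1, h2, h3⟩ | ⟨h0, h1, h2, h3⟩
  · left
    intro i
    rcases hcase i with rfl | rfl | rfl | rfl <;> assumption
  · right
    intro i
    rcases hcase i with rfl | rfl | rfl | rfl
    · rw [h0]; rfl
    · rw [h1]; rfl
    · rw [h2]; rfl
    · rw [h3]; rfl

/-! ### The nodes left -/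

section Left

variable {I W : Type*} [Group W] {M : CoxeterMatrix I} (cs : CoxeterSystem M W) {J₀ : Set I} {Sg : Set (I → I)}

/-- `L` is proper and invariant under the permutations in `Sg`. -/
def LS (Sg : Set (I → I)) (L : Set I) : Prop := L ≠ Set.univ ∧ ∀ s ∈ Sg, ∀ i ∈ L, s i ∈ L

/-- **Simply laced**: nothing is left. -/
theorem left_laced [Finite I] [Finite W] (hM : ∀ i j, i ≠ j → M i j = 2 ∨ M i j = 3) (hJ : LS Sg J₀) {i : I}
    (hi : ∃ L, LS Sg L ∧ i ∈ L) (hg : ¬ Good cs J₀ (LS Sg) i) : False :=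
  hg (good_of_laced hM hJ hi)

end Left

/-- **Type `B_l`, `l ≥ 3`**: only the complement of the first node is left. -/
theorem left_B {l : ℕ} (hl : 3 ≤ l) {W : Type*} [Group W] (cs : CoxeterSystem (CoxeterMatrix.B l) W)
    {J₀ : Set (Fin l)} {Sg : Set (Fin l → Fin l)}
    (hs : ∀ s ∈ Sg, ∀ i j, CoxeterMatrix.B l (s i) (s j) = CoxeterMatrix.B l i j) {i : Fin l} (hi : i ∉ J₀)
    (hg : ¬ Good cs J₀ (LS Sg) i) : J₀ = {k : Fin l | (k : ℕ) ≠ 0} := by
  by_contra hne
  refine hg (goodB cs hl ?_ hi hne)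
  intro L hL
  refine ⟨hL, fun s hsS i hi => ?_⟩
  rwa [sigB hl (hs s hsS) i]

/-- **Type `F₄`**: only `J₀ = {1, 2}`, with the flip, is left. -/
theorem left_F {W : Type*} [Group W] (cs : CoxeterSystem CoxeterMatrix.F₄ W) {J₀ : Set (Fin 4)}
    {Sg : Set (Fin 4 → Fin 4)} (hs : ∀ s ∈ Sg, ∀ i j, CoxeterMatrix.F₄ (s i) (s j) = CoxeterMatrix.F₄ i j)
    (hJ : LS Sg J₀) (hg : ∃ i, i ∉ J₀) (hb : ∀ i, i ∉ J₀ → ¬ Good cs J₀ (LS Sg) i) :
    J₀ = {1, 2} ∧ ∃ s ∈ Sg, ∀ i, s i = flip i := by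
  obtain ⟨i₀, hi₀⟩ := hg
  have hcase : ∀ i : Fin 4, i = 0 ∨ i = 1 ∨ i = 2 ∨ i = 3 := by decide
  by_cases hall : ∀ s ∈ Sg, ∀ i, s i = i
  · exfalso
    refine hb i₀ hi₀ (goodF cs ?_ hi₀)
    intro L hL
    refine ⟨hL, fun s hsS i hi => ?_⟩
    rwa [hall s hsS i]
  push Not at hall
  obtain ⟨s, hsS, k, hk⟩ := hall
  have hflip : ∀ i, s i = flip i := by
    rcases sigF (hs s hsS) with h1 | h1
    · exact absurd (h1 k) hk
    · exact h1
  have hinv : ∀ L : Set (Fin 4), L ≠ Set.univ → (∀ i ∈ L, flip i ∈ L) → LS Sg L := by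
    intro L hL hf
    refine ⟨hL, fun s' hs' i hi => ?_⟩
    rcases sigF (hs s' hs') with h1 | h1
    · rwa [h1 i]
    · rw [h1 i]; exact hf i hi
  have h03 : LS Sg {0, 3} := by
    apply hinv
    · intro h1
      have : (1 : Fin 4) ∈ ({0, 3} : Set (Fin 4)) := by rw [h1]; trivial
      simp at this
    · intro i hi
      rcases hi with rfl | hi
      · right; rfl
      · rw [Set.mem_singleton_iff] at hi; subst hi; left; rfl
  have h12 : LS Sg {1, 2} := by
    apply hinv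
    · intro h1
      have : (0 : Fin 4) ∈ ({1, 2} : Set (Fin 4)) := by rw [h1]; trivial
      simp at this
    · intro i hi
      rcases hi with rfl | hi
      · right; rfl
      · rw [Set.mem_singleton_iff] at hi; subst hi; left; rfl
  have hJf : ∀ i ∈ J₀, flip i ∈ J₀ := fun i hi => by rw [← hflip i]; exact hJ.2 s hsS i hi
  refine ⟨?_, s, hsS, hflip⟩
  have e0 : (0 : Fin 4) ∈ J₀ ↔ (3 : Fin 4) ∈ J₀ := ⟨fun h => hJf 0 h, fun h => hJf 3 h⟩
  have e1 : (1 : Fin 4) ∈ J₀ ↔ (2 : Fin 4) ∈ J₀ := ⟨fun h => hJf 1 h, fun h => hJf 2 h⟩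
  by_cases c0 : (0 : Fin 4) ∈ J₀
  · by_cases c1 : (1 : Fin 4) ∈ J₀
    · exfalso
      apply hJ.1
      rw [Set.eq_univ_iff_forall]
      intro i
      rcases hcase i with rfl | rfl | rfl | rfl
      · exact c0
      · exact c1
      · exact e1.1 c1
      · exact e0.1 c0
    · exfalso
      have hJ' : J₀ = {0, 3} := by
        ext i
        rcases hcase i with rfl | rfl | rfl | rfl
        · simp [c0]
        · simp [c1]
        · simp [← e1, c1]
        · simp [← e0, c0]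
      subst hJ'
      exact hb 1 c1 (goodF_graph cs h03 h12 (Or.inl rfl))
  · by_cases c1 : (1 : Fin 4) ∈ J₀
    · ext i
      rcases hcase i with rfl | rfl | rfl | rfl
      · simp [c0]
      · simp [c1]
      · simp [← e1, c1]
      · simp [← e0, c0]
    · exfalso
      refine hb 0 c0 ?_
      intro w hw j hj
      exfalso
      rcases hcase j with rfl | rfl | rfl | rfl
      · exact c0 hj
      · exact c1 hj
      · exact c1 (e1.2 hj)
      · exact c0 (e0.2 hj)

end Cfsg.Agent.Omega.ML.Ex.WallSig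

end

section


/-!
# The row `U₃(3)` for two `T`-fixed vectors: the count (helper119)

* `UThreeCount.card_le` : `1 ≠ N` a normal 2-subgroup of `R ≤ SU₃(3)` ⟹ `|R| ≤ 144`;
* `sylow_normalizer` : a Sylow 2-subgroup of `SU₃(3)` is its own normalizer;
* **`eq_of_fixed`** : `InX H M K T A`, `K = SU₃(3)`, `|M| ≤ 64` ⟹ `|C_M(T)| ≤ 2`.
-/

set_option autoImplicit false

namespace Cfsg.Agent.Omega.KL.UThreeCount

open Matrix Subgroup Cfsg
open Cfsg.Agent.Classification.RTwo.UThreeThree (K9 card_k9 card_k9' IsGood psuEquiv center_SU)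
open Cfsg.Agent.OddHalf.Small.U33
open Cfsg.Agent.OddHalf.D4.Small.KU33
open Cfsg.Agent.OddHalf.D6.RThree.U33

section abs

/-! ### 2-local subgroups -/

variable {G : Type*} [Group G] [Finite G] {t : G}

theorem card_le_of {R O : Subgroup G} (ht1 : t ≠ 1) (ht : t ∈ O) (hn : ∀ r ∈ R, ∀ e ∈ O, r * e * r⁻¹ ∈ O)
    (h4 : Nat.card O ≤ 4) (h96 : Nat.card (centralizer ({t} : Set G)) ≤ 96)
    (hV : (∀ g, g * t = t * g → ∀ e ∈ O, g * e * g⁻¹ ∈ O) → ∀ e ∈ O, e = 1 ∨ e = t) : Nat.card R ≤ 144 := by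
  classical
  set C : Subgroup G := R ⊓ centralizer {t} with hC
  have hCR : C ≤ R := inf_le_left
  have hcc : C ≤ centralizer {t} := inf_le_right
  -- the orbit of `t`
  let X := {e : G // e ∈ O ∧ e ≠ 1}
  have hX : Nat.card X + 1 ≤ Nat.card O := by
    let f : Option X → O := fun o => match o with
      | none => 1
      | some e => ⟨e.1, e.2.1⟩
    have hf : Function.Injective f := by
      intro a b hab
      rcases a with _ | a <;> rcases b with _ | b
      · rfl
      · exact absurd (congrArg Subtype.val hab).symm b.2.2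
      · exact absurd (congrArg Subtype.val hab) a.2.2
      · exact congrArg some (Subtype.ext (show (a.1 : G) = b.1 from congrArg (fun w : O => (w : G)) hab))
    have h := Nat.card_le_card_of_injective f hf
    rwa [Finite.card_option] at h
  have hrel : C.relIndex R ≤ Nat.card X := by
    let f : R → X := fun r => ⟨r * t * (r : G)⁻¹, hn r r.2 t ht, fun h => ht1 (by
      calc t = (r : G)⁻¹ * (r * t * (r : G)⁻¹) * r := by group
        _ = 1 := by rw [h]; group)⟩
    have hfi : ∀ a b : R, f a = f b → (QuotientGroup.mk a : R ⧸ C.subgroupOf R) = QuotientGroup.mk b := by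
      intro a b hab
      refine QuotientGroup.eq.2 ?_
      have h1 : (a : G) * t * (a : G)⁻¹ = b * t * (b : G)⁻¹ := congrArg Subtype.val hab
      refine mem_subgroupOf.2 ⟨(a⁻¹ * b).2, mem_centralizer_iff.2 ?_⟩
      intro z hz
      rw [Set.mem_singleton_iff.1 hz]
      show t * ((a : G)⁻¹ * b) = (a : G)⁻¹ * b * t
      calc t * ((a : G)⁻¹ * b) = (a : G)⁻¹ * (a * t * (a : G)⁻¹) * b := by group
        _ = (a : G)⁻¹ * (b * t * (b : G)⁻¹) * b := by rw [h1]
        _ = (a : G)⁻¹ * b * t := by group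
    let F : (R ⧸ C.subgroupOf R) → X := fun q => f q.out
    have hF : Function.Injective F := by
      intro p q hpq
      have := hfi _ _ hpq
      rwa [QuotientGroup.out_eq', QuotientGroup.out_eq'] at this
    exact Nat.card_le_card_of_injective F hF
  have hcard : Nat.card R = Nat.card C * C.relIndex R := by
    have h1 := (C.subgroupOf R).card_mul_index
    have h2 : Nat.card (C.subgroupOf R) = Nat.card C := Nat.card_congr (subgroupOfEquivOfLe hCR).toEquiv
    rw [h2] at h1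
    exact h1.symm
  by_cases hO : ∀ e ∈ O, e = 1 ∨ e = t
  · -- `|O| = 2`
    have h1 : Nat.card X ≤ 1 := by
      have : Subsingleton X := ⟨fun a b => Subtype.ext
        (((hO a.1 a.2.1).resolve_left a.2.2).trans ((hO b.1 b.2.1).resolve_left b.2.2).symm)⟩
      exact Finite.card_le_one_iff_subsingleton.2 this
    have h2 : Nat.card C ≤ 96 := (card_le_of_le hcc).trans h96
    rw [hcard]
    calc Nat.card C * C.relIndex R ≤ 96 * 1 := Nat.mul_le_mul h2 (hrel.trans h1)
      _ ≤ 144 := by norm_num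
  · -- `|O| = 4`
    have h1 : Nat.card X ≤ 3 := by omega
    have h2 : 2 * Nat.card C ≤ Nat.card (centralizer ({t} : Set G)) := by
      have hne : C ≠ centralizer {t} := by
        intro h3
        refine hO (hV fun g hg e he => hn g (hCR (h3 ▸ mem_centralizer_iff.2 ?_)) e he)
        intro z hz
        rw [Set.mem_singleton_iff.1 hz]
        exact hg.symm
      have h4 : Nat.card C * C.relIndex (centralizer {t}) = Nat.card (centralizer ({t} : Set G)) := by
        have h5 := (C.subgroupOf (centralizer {t})).card_mul_index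
        have h6 : Nat.card (C.subgroupOf (centralizer {t})) = Nat.card C :=
          Nat.card_congr (subgroupOfEquivOfLe hcc).toEquiv
        rw [h6] at h5
        exact h5
      have h5 : C.relIndex (centralizer {t}) ≠ 1 := fun h6 => hne (le_antisymm hcc (relIndex_eq_one.1 h6))
      have h6 : C.relIndex (centralizer {t}) ≠ 0 := by
        intro h7
        rw [h7, mul_zero] at h4
        exact Nat.card_pos.ne h4
      rw [← h4, mul_comm 2]
      exact Nat.mul_le_mul_left _ (by omega)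
    rw [hcard]
    calc Nat.card C * C.relIndex R ≤ 48 * 3 := Nat.mul_le_mul (by omega) (hrel.trans h1)
      _ ≤ 144 := by norm_num

/-- the elements of `Z(N)` of order at most 2 -/
def Om (N : Subgroup G) : Subgroup G where
  carrier := {u | u ∈ N ∧ u * u = 1 ∧ ∀ v ∈ N, u * v = v * u}
  mul_mem' := by
    rintro a b ⟨ha, ha2, hac⟩ ⟨hb, hb2, hbc⟩
    refine ⟨mul_mem ha hb, ?_, fun v hv => ?_⟩
    · calc a * b * (a * b) = a * (b * a) * b := by group
        _ = a * (a * b) * b := by rw [← hac b hb]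
        _ = (a * a) * (b * b) := by group
        _ = 1 := by rw [ha2, hb2, one_mul]
    · rw [mul_assoc, hbc v hv, ← mul_assoc, hac v hv, mul_assoc]
  one_mem' := ⟨one_mem _, one_mul _, fun v _ => by rw [one_mul, mul_one]⟩
  inv_mem' := by
    rintro a ⟨ha, ha2, hac⟩
    have h3 : a⁻¹ = a := inv_eq_of_mul_eq_one_right ha2
    show a⁻¹ ∈ N ∧ a⁻¹ * a⁻¹ = 1 ∧ ∀ v ∈ N, a⁻¹ * v = v * a⁻¹
    rw [h3]
    exact ⟨ha, ha2, hac⟩

omit [Finite G] in
theorem Om_conj {R N : Subgroup G} (hn : ∀ r ∈ R, ∀ n ∈ N, r * n * r⁻¹ ∈ N) : ∀ r ∈ R, ∀ e ∈ Om N, r * e * r⁻¹ ∈ Om N := by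
  rintro r hr e ⟨he, he2, hec⟩
  refine ⟨hn r hr e he, ?_, fun v hv => ?_⟩
  · calc r * e * r⁻¹ * (r * e * r⁻¹) = r * (e * e) * r⁻¹ := by group
      _ = 1 := by rw [he2]; group
  · have h3 : r⁻¹ * v * r ∈ N := by
      have := hn r⁻¹ (inv_mem hr) v hv
      rwa [inv_inv] at this
    calc r * e * r⁻¹ * v = r * (e * (r⁻¹ * v * r)) * r⁻¹ := by group
      _ = r * (r⁻¹ * v * r * e) * r⁻¹ := by rw [hec _ h3]
      _ = v * (r * e * r⁻¹) := by group

theorem Om_ne {N : Subgroup G} (h2 : IsPGroup 2 N) (h1 : N ≠ ⊥) : ∃ u ∈ Om N, u ≠ 1 := by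
  have hnt : Nontrivial N := (nontrivial_iff_ne_bot N).2 h1
  have : Fact (Nat.Prime 2) := ⟨Nat.prime_two⟩
  have hc : Nontrivial (center N) := h2.center_nontrivial
  have hc2 : 2 ∣ Nat.card (center N) := by
    obtain ⟨k, hk⟩ := IsPGroup.iff_card.1 (h2.to_subgroup (center N))
    rw [hk]
    refine dvd_pow_self 2 ?_
    rintro rfl
    have h3 : Nat.card (center N) = 1 := by rw [hk, pow_zero]
    exact (Finite.one_lt_card (α := center N)).ne' h3
  obtain ⟨c, hc⟩ := exists_prime_orderOf_dvd_card' 2 hc2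
  have hcc : c * c = 1 := by
    rw [← pow_two, ← hc]
    exact pow_orderOf_eq_one c
  refine ⟨((c : N) : G), ⟨(c : N).2, ?_, fun v hv => ?_⟩, fun h3 => ?_⟩
  · exact congrArg (fun w : center N => ((w : N) : G)) hcc
  · exact (congrArg Subtype.val (mem_center_iff.1 c.2 ⟨v, hv⟩)).symm
  · have h4 : c = 1 := Subtype.ext (Subtype.ext h3)
    rw [h4, orderOf_one] at hc
    omega

theorem card_le_abs (ht1 : t ≠ 1) (h4 : ∀ O : Subgroup G, t ∈ O → (∀ e ∈ O, e * e = 1) → Nat.card O ≤ 4)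
    (h96 : Nat.card (centralizer ({t} : Set G)) ≤ 96)
    (hV : ∀ O : Subgroup G, (∀ e ∈ O, e * e = 1) → t ∈ O → (∀ g, g * t = t * g → ∀ e ∈ O, g * e * g⁻¹ ∈ O) →
      ∀ e ∈ O, e = 1 ∨ e = t)
    (hconj : ∀ s : G, s * s = 1 → s ≠ 1 → ∃ g, g⁻¹ * s * g = t) {R N : Subgroup G}
    (hn : ∀ r ∈ R, ∀ n ∈ N, r * n * r⁻¹ ∈ N) (h2 : IsPGroup 2 N) (h1 : N ≠ ⊥) : Nat.card R ≤ 144 := by
  obtain ⟨u, hu, hu1⟩ := Om_ne h2 h1
  obtain ⟨g, hg⟩ := hconj u hu.2.1 hu1
  set φ : G ≃* G := MulAut.conj g⁻¹ with hφ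
  have hφa : ∀ w, φ w = g⁻¹ * w * g := fun w => by rw [hφ, MulAut.conj_apply, inv_inv]
  have hel : ∀ e ∈ (Om N).map φ.toMonoidHom, e * e = 1 := by
    rintro _ ⟨e, he, rfl⟩
    show φ e * φ e = 1
    rw [← map_mul, he.2.1, map_one]
  have ht : t ∈ (Om N).map φ.toMonoidHom := ⟨u, hu, by
    show φ u = t
    rw [hφa, hg]⟩
  have h3 := card_le_of (R := R.map φ.toMonoidHom) (O := (Om N).map φ.toMonoidHom) ht1 ht
    (by
      rintro _ ⟨r, hr, rfl⟩ _ ⟨e, he, rfl⟩
      refine ⟨r * e * r⁻¹, Om_conj hn r hr e he, ?_⟩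
      show φ (r * e * r⁻¹) = φ r * φ e * (φ r)⁻¹
      rw [map_mul, map_mul, map_inv]) (h4 _ ht hel) h96 (hV _ hel ht)
  rwa [card_map_of_injective φ.injective] at h3

/-- `n` normalises `S` ⟹ `n` centralises the unique involution of `Z(S)` -/
theorem comm_of_norm {S : Subgroup G} (ht1 : t ≠ 1) (ht2 : t * t = 1) (htS : t ∈ S) (htc : ∀ s ∈ S, s * t = t * s)
    (hu : ∀ y ∈ S, y * y = 1 → y ≠ 1 → (∀ s ∈ S, y * s = s * y) → y = t) {n : G} (hn : ∀ s ∈ S, n * s * n⁻¹ ∈ S) :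
    n * t = t * n := by
  have hn' : ∀ s ∈ S, n⁻¹ * s * n ∈ S := by
    intro s hs
    have h1 : S.map (MulAut.conj n).toMonoidHom ≤ S := by
      rintro _ ⟨t, ht, rfl⟩
      exact hn t ht
    have h2 : S.map (MulAut.conj n).toMonoidHom = S := by
      refine eq_of_le_of_card_ge h1 ?_
      rw [card_map_of_injective (MulAut.conj n).injective]
    obtain ⟨t, ht, hts⟩ := h2.symm ▸ hs
    have h3 : n * t * n⁻¹ = s := hts
    rw [← h3]
    have h4 : n⁻¹ * (n * t * n⁻¹) * n = t := by group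
    rwa [h4]
  have h1 : n * t * n⁻¹ = t := by
    refine hu _ (hn t htS) ?_ ?_ ?_
    · calc n * t * n⁻¹ * (n * t * n⁻¹) = n * (t * t) * n⁻¹ := by group
        _ = 1 := by rw [ht2]; group
    · intro h9
      apply ht1
      calc t = n⁻¹ * (n * t * n⁻¹) * n := by group
        _ = 1 := by rw [h9]; group
    · intro s hs
      have h1 := htc _ (hn' s hs)
      calc n * t * n⁻¹ * s = n * (t * (n⁻¹ * s * n)) * n⁻¹ := by group
        _ = n * (n⁻¹ * s * n * t) * n⁻¹ := by rw [h1]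
        _ = s * (n * t * n⁻¹) := by group
  exact mul_inv_eq_iff_eq_mul.1 h1

end abs

section kfact

/-- no four-group over `t0` is normalised by `C(t0)` -/
theorem no_four {E : Subgroup SU33} (el : ∀ e ∈ E, e * e = 1) (ht : t0 ∈ E)
    (hn : ∀ g, g * t0 = t0 * g → ∀ e ∈ E, g * e * g⁻¹ ∈ E) : ∀ e ∈ E, e = 1 ∨ e = t0 := by
  have hinv : ∀ z ∈ E, z⁻¹ = z := fun z hz => inv_eq_of_mul_eq_one_right (el z hz)
  have hcomm : ∀ x ∈ E, ∀ y ∈ E, x * y = y * x := by
    intro x hx y hy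
    calc x * y = (x * y)⁻¹ := (hinv _ (E.mul_mem hx hy)).symm
      _ = y⁻¹ * x⁻¹ := mul_inv_rev _ _
      _ = y * x := by rw [hinv _ hx, hinv _ hy]
  intro e he
  by_contra hcon
  push Not at hcon
  have h1 := ML.Ex.RowU33W.comm_ga (hcomm e he t0 ht) (el e he) hcon.1 hcon.2
  have h2 := hn ga ga_t0 e he
  rw [hcomm e he _ h2, mul_assoc, mul_assoc, mul_inv_cancel_left, mul_inv_cancel] at h1
  exact t0_ne h1.symm

theorem conj_t0 (s : SU33) (h1 : s * s = 1) (h2 : s ≠ 1) : ∃ g, g⁻¹ * s * g = t0 := ML.Ex.RowU33W.exists_conj h1 h2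

/-- the parameters of the elements of `C(t0)` -/
abbrev Par : Type := {q : (ZMod 3 × ZMod 3) × (ZMod 3 × ZMod 3) × (ZMod 3 × ZMod 3) //
  (⟨q.1.1, q.1.2⟩ : K9) * cj ⟨q.1.1, q.1.2⟩ = 1 ∧
    (⟨q.2.1.1, q.2.1.2⟩ : K9) * cj ⟨q.2.1.1, q.2.1.2⟩ + ⟨q.2.2.1, q.2.2.2⟩ * cj ⟨q.2.2.1, q.2.2.2⟩ = 1}

theorem card_par : Fintype.card Par = 96 := by decide +kernel

/-- `|C(t0)| ≤ 96` -/
theorem card_cent : Nat.card (centralizer ({t0} : Set SU33)) ≤ 96 := by
  have hc : ∀ x : centralizer ({t0} : Set SU33), (x : SU33) * t0 = t0 * x := fun x =>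
    (mem_centralizer_iff.1 x.2 t0 rfl).symm
  let f : centralizer ({t0} : Set SU33) → Par := fun x =>
    ⟨(((mt x 0 0).re, (mt x 0 0).im), ((mt x 1 1).re, (mt x 1 1).im), ((mt x 1 2).re, (mt x 1 2).im)),
      (param (hc x)).1, (param (hc x)).2.2.2⟩
  have hf : Function.Injective f := by
    intro x y h
    have h0 := congrArg Subtype.val h
    have h00 : mt x 0 0 = mt y 0 0 := QuadraticAlgebra.ext (congrArg (fun q => q.1.1) h0) (congrArg (fun q => q.1.2) h0)
    have h11 : mt x 1 1 = mt y 1 1 :=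
      QuadraticAlgebra.ext (congrArg (fun q => q.2.1.1) h0) (congrArg (fun q => q.2.1.2) h0)
    have h12 : mt x 1 2 = mt y 1 2 :=
      QuadraticAlgebra.ext (congrArg (fun q => q.2.2.1) h0) (congrArg (fun q => q.2.2.2) h0)
    obtain ⟨-, x21, x22, -⟩ := param (hc x)
    obtain ⟨-, y21, y22, -⟩ := param (hc y)
    obtain ⟨x01, x02, x10, x20⟩ := pattern (hc x)
    obtain ⟨y01, y02, y10, y20⟩ := pattern (hc y)
    refine Subtype.ext (mt_ext (Matrix.ext fun i j => ?_))
    fin_cases i <;> fin_cases j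
    · exact h00
    · exact x01.trans y01.symm
    · exact x02.trans y02.symm
    · exact x10.trans y10.symm
    · exact h11
    · exact h12
    · exact x20.trans y20.symm
    · exact (x21.trans (by rw [h00, h12])).trans y21.symm
    · exact (x22.trans (by rw [h00, h11])).trans y22.symm
  have h := Nat.card_le_card_of_injective f hf
  rwa [Nat.card_eq_fintype_card (α := Par), card_par] at h

/-- **2-local subgroups have order at most 144** (the truth is 96). -/
theorem card_le {R N : Subgroup SU33} (hn : ∀ r ∈ R, ∀ n ∈ N, r * n * r⁻¹ ∈ N) (h2 : IsPGroup 2 N)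
    (h1 : N ≠ ⊥) : Nat.card R ≤ 144 := by
  have hfin : Finite SU33 := finite_SU33
  exact card_le_abs t0_ne (fun O h3 h4 => Cfsg.Agent.Omega.ML.RowU33.inner_le h3 h4) card_cent
    (fun O h3 h4 h5 => no_four h3 h4 h5) conj_t0 hn h2 h1

/-! ### the normalizer of a Sylow 2-subgroup -/

/-- `diag(i, 1, -i)` -/
def eM : Matrix (Fin 3) (Fin 3) K9 := !![⟨0, 1⟩, 0, 0; 0, 1, 0; 0, 0, ⟨0, 2⟩]

theorem eM_good : IsGood eM := by decide +kernel

/-- `diag(i, 1, -i)` in `SU₃(3)` -/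
def ee : SU33 := eM_good.su

theorem mt_ee : mt ee = eM := rfl

theorem ee_mem : ee ∈ S := ⟨comm_iff.mpr ⟨rfl, rfl, rfl, rfl⟩, Or.inr rfl⟩

theorem gj_mem : gj ∈ S := ⟨comm_of_inQ j_mem, Or.inr rfl⟩

theorem gi_mem : gi ∈ S := ⟨comm_of_inQ i_mem, Or.inl rfl⟩

theorem norm_aux : ∀ a1 a2 b1 b2 d1 d2 u1 u2 : ZMod 3,
    (⟨a1, a2⟩ : K9) * cj ⟨a1, a2⟩ + ⟨b1, b2⟩ * cj ⟨b1, b2⟩ = 1 → (⟨d1, d2⟩ : K9) * cj ⟨d1, d2⟩ = 1 →
    (⟨a1, a2⟩ : K9) = ⟨u1, u2⟩ * (-(cj ⟨d1, d2⟩ * cj ⟨b1, b2⟩)) →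
    (⟨b1, b2⟩ : K9) * ⟨0, 2⟩ = ⟨u1, u2⟩ * (cj ⟨d1, d2⟩ * cj ⟨a1, a2⟩) → False := by
  decide +kernel

theorem norm_aux2 : ∀ a1 a2 b1 b2 u1 u2 : ZMod 3, (⟨a1, a2⟩ : K9) = ⟨u1, u2⟩ * ⟨a1, a2⟩ →
    (⟨b1, b2⟩ : K9) * ⟨0, 2⟩ = ⟨u1, u2⟩ * ⟨b1, b2⟩ → (⟨a1, a2⟩ : K9) = 0 ∨ (⟨b1, b2⟩ : K9) = 0 := by
  decide +kernel

theorem scal_aux : ∀ a1 a2 d1 d2 : ZMod 3, (⟨a1, a2⟩ : K9) * ⟨a1, a2⟩ = 1 →
    (⟨d1, d2⟩ : K9) * (⟨a1, a2⟩ * ⟨a1, a2⟩) = 1 → (⟨d1, d2⟩ : K9) = 1 := by
  decide +kernel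

/-- the unique involution of `Z(S)` -/
theorem eq_t0_of {y : SU33} (hyS : y ∈ S) (hyy : y * y = 1) (hy1 : y ≠ 1) (hyc : ∀ s ∈ S, y * s = s * y) :
    y = t0 := by
  obtain ⟨h12, h21, h11⟩ := scalar_of hyS.1 (hyc gi gi_mem) (hyc gj gj_mem)
  obtain ⟨h01, h02, h10, h20⟩ := pattern hyS.1
  have h5 : mt y 1 1 * mt y 1 1 = 1 := by
    have h6 := congrArg (fun w : SU33 => mt w 1 1) hyy
    simp only [mt_mul_apply, h10, h12] at h6
    rw [mt_one] at h6
    simpa using h6
  have h6 : mt y 0 0 * (mt y 1 1 * mt y 1 1) = 1 := by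
    have hdet := det_eq y
    rw [Matrix.det_fin_three, h01, h02, h10, h20, h12, h21, ← h11] at hdet
    linear_combination hdet
  have h7 : mt y 0 0 = 1 := by
    generalize mt y 0 0 = d at h6
    generalize mt y 1 1 = a at h5 h6
    obtain ⟨d1, d2⟩ := d
    obtain ⟨a1, a2⟩ := a
    exact scal_aux a1 a2 d1 d2 h5 h6
  have h8 : mt y *ᵥ (Pi.single 0 1) = Pi.single 0 1 := by
    funext i
    rw [Matrix.mulVec_single_one]
    fin_cases i
    · simpa using h7
    · simpa using h10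
    · simpa using h20
  exact eq_t0 hyy hy1 h8

theorem mem_of_ee {n s : SU33} (hnt : n * t0 = t0 * n) (hs : s ∈ S) (hse : n * ee = s * n) : n ∈ S := by
  refine ⟨hnt, ?_⟩
  obtain ⟨h00, h21, h22, h11⟩ := param hnt
  obtain ⟨h01, h02, h10, h20⟩ := pattern hnt
  obtain ⟨s01, s02, s10, s20⟩ := pattern hs.1
  have e11 : mt n 1 1 = mt s 1 1 * mt n 1 1 + mt s 1 2 * mt n 2 1 := by
    have h1 := congrArg (fun w : SU33 => mt w 1 1) hse
    simp only [mt_mul_apply, s10, mt_ee] at h1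
    have k0 : eM 0 1 = 0 := rfl
    have k1 : eM 1 1 = 1 := rfl
    have k2 : eM 2 1 = 0 := rfl
    rw [k0, k1, k2] at h1
    linear_combination h1
  have e12 : mt n 1 2 * ⟨0, 2⟩ = mt s 1 1 * mt n 1 2 + mt s 1 2 * mt n 2 2 := by
    have h1 := congrArg (fun w : SU33 => mt w 1 2) hse
    simp only [mt_mul_apply, s10, mt_ee] at h1
    have k0 : eM 0 2 = 0 := rfl
    have k1 : eM 1 2 = 0 := rfl
    have k2 : eM 2 2 = ⟨0, 2⟩ := rfl
    rw [k0, k1, k2] at h1
    linear_combination h1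
  rcases hs.2 with h | h
  · exfalso
    rw [h, zero_mul, zero_add] at e11 e12
    rw [h21] at e11
    rw [h22] at e12
    generalize mt n 0 0 = d at h00 e11 e12
    generalize mt n 1 1 = a at h11 e11 e12
    generalize mt n 1 2 = b at h11 e11 e12
    generalize mt s 1 2 = u at e11 e12
    obtain ⟨d1, d2⟩ := d
    obtain ⟨a1, a2⟩ := a
    obtain ⟨b1, b2⟩ := b
    obtain ⟨u1, u2⟩ := u
    exact norm_aux a1 a2 b1 b2 d1 d2 u1 u2 h11 h00 e11 e12
  · rw [h, zero_mul, add_zero] at e11 e12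
    generalize mt n 1 1 = a at e11
    generalize mt n 1 2 = b at e12
    generalize mt s 1 1 = u at e11 e12
    obtain ⟨a1, a2⟩ := a
    obtain ⟨b1, b2⟩ := b
    obtain ⟨u1, u2⟩ := u
    exact norm_aux2 a1 a2 b1 b2 u1 u2 e11 e12

theorem t0_mem : t0 ∈ S := ⟨rfl, Or.inr rfl⟩

/-- `N(S) = S` -/
theorem norm_S {n : SU33} (hn : ∀ s ∈ S, n * s * n⁻¹ ∈ S) : n ∈ S := by
  have hfin : Finite SU33 := finite_SU33
  refine mem_of_ee (comm_of_norm t0_ne t0_t0 t0_mem (fun s hs => hs.1) (fun y h1 h2 h3 h4 => eq_t0_of h1 h2 h3 h4) hn)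
    (hn ee ee_mem) ?_
  rw [inv_mul_cancel_right]

end kfact

section sylow

open scoped Pointwise

theorem exists_conj_sylow {G : Type*} [Group G] [Finite G] {P Q R : Subgroup G} (hP : IsPGroup 2 P)
    (hQ : IsPGroup 2 Q) (hPR : P ≤ R) (hQR : Q ≤ R) (hPi : ¬ 2 ∣ P.index) (hQi : ¬ 2 ∣ Q.index) :
    ∃ r ∈ R, (∀ p ∈ P, r * p * r⁻¹ ∈ Q) ∧ ∀ q ∈ Q, r⁻¹ * q * r ∈ P := by
  have : Fact (Nat.Prime 2) := ⟨Nat.prime_two⟩
  have h1 : ¬ 2 ∣ (P.subgroupOf R).index := fun h => hPi (h.trans (Dvd.intro _ (relIndex_mul_index hPR)))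
  have h2 : ¬ 2 ∣ (Q.subgroupOf R).index := fun h => hQi (h.trans (Dvd.intro _ (relIndex_mul_index hQR)))
  have h3 : IsPGroup 2 (P.subgroupOf R) := hP.comap_subtype
  have h4 : IsPGroup 2 (Q.subgroupOf R) := hQ.comap_subtype
  obtain ⟨r, hr⟩ := MulAction.exists_smul_eq R (h3.toSylow h1) (h4.toSylow h2)
  have hr' : MulAut.conj r • (P.subgroupOf R) = Q.subgroupOf R := congrArg (fun S : Sylow 2 R => (S : Subgroup R)) hr
  refine ⟨r, r.2, fun p hp => ?_, fun q hq => ?_⟩
  · have h5 : MulAut.conj r • (⟨p, hPR hp⟩ : R) ∈ MulAut.conj r • (P.subgroupOf R) :=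
      Subgroup.smul_mem_pointwise_smul _ _ _ (mem_subgroupOf.2 hp)
    rw [hr'] at h5
    exact h5
  · have h5 : (⟨q, hQR hq⟩ : R) ∈ MulAut.conj r • (P.subgroupOf R) := by
      rw [hr']
      exact mem_subgroupOf.2 hq
    obtain ⟨p, hp, hpq⟩ := h5
    have h6 : (r : G) * p * (r : G)⁻¹ = q := congrArg Subtype.val hpq
    have h7 : (r : G)⁻¹ * q * r = p := by rw [← h6]; group
    rw [h7]
    exact hp

/-- `|G : R| = |K : K ∩ R|` if `G = KR` -/
theorem relIndex_eq {G : Type*} [Group G] [Finite G] {K R : Subgroup G} [K.Normal] (h : K ⊔ R = ⊤) :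
    R.relIndex K = R.index := by
  have h1 : K.relIndex R = K.index := by
    rw [← relIndex_sup_right R K, sup_comm, h, relIndex_top_right]
  have h2 := K.card_mul_index
  have h3 := R.card_mul_index
  have h4 : Nat.card ↥(K ⊓ R) * K.relIndex R = Nat.card R := by
    have h5 := relIndex_mul_relIndex (⊥ : Subgroup G) (K ⊓ R) R bot_le inf_le_right
    rwa [relIndex_bot_left, relIndex_bot_left, inf_relIndex_right] at h5
  have h5 : Nat.card ↥(K ⊓ R) * R.relIndex K = Nat.card K := by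
    have h5 := relIndex_mul_relIndex (⊥ : Subgroup G) (K ⊓ R) K bot_le inf_le_left
    rwa [relIndex_bot_left, relIndex_bot_left, inf_relIndex_left] at h5
  have h6 : 0 < K.index := Nat.pos_of_ne_zero index_ne_zero_of_finite
  have h7 : 0 < Nat.card ↥(K ⊓ R) := Nat.card_pos
  have h8 : (Nat.card ↥(K ⊓ R) * K.index) * R.relIndex K = (Nat.card ↥(K ⊓ R) * K.index) * R.index := by
    calc (Nat.card ↥(K ⊓ R) * K.index) * R.relIndex K = (Nat.card ↥(K ⊓ R) * R.relIndex K) * K.index := by ring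
      _ = Nat.card R * R.index := by rw [h5, h2, h3]
      _ = (Nat.card ↥(K ⊓ R) * K.index) * R.index := by rw [← h4, h1]
  exact Nat.eq_of_mul_eq_mul_left (Nat.mul_pos h7 h6) h8

/-- **Sylow 2-subgroups of `SU₃(3)` are self-normalizing.** -/
theorem sylow_normalizer {P : Subgroup SU33} (h2 : IsPGroup 2 P) (hi : ¬ 2 ∣ P.index) {n : SU33}
    (hn : ∀ p ∈ P, n * p * n⁻¹ ∈ P) : n ∈ P := by
  have hfin : Finite SU33 := finite_SU33
  have hS : ¬ 2 ∣ (S : Subgroup SU33).index := fun h => by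
    have := odd_S
    rw [← Nat.not_even_iff_odd, even_iff_two_dvd] at this
    exact this h
  obtain ⟨r, -, h3, h4⟩ := exists_conj_sylow isPGroup_S h2 le_top le_top hS hi
  have h5 : r⁻¹ * n * r ∈ S := by
    refine norm_S fun s hs => ?_
    have h6 := h4 _ (hn _ (h3 s hs))
    have h7 : r⁻¹ * (n * (r * s * r⁻¹) * n⁻¹) * r = r⁻¹ * n * r * s * (r⁻¹ * n * r)⁻¹ := by group
    rwa [h7] at h6
  have h6 := h3 _ h5
  have h7 : r * (r⁻¹ * n * r) * r⁻¹ = n := by group
  rwa [h7] at h6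

end sylow

section action

open Cfsg.Agent.ZN Cfsg.Agent.Omega.NOThree.NoOver Cfsg.Agent.Omega.ML.CD Cfsg.Agent.Omega.ML.Ex
open Cfsg.Agent.ClassTwoFusion.Quad
open Cfsg.Agent.MinSimple.VModule (o2_isPGroup o2_le le_o2 le_normalizer_o2)

universe u v

variable {H : Type u} [Group H] {M : Type v} [Group M] [MulDistribMulAction H M] {K T A : Subgroup H}

/-- `N_H(T) = T` -/
theorem mem_of_normalizes [Finite H] (h : InX H M K T A) (e : K ≃* SU33) {n : H} (hn : ∀ t ∈ T, n * t * n⁻¹ ∈ T) :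
    n ∈ T := by
  have hN := h.norm
  have h1 : n ∈ K ⊔ T := h.gen ▸ mem_top n
  obtain ⟨k, hk, t, ht, rfl⟩ := mem_sup_of_normal_left.1 h1
  refine mul_mem ?_ ht
  have hk' : ∀ s ∈ T, k * s * k⁻¹ ∈ T := by
    intro s hs
    have h2 := hn (t⁻¹ * s * t) (mul_mem (mul_mem (inv_mem ht) hs) ht)
    have h3 : k * t * (t⁻¹ * s * t) * (k * t)⁻¹ = k * s * k⁻¹ := by group
    rwa [h3] at h2
  have h2 : IsPGroup 2 ((T.subgroupOf K).map e.toMonoidHom) := (h.two.comap_subtype).map _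
  have h3 : ¬ 2 ∣ ((T.subgroupOf K).map e.toMonoidHom).index := by
    have h4 : ((T.subgroupOf K).map e.toMonoidHom).index = (T.subgroupOf K).index := by
      rw [index_map_of_bijective (f := e.toMonoidHom) e.bijective]
    rw [h4]
    show ¬ 2 ∣ T.relIndex K
    rw [relIndex_eq h.gen]
    exact h.syl
  have h4 := sylow_normalizer h2 h3 (n := e ⟨k, hk⟩) (by
    rintro _ ⟨s, hs, rfl⟩
    refine ⟨⟨k, hk⟩ * s * ⟨k, hk⟩⁻¹, ?_, ?_⟩
    · exact hk' s hs
    · show e (⟨k, hk⟩ * s * ⟨k, hk⟩⁻¹) = e ⟨k, hk⟩ * e s * (e ⟨k, hk⟩)⁻¹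
      rw [map_mul, map_mul, map_inv])
  obtain ⟨s, hs, hse⟩ := h4
  have h5 : s = ⟨k, hk⟩ := e.injective hse
  rw [h5] at hs
  exact hs

theorem index_out (e : K ≃* SU33) : (MulAut.conj : K →* MulAut K).range.index = 2 := by
  rw [← index_inn]
  have h1 : (MulAut.conj : SU33 →* MulAut SU33).range =
      (MulAut.conj : K →* MulAut K).range.map (MulAut.congr e).toMonoidHom := by
    ext φ
    constructor
    · rintro ⟨g, rfl⟩
      refine ⟨MulAut.conj (e.symm g), ⟨_, rfl⟩, ?_⟩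
      refine MulEquiv.ext fun x => ?_
      show e (e.symm g * e.symm x * (e.symm g)⁻¹) = g * x * g⁻¹
      simp
    · rintro ⟨_, ⟨g, rfl⟩, rfl⟩
      refine ⟨e g, ?_⟩
      refine MulEquiv.ext fun x => ?_
      show e g * x * (e g)⁻¹ = e (g * e.symm x * g⁻¹)
      simp
  rw [h1, index_map_of_bijective (MulAut.congr e).bijective]

/-- **Orbits have length at least 42.** -/
theorem index_stabilizer [Finite H] [Finite M] (h : InX H M K T A) (e : K ≃* SU33) {x : M} (hx : ∀ t ∈ T, t • x = x)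
    (hx1 : x ≠ 1) : 42 ≤ (MulAction.stabilizer H x).index := by
  have hN := h.norm
  set R := MulAction.stabilizer H x with hR
  have hT : T ≤ R := fun t ht => MulAction.mem_stabilizer_iff.2 (hx t ht)
  have hRt : R ≠ ⊤ := by
    intro h1
    apply hx1
    have h2 : x ∈ cv M (K : Set H) := fun k _ => MulAction.mem_stabilizer_iff.1 (h1 ▸ mem_top k : k ∈ R)
    rw [Gen.cv_eq_bot h] at h2
    exact mem_bot.1 h2
  obtain ⟨z, hzA, hzK, hz1⟩ := Inv.asx_exists_mem h.asx (by rw [index_out e]; have := h.four; omega)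
  have hzo := h.low R hT hRt hzA
  have hgen : K ⊔ R = ⊤ := top_le_iff.1 (h.gen ▸ sup_le_sup_left hT K)
  have h1 : Nat.card ((R.subgroupOf K).map e.toMonoidHom) ≤ 144 := by
    refine card_le (N := ((o2 R).subgroupOf K).map e.toMonoidHom) ?_ ?_ ?_
    · rintro _ ⟨r, hr, rfl⟩ _ ⟨n, hn, rfl⟩
      refine ⟨r * n * r⁻¹, ?_, ?_⟩
      · have h2 : (r : H) ∈ normalizer (o2 R : Set H) := le_normalizer_o2 R hr
        exact (mem_normalizer_iff.1 h2 _).1 hn
      · show e (r * n * r⁻¹) = e r * e n * (e r)⁻¹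
        rw [map_mul, map_mul, map_inv]
    · exact ((o2_isPGroup R).comap_subtype).map _
    · intro h2
      have h3 : e ⟨z, hzK⟩ ∈ ((o2 R).subgroupOf K).map e.toMonoidHom := ⟨⟨z, hzK⟩, hzo, rfl⟩
      rw [h2, mem_bot] at h3
      have h4 : (⟨z, hzK⟩ : K) = 1 := e.injective (by rw [h3, map_one])
      exact hz1 (congrArg Subtype.val h4)
  have h2 : Nat.card (R.subgroupOf K) ≤ 144 := by
    rwa [card_map_of_injective (f := e.toMonoidHom) e.injective] at h1
  have h3 : Nat.card (R.subgroupOf K) * R.relIndex K = Nat.card K := (R.subgroupOf K).card_mul_index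
  have h4 : Nat.card K = 6048 := by rw [Nat.card_congr e.toEquiv, card_SU]
  rw [relIndex_eq hgen, h4] at h3
  by_contra h5
  push Not at h5
  have h6 : Nat.card (R.subgroupOf K) * R.index ≤ 144 * 41 := Nat.mul_le_mul h2 (by omega)
  omega

/-- **`|C_M(T)| ≤ 2`** if `|M| ≤ 84` -/
theorem eq_of_fixed [Finite H] [Finite M] (h : InX H M K T A) (e : K ≃* SU33) (hM : Nat.card M ≤ 84) {x y : M}
    (hx : ∀ t ∈ T, t • x = x) (hy : ∀ t ∈ T, t • y = y) (hx1 : x ≠ 1) (hy1 : y ≠ 1) : x = y := by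
  by_contra hxy
  -- the orbits are different
  have hdis : Disjoint (MulAction.orbit H x) (MulAction.orbit H y) := by
    rw [Set.disjoint_left]
    rintro _ ⟨a, rfl⟩ ⟨b, hb⟩
    apply hxy
    -- `x = g y`
    set g := a⁻¹ * b with hg
    have hgy : g • y = x := by
      have hb' : b • y = a • x := hb
      rw [hg, mul_smul, hb', inv_smul_smul]
    set R := MulAction.stabilizer H x with hR
    have hT : T ≤ R := fun t ht => MulAction.mem_stabilizer_iff.2 (hx t ht)
    have hgT : T.map (MulAut.conj g).toMonoidHom ≤ R := by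
      rintro _ ⟨t, ht, rfl⟩
      refine MulAction.mem_stabilizer_iff.2 ?_
      show (g * t * g⁻¹) • x = x
      rw [mul_smul, mul_smul, ← hgy, inv_smul_smul, hy t ht]
    have hi : (T.map (MulAut.conj g).toMonoidHom).index = T.index :=
      index_map_of_bijective (f := (MulAut.conj g).toMonoidHom) (MulAut.conj g).bijective T
    obtain ⟨r, hr, h1, -⟩ := exists_conj_sylow (P := T.map (MulAut.conj g).toMonoidHom) (Q := T) (h.two.map _) h.two
      hgT hT (by rw [hi]; exact h.syl) h.syl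
    have h2 : r * g ∈ T := by
      refine mem_of_normalizes h e fun t ht => ?_
      have h3 := h1 _ ⟨t, ht, rfl⟩
      have h4 : r * ((MulAut.conj g).toMonoidHom t) * r⁻¹ = r * g * t * (r * g)⁻¹ := by
        show r * (g * t * g⁻¹) * r⁻¹ = _
        group
      rwa [h4] at h3
    have h3 := hy _ h2
    rw [mul_smul, hgy, MulAction.mem_stabilizer_iff.1 hr] at h3
    exact h3
  have hox := index_stabilizer h e hx hx1
  have hoy := index_stabilizer h e hy hy1
  rw [MulAction.index_stabilizer] at hox hoy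
  have h1x : (1 : M) ∉ MulAction.orbit H x ∪ MulAction.orbit H y := by
    rintro (⟨a, ha⟩ | ⟨a, ha⟩)
    · exact hx1 ((smul_eq_iff_eq_inv_smul _ |>.1 ha).trans (smul_one _))
    · exact hy1 ((smul_eq_iff_eq_inv_smul _ |>.1 ha).trans (smul_one _))
  have h2 : (MulAction.orbit H x ∪ MulAction.orbit H y).ncard =
      (MulAction.orbit H x).ncard + (MulAction.orbit H y).ncard :=
    Set.ncard_union_eq hdis (Set.toFinite _) (Set.toFinite _)
  have h3 : (insert (1 : M) (MulAction.orbit H x ∪ MulAction.orbit H y)).ncard =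
      (MulAction.orbit H x ∪ MulAction.orbit H y).ncard + 1 := Set.ncard_insert_of_notMem h1x (Set.toFinite _)
  have h4 : (insert (1 : M) (MulAction.orbit H x ∪ MulAction.orbit H y)).ncard ≤ Nat.card M := by
    rw [← Set.ncard_univ]
    exact Set.ncard_le_ncard (Set.subset_univ _) (Set.toFinite _)
  omega

end action

end Cfsg.Agent.Omega.KL.UThreeCount

end

section


/-!
# (NO) for a module generated by the orbits of several `T`-fixed vectors (helper561)

* `no_add` : (NO) on `U` for `B` and on `U'` for `C_B(U)` gives (NO) on `U U'`;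
* **`no_fam`** : `B` elementary abelian, `B ≤ O₂(C_H(x))` and `T ≤ C_H(x)` for all `x ∈ s` (`s` a set of vectors): (NO) on
  `⟨x^H : x ∈ s⟩`;
* `no_fam_top` : the same if these orbits generate `M`; `no_X_Y` : the form `⟨m^H⟩⟨Y^H⟩ = M`;
* `o2_top_le_fam` : `O₂(H)` centralises `⟨x^H : x ∈ s⟩`.
-/

set_option autoImplicit false

namespace Cfsg.Agent.Omega.KL.NoFam

open Subgroup Cfsg Cfsg.Agent.ZN Cfsg.Agent.ClassTwoFusion.Quad Cfsg.Agent.Omega.ML.MinFrame
open Cfsg.Agent.Omega.ML.Final Cfsg.Agent.Omega.KL.GenTool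
open Cfsg.Agent.Omega.NOThree.NoOver (relIndex_ne)
open Cfsg.Agent.Omega.KL.Gen (o2_top_le)

universe u v

variable {H : Type u} [Group H] {M : Type v} [Group M] [MulDistribMulAction H M]

/-- (NO) on `U` for `B` and on `U'` for `C_B(U)` -/
theorem no_add [Finite H] [Finite M] {B : Subgroup H} {U U' : Subgroup M}
    (h1 : (fxr H U).relIndex B ≤ (cv M (B : Set H)).relIndex U)
    (h2 : (fxr H U').relIndex (fxr H U ⊓ B) ≤ (cv M ((fxr H U ⊓ B : Subgroup H) : Set H)).relIndex U') :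
    (fxr H (U ⊔ U')).relIndex B ≤ (cv M (B : Set H)).relIndex (U ⊔ U') := by
  set B0 : Subgroup H := fxr H U ⊓ B with hB0
  have hf : fxr H (U ⊔ U') = fxr H U ⊓ fxr H U' := by
    apply le_antisymm
    · exact le_inf (fun g hg m hm => hg m (mem_sup_left hm)) fun g hg m hm => hg m (mem_sup_right hm)
    · rintro g ⟨hg, hg'⟩ m hm
      have h3 : U ⊔ U' ≤ cv M ({g} : Set H) :=
        sup_le (fun m hm => mem_cv_singleton.2 (hg m hm)) fun m hm => mem_cv_singleton.2 (hg' m hm)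
      exact mem_cv_singleton.1 (h3 hm)
  have e1 : (fxr H (U ⊔ U')).relIndex B = (fxr H U').relIndex B0 * (fxr H U).relIndex B := by
    have h3 : fxr H (U ⊔ U') ⊓ B ≤ B0 := by
      rw [hf]
      exact inf_le_inf_right _ inf_le_left
    have h4 := relIndex_mul_relIndex (fxr H (U ⊔ U') ⊓ B) B0 B h3 inf_le_right
    rw [inf_relIndex_right, hB0, inf_relIndex_right, ← hB0] at h4
    rw [← h4]
    congr 1
    rw [← inf_relIndex_right (fxr H (U ⊔ U') ⊓ B), ← inf_relIndex_right (fxr H U')]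
    congr 1
    rw [hf, hB0]
    apply le_antisymm
    · rintro g ⟨⟨⟨hg, hg'⟩, hb⟩, -⟩
      exact ⟨hg', hg, hb⟩
    · rintro g ⟨hg', hg, hb⟩
      exact ⟨⟨⟨hg, hg'⟩, hb⟩, hg, hb⟩
  have h3 : cv M (B : Set H) ≤ cv M (B0 : Set H) := cv_anti inf_le_right
  have e2 : (cv M (B : Set H)).relIndex (cv M (B0 : Set H) ⊓ (U ⊔ U')) * (cv M (B0 : Set H)).relIndex (U ⊔ U') =
      (cv M (B : Set H)).relIndex (U ⊔ U') := by
    have h4 := relIndex_mul_relIndex (cv M (B : Set H) ⊓ (U ⊔ U')) (cv M (B0 : Set H) ⊓ (U ⊔ U')) (U ⊔ U')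
      (inf_le_inf_right _ h3) inf_le_right
    rw [inf_relIndex_right, inf_relIndex_right] at h4
    rw [← h4]
    congr 1
    rw [← inf_relIndex_right (cv M (B : Set H)), ← inf_relIndex_right (cv M (B : Set H) ⊓ (U ⊔ U'))]
    congr 1
    apply le_antisymm
    · rintro m ⟨hm, hm', hm''⟩
      exact ⟨⟨hm, hm''⟩, hm', hm''⟩
    · rintro m ⟨⟨hm, hm''⟩, hm', -⟩
      exact ⟨hm, hm', hm''⟩
  rw [e1, ← e2, mul_comm]
  refine Nat.mul_le_mul (h1.trans ?_) (h2.trans ?_)
  · exact relIndex_le_of_le_right (le_inf (cv_inf_eq_iff.2 inf_le_left) le_sup_left) (relIndex_ne _ _)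
  · exact relIndex_le_of_le_right le_sup_right (relIndex_ne _ _)

/-- **(NO) on `⟨x^H : x ∈ s⟩`** -/
theorem no_fam [Finite H] [Finite M] (ml : MLK.{u, v}) (KH : IsKGroup H) (sq : ∀ m : M, m * m = 1)
    {T : Subgroup H} (two : IsPGroup 2 T) (syl : ¬ 2 ∣ T.index) (s : Set M)
    (fx : ∀ x ∈ s, ∀ t ∈ T, t • x = x) {B : Subgroup H} (el : ∀ b ∈ B, b * b = 1)
    (hB : ∀ x ∈ s, B ≤ o2 (MulAction.stabilizer H x)) :
    (fxr H (⨆ x : s, orb (⊤ : Subgroup H) (x : M))).relIndex B ≤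
      (cv M (B : Set H)).relIndex (⨆ x : s, orb (⊤ : Subgroup H) (x : M)) := by
  classical
  have key : ∀ (n : ℕ) (t : Finset M), t.card = n → (∀ x ∈ t, x ∈ s) → ∀ B' : Subgroup H, B' ≤ B →
      (fxr H (⨆ x : t, orb (⊤ : Subgroup H) (x : M))).relIndex B' ≤
        (cv M (B' : Set H)).relIndex (⨆ x : t, orb (⊤ : Subgroup H) (x : M)) := by
    intro n
    induction n with
    | zero =>
      intro t ht _ B' _
      have h0 : (⨆ x : t, orb (⊤ : Subgroup H) (x : M)) = ⊥ := by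
        rw [Finset.card_eq_zero] at ht
        subst ht
        simp
      rw [h0]
      have h1 : fxr H (⊥ : Subgroup M) = ⊤ := by
        rw [eq_top_iff]
        intro g _ m hm
        rw [mem_bot.1 hm, smul_one]
      rw [h1, relIndex_top_left]
      exact Nat.one_le_iff_ne_zero.2 (relIndex_ne _ _)
    | succ n ih =>
      intro t ht hts B' hB'
      obtain ⟨x, hx⟩ := Finset.card_pos.1 (by omega : 0 < t.card)
      have h1 : (⨆ y : t, orb (⊤ : Subgroup H) (y : M)) =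
          (⨆ y : (t.erase x : Finset M), orb (⊤ : Subgroup H) (y : M)) ⊔ orb (⊤ : Subgroup H) x := by
        apply le_antisymm
        · refine iSup_le fun y => ?_
          by_cases hy : (y : M) = x
          · rw [hy]; exact le_sup_right
          · exact le_sup_of_le_left (le_iSup (fun y : (t.erase x : Finset M) => orb (⊤ : Subgroup H) (y : M))
              ⟨y, Finset.mem_erase.2 ⟨hy, y.2⟩⟩)
        · refine sup_le (iSup_le fun y => ?_) ?_
          · exact le_iSup (fun y : t => orb (⊤ : Subgroup H) (y : M)) ⟨y, Finset.mem_of_mem_erase y.2⟩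
          · exact le_iSup (fun y : t => orb (⊤ : Subgroup H) (y : M)) ⟨x, hx⟩
      rw [h1]
      have hc : (t.erase x).card = n := by rw [Finset.card_erase_of_mem hx, ht]; rfl
      refine no_add (ih _ hc (fun y hy => hts y (Finset.mem_of_mem_erase hy)) B' hB') ?_
      exact no_orb ml KH sq two syl (fx x (hts x hx)) (fun b hb => el b (hB' hb.2))
        ((inf_le_right.trans hB').trans (hB x (hts x hx)))
  have hs : s.Finite := Set.toFinite s
  have h2 : (⨆ x : s, orb (⊤ : Subgroup H) (x : M)) = ⨆ x : hs.toFinset, orb (⊤ : Subgroup H) (x : M) := by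
    apply le_antisymm
    · exact iSup_le fun x => le_iSup (fun x : hs.toFinset => orb (⊤ : Subgroup H) (x : M))
        ⟨x, hs.mem_toFinset.2 x.2⟩
    · exact iSup_le fun x => le_iSup (fun x : s => orb (⊤ : Subgroup H) (x : M)) ⟨x, hs.mem_toFinset.1 x.2⟩
  rw [h2]
  exact key _ _ rfl (fun x hx => hs.mem_toFinset.1 hx) B le_rfl

/-- **(NO) on `M = ⟨x^H : x ∈ s⟩`** -/
theorem no_fam_top [Finite H] [Finite M] (ml : MLK.{u, v}) (KH : IsKGroup H) (sq : ∀ m : M, m * m = 1)
    {T : Subgroup H} (two : IsPGroup 2 T) (syl : ¬ 2 ∣ T.index) {s : Set M}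
    (gen : (⨆ x : s, orb (⊤ : Subgroup H) (x : M)) = ⊤)
    (fx : ∀ x ∈ s, ∀ t ∈ T, t • x = x) {B : Subgroup H} (el : ∀ b ∈ B, b * b = 1)
    (hB : ∀ x ∈ s, B ≤ o2 (MulAction.stabilizer H x)) :
    (fxr H (⊤ : Subgroup M)).relIndex B ≤ (cv M (B : Set H)).index := by
  have h1 := no_fam ml KH sq two syl s fx el hB
  rwa [gen, relIndex_top_right] at h1

/-- **(NO) on `M = ⟨m^H⟩⟨Y^H⟩`**, `T` fixes `m` and `Y` pointwise -/
theorem no_X_Y [Finite H] [Finite M] (ml : MLK.{u, v}) (KH : IsKGroup H) (sq : ∀ m : M, m * m = 1)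
    {T : Subgroup H} (two : IsPGroup 2 T) (syl : ¬ 2 ∣ T.index) {m : M} {Y : Subgroup M}
    (gen : orb (⊤ : Subgroup H) m ⊔ (⨆ y : Y, orb (⊤ : Subgroup H) (y : M)) = ⊤)
    (fm : ∀ t ∈ T, t • m = m) (fY : T ≤ fxr H Y) {B : Subgroup H} (el : ∀ b ∈ B, b * b = 1)
    (hm : B ≤ o2 (MulAction.stabilizer H m)) (hY : ∀ y ∈ Y, y ≠ 1 → B ≤ o2 (MulAction.stabilizer H y)) :
    (fxr H (⊤ : Subgroup M)).relIndex B ≤ (cv M (B : Set H)).index := by
  have h1 : (⨆ x : ({x | x = m ∨ (x ∈ Y ∧ x ≠ 1)} : Set M), orb (⊤ : Subgroup H) (x : M)) = ⊤ := by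
    rw [eq_top_iff, ← gen]
    refine sup_le ?_ (iSup_le fun y => ?_)
    · exact le_iSup (fun x : ({x | x = m ∨ (x ∈ Y ∧ x ≠ 1)} : Set M) => orb (⊤ : Subgroup H) (x : M)) ⟨m, Or.inl rfl⟩
    · by_cases hy : (y : M) = 1
      · refine orb_le fun g _ => ?_
        rw [hy, smul_one]
        exact one_mem _
      · exact le_iSup (fun x : ({x | x = m ∨ (x ∈ Y ∧ x ≠ 1)} : Set M) => orb (⊤ : Subgroup H) (x : M))
          ⟨y, Or.inr ⟨y.2, hy⟩⟩
  refine no_fam_top ml KH sq two syl h1 ?_ el ?_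
  · rintro x (rfl | ⟨hx, -⟩)
    · exact fm
    · exact fun t ht => fY ht x hx
  · rintro x (rfl | ⟨hx, hx1⟩)
    · exact hm
    · exact hY x hx hx1

/-- `O₂(H)` centralises `⟨x^H : x ∈ s⟩` -/
theorem o2_top_le_fam [Finite H] {T : Subgroup H} (two : IsPGroup 2 T) (syl : ¬ 2 ∣ T.index) (s : Set M)
    (fx : ∀ x ∈ s, ∀ t ∈ T, t • x = x) : o2 (⊤ : Subgroup H) ≤ fxr H (⨆ x : s, orb (⊤ : Subgroup H) (x : M)) := by
  intro g hg m hm
  have h1 : (⨆ x : s, orb (⊤ : Subgroup H) (x : M)) ≤ cv M ({g} : Set H) :=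
    iSup_le fun x m hm => mem_cv_singleton.2 (o2_top_le two syl (fx x x.2) hg m hm)
  exact mem_cv_singleton.1 (h1 hm)

end Cfsg.Agent.Omega.KL.NoFam

end

section


/-!
# `PsRed` (helper451, helper844)

`Cfsg.Agent.Omega.ML.Ex.psRed : MLK → PsRed` is in `RedFin.lean` (it uses `Red.Sc.la` of `RedLASc.lean`).
-/

end

section


/-!
# K-list 'exact + low': `G₂(5)` (helper351)

`LB (G₂(5)) 100` (helper232 / helper351), 2-rank of `Aut` at most 6, `|G₂(5)| ≤ 2 ^ 40`: numerical.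

* `nx : G₂(5) ≅ K → NX K`;  **`deadX : DeadX IsGTwoFive`**.
-/

set_option autoImplicit false

universe u v w

namespace Cfsg.Agent.Omega.ML.Ex.RowGTwoFiveX

open Cfsg Cfsg.Lie Cfsg.Agent.Omega.ML Cfsg.Agent.Omega.ML.RowGTwoFive Cfsg.Agent.Omega.ML.ExLow.NumX
  Cfsg.Agent.Omega.Lie Cfsg.Agent.Omega.TwoF Cfsg.Agent.Omega.ML.Num

/-- **`G₂(5)`.** -/
theorem nx {K : Type u} [Group K] {F : Type} [Field F] [Fintype F] (h5 : Fintype.card F = 5)
    (e : K ≃* ↥(chevG2.group F)) : NX.{u, v} K := by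
  have hp : Fact (Nat.Prime 5) := ⟨by norm_num⟩
  have hch : CharP F 5 := by
    have h1 : ((5 : ℕ) : F) = 0 := by
      rw [← h5]
      exact FiniteField.cast_card_eq_zero F
    exact (CharP.charP_iff_prime_eq_zero (by norm_num)).2 h1
  have h2 : (2 : F) ≠ 0 := RowGTwo.two_ne (p := 5) Fact.out (by norm_num)
  have hs := (RowGTwo.simple' h2).1
  have hlb := lb.{0, u, v} (F := F) (by rw [Nat.card_eq_fintype_card, h5])
  rw [Nat.card_eq_fintype_card, h5] at hlb
  obtain ⟨hr6, hr4⟩ := RowGTwo.rk (F := F) (p := 5) Fact.out (by norm_num)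
  refine NX.congr e hlb (CardB.of_out (OutB.of_rk (OddExcNum.rk_of_rk hr6)) ?_)
  have hc : Nat.card ↥(chevG2.group F) ≤ 2 ^ 40 := by
    refine GTwoTorus.card_le.trans ?_
    rw [h5]
    norm_num
  calc Nat.card ↥(chevG2.group F) * 2 ^ 6 ≤ 2 ^ 40 * 2 ^ 6 := Nat.mul_le_mul_right _ hc
    _ < 2 ^ ((5 - 1) * 5 ^ 2) := by norm_num

/-- **The row `G₂(5)`, exact form.** -/
theorem deadX : DeadX.{u, v} (fun S _ => IsGTwoFive S) :=
  ExLow.Dead.deadX_of fun _ _ ⟨_, _, _, h5, ⟨e⟩⟩ => nx h5 e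

end Cfsg.Agent.Omega.ML.Ex.RowGTwoFiveX

end

section


/-!
# K-list 'exact + low': the row `He` (helper10)

Numerical: `LB 42`, `|He| < 2 ^ 32`, `OutB 1`.
-/

set_option autoImplicit false

namespace Cfsg.Agent.Omega.ML.Ex.RowHeX

universe u v

open Cfsg.Agent.Omega.ML.ExLow

theorem nx {S : Type u} [Group S] (h : Cfsg.Spor.IsoHe S) : NumX.NX.{u, v} S := by
  refine NumX.NX.of_card (n := 42) (b := 1) (N := 32) (RowHe.lb h) (RowHe.outB h) ?_ (by norm_num)
  rw [(TwoF.RowHe.card_of h).2]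
  norm_num

/-- **The row `He`.** -/
theorem deadX : DeadX.{u, v} fun S _ => Cfsg.Spor.IsoHe S :=
  Dead.deadX_of fun _ _ h => nx h

end Cfsg.Agent.Omega.ML.Ex.RowHeX

end

end
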