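import Cfsg.Agent.Mrg.Omega.ML.Ex.Def
import Cfsg.Agent.Mrg.Omega.ML.ExLow.NumX
import Cfsg.Agent.Mrg.Omega.ML.RowFi22
import Cfsg.Agent.Mrg.Omega.ML.RowHe
import Cfsg.Agent.Mrg.Omega.ML.Ex.RedDef
import Cfsg.Agent.Mrg.Omega.ML.Ex.Two
import Cfsg.Agent.Mrg.Omega.ML.Ex.Red3
import Cfsg.Agent.Mrg.Omega.ML.Ex.DefN
import Cfsg.Agent.Mrg.Omega.ML.LocM24
import Cfsg.Agent.FixBN.SplitRGD
import Cfsg.Agent.Mrg.Omega.ML.LieRow.Lie
import Cfsg.Agent.Mrg.ParSys.Fam.TwoFFour
import Cfsg.Agent.Mrg.Omega.Lie.End.RowFE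
import Cfsg.Agent.Mrg.Omega.Lie.End.KSideMain
import Cfsg.Agent.Mrg.Omega.CR.EndLie
import Cfsg.Agent.Mrg.Omega.ML.MinIrr
import Cfsg.Agent.MinSimple.MinParabolic
import Cfsg.Agent.FixBN.Disp
import Cfsg.Agent.Mrg.Omega.ML.LieRow.Bld
import Cfsg.Agent.Mrg.Omega.ML.Ex.KnownDone
import Cfsg.Agent.Mrg.Omega.ML.Ex.RowU33X
import Cfsg.Agent.Mrg.Omega.ML.KnownAll
import Cfsg.Agent.Mrg.Omega.ML.ExEx.Core
import Cfsg.Agent.Mrg.Omega.ML.Ex.RowTitsX
import Cfsg.Agent.KFacts.CoTwo.QuotInst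
import Cfsg.Agent.KFacts.CoTwo.Sheets
import Cfsg.Agent.Co2Type.Setup
import Cfsg.Agent.Mrg.Omega.ML.Ex.Known
import Cfsg.Agent.Mrg.Omega.ML.ExLow.XPsl
import Cfsg.Agent.Mrg.Omega.ML.ExLow.XPsu
import Cfsg.Agent.Mrg.Omega.ML.ExLow.XOm
import Cfsg.Agent.Mrg.Omega.ML.Ex.RowL33X
import Cfsg.Agent.Mrg.Omega.ML.Ex.RkX
import Cfsg.Agent.S0254
import Cfsg.Agent.Mrg.Omega.ML.Ex.TwoOdd

-- merged: Cfsg.Agent.Mrg.Omega.ML.Ex.RowFi22X
section

section


/-!
# Exact and low configurations: the numerical rows `Fi22` and `He` (helper114)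

* `false_of_nx`, `deadX_of_nx` : the numerical criterion `NX` (`LB K n`, `|X| < 2 ^ n`) over `InX`;
* `fi22 : DeadX @Spor.IsoFi22` (`|M| ≥ 2 ^ 54`, `|H| < 2 ^ 47`);
* `he : DeadX @Spor.IsoHe` (`|M| ≥ 2 ^ 42`, `|H| < 2 ^ 33`).
-/

set_option autoImplicit false

namespace Cfsg.Agent.Omega.ML.Ex.RowFi22X

open Subgroup Cfsg Cfsg.Agent.ClassTwoFusion.Quad Cfsg.Agent.Omega.NOThree.NoOver Cfsg.Agent.Omega.ML.CD
open Cfsg.Agent.Omega.ML.ExLow.NumX Cfsg.Agent.Omega.Lie

universe u v w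

/-- a simple group which is not abelian is perfect -/
theorem perfect {K : Type u} [Group K] (hs : IsSimpleGroup K) (hc : ¬ ∀ a b : K, a * b = b * a) :
    _root_.commutator K = ⊤ := by
  rcases hs.eq_bot_or_eq_top_of_normal (_root_.commutator K) inferInstance with h | h
  · exfalso
    apply hc
    intro a b
    rw [_root_.commutator_def, commutator_eq_bot_iff_le_centralizer] at h
    exact (mem_centralizer_iff.1 (h (mem_top a)) b (mem_top b)).symm
  · exact h

/-- `K` is not abelian -/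
theorem not_comm {H : Type u} [Group H] {M : Type v} [Group M] [MulDistribMulAction H M] {K T A : Subgroup H}
    (h : InX H M K T A) : ¬ ∀ a b : K, a * b = b * a := by
  intro hc
  have h1 : K ≤ centralizer (K : Set H) := by
    intro x hx
    rw [mem_centralizer_iff]
    intro y hy
    exact congrArg Subtype.val (hc ⟨y, hy⟩ ⟨x, hx⟩)
  rw [h.cen] at h1
  have hs := h.simple
  obtain ⟨x, hx⟩ := exists_ne (1 : K)
  exact hx (Subtype.ext (mem_bot.1 (h1 x.2)))

/-- `|M| = |A| |C_M(A)|` -/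
theorem card_eq {H : Type u} [Group H] {M : Type v} [Group M] [MulDistribMulAction H M] {K T A : Subgroup H}
    (h : InX H M K T A) : Nat.card M = fo M A := by
  rw [fo, ← h.exact, mul_comm]
  exact ((cv M (A : Set H)).card_mul_index).symm

/-- **The numerical criterion.** -/
theorem false_of_nx {H : Type u} [Group H] [Finite H] {M : Type v} [Group M] [Finite M] [MulDistribMulAction H M]
    {K T A : Subgroup H} (h : InX H M K T A) (hS : NX.{u, v} K) : False := by
  refine false_of h.norm h.simple (perfect h.simple (not_comm h)) h.cen h.sq ?_ h.el h.A_ne_bot (card_eq h).le hS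
  by_contra hcon
  have h1 : ∀ k ∈ K, ∀ m : M, k • m = m := fun k hk m => not_mv hcon hk m
  have hs := h.simple
  obtain ⟨x, hx⟩ := exists_ne (1 : K)
  exact hx (Subtype.ext (h.faith x (h1 x x.2)))

/-- **The numerical criterion for a class.** -/
theorem deadX_of_nx {𝒮 : ∀ (S : Type u) [Group S], Prop}
    (h : ∀ (S : Type u) [Group S] [Finite S], 𝒮 S → NX.{u, v} S) : DeadX.{u, v} 𝒮 :=
  fun _ _ _ _ _ _ _ K _ _ hI hS => false_of_nx hI (h K hS)

theorem nx_fi22 {S : Type u} [Group S] (hS : Spor.IsoFi22 S) : NX.{u, v} S := by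
  refine NX.of_lt (n := 54) (b := 1) (RowFi22.lb hS) ?_ ?_
  · obtain ⟨e⟩ := hS
    exact RowFi22.outB e
  · obtain ⟨e⟩ := hS
    rw [Nat.card_congr e.toEquiv, RowFi22.isFi22.2]
    norm_num

/-- **The row `Fi22`.** -/
theorem fi22 : DeadX.{u, v} @Spor.IsoFi22 := deadX_of_nx fun _ _ _ hS => nx_fi22 hS

theorem nx_he {S : Type u} [Group S] (hS : Spor.IsoHe S) : NX.{u, v} S := by
  refine NX.of_lt (n := 42) (b := 1) (RowHe.lb hS) (RowHe.outB hS) ?_
  rw [(TwoF.RowHe.card_of hS).2]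
  norm_num

/-- **The row `He`.** -/
theorem he : DeadX.{u, v} @Spor.IsoHe := deadX_of_nx fun _ _ _ hS => nx_he hS

end Cfsg.Agent.Omega.ML.Ex.RowFi22X

end

section


/-!
# (E1) of EXT (#22253, 585): THEOREM RED carries two `T`-fixed vectors to one component (helper690)

`X = KT`, `K = E × C_K(E)` as in `CmpM`, `M` irreducible.  Then `M = [M,E] × C_M(E)`; the components in `[M,E]` of two
`T`-fixed vectors `x, y ≠ 1` are `≠ 1` and `N_T(E)`-fixed, and if an overgroup `R` of `T` fixes `y` and moves `x`, then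
an overgroup `R₁ ≤ E N_T(E)` of `N_T(E)` fixes the component of `y` and moves the component of `x`.

* `Mv T x y` : two `T`-fixed vectors and such an `R`;
* **`CmpM.exists_mv`** : the result inside `X`;
* **`CmpM.mv`** : the result for a group `X₁` acting on `[M,E]` and `φ : E N_T(E) → X₁`.
-/

set_option autoImplicit false

namespace Cfsg.Agent.Omega.ML.Ex.Red

open Subgroup Cfsg Cfsg.Agent.ZN Cfsg.Agent.Omega.NOThree.NoOver Cfsg.Agent.Omega.ML.CD
open Cfsg.Agent.ClassTwoFusion.Quad Cfsg.Agent.Omega.ML.MinFrame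

universe u v w

variable {X : Type u} [Group X] {M : Type v} [Group M] [MulDistribMulAction X M]

/-- Two `T`-fixed vectors `x, y ≠ 1` and an overgroup of `T` which fixes `y` and moves `x`. -/
structure Mv (T : Subgroup X) (x y : M) : Prop where
  xT : ∀ t ∈ T, t • x = x
  yT : ∀ t ∈ T, t • y = y
  x1 : x ≠ 1
  y1 : y ≠ 1
  mv : ∃ R : Subgroup X, T ≤ R ∧ (∀ r ∈ R, r • y = y) ∧ ∃ r ∈ R, r • x ≠ x

variable {T B K E : Subgroup X} {lam : M}

/-- `g` with `[M,g] ≤ U` -/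
def into (U : Subgroup M) (sq : ∀ m : M, m * m = 1) : Subgroup X where
  carrier := {g | ∀ m : M, g • m * m ∈ U}
  one_mem' := fun m => by rw [one_smul, sq]; exact U.one_mem
  mul_mem' := by
    intro g k hg hk m
    have h1 : (g * k) • m * m = (g • (k • m) * (k • m)) * (k • m * m) := by
      rw [mul_smul, mul_assoc (g • k • m), ← mul_assoc (k • m) (k • m), sq, one_mul]
    rw [h1]
    exact U.mul_mem (hg _) (hk m)
  inv_mem' := by
    intro g hg m
    have h1 := hg (g⁻¹ • m)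
    rw [smul_inv_smul] at h1
    have h2 : g⁻¹ • m * m = (m * g⁻¹ • m)⁻¹ := by
      rw [mul_inv_rev, inv_eq_of_mul_eq_one_right (sq m), inv_eq_of_mul_eq_one_right (sq (g⁻¹ • m))]
    rw [h2]
    exact U.inv_mem h1

theorem mem_sup_comm {E C : Subgroup X} (hC : C ≤ centralizer (E : Set X)) {g : X} (hg : g ∈ E ⊔ C) :
    ∃ e ∈ E, ∃ c ∈ C, e * c = g := by
  let U : Subgroup X :=
    { carrier := {g | ∃ e ∈ E, ∃ c ∈ C, e * c = g}
      one_mem' := ⟨1, E.one_mem, 1, C.one_mem, one_mul 1⟩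
      mul_mem' := by
        rintro _ _ ⟨e, he, c, hc, rfl⟩ ⟨f, hf, d, hd, rfl⟩
        refine ⟨e * f, E.mul_mem he hf, c * d, C.mul_mem hc hd, ?_⟩
        have h2 : f * c = c * f := mem_centralizer_iff.1 (hC hc) f hf
        rw [mul_assoc e f, ← mul_assoc f c d, h2, mul_assoc c f d, ← mul_assoc e c]
      inv_mem' := by
        rintro _ ⟨e, he, c, hc, rfl⟩
        refine ⟨e⁻¹, E.inv_mem he, c⁻¹, C.inv_mem hc, ?_⟩
        have h2 : e * c = c * e := mem_centralizer_iff.1 (hC hc) e he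
        rw [h2, mul_inv_rev] }
  have h1 : E ⊔ C ≤ U := sup_le (fun e he => ⟨e, he, 1, C.one_mem, mul_one e⟩)
    fun c hc => ⟨1, E.one_mem, c, hc, one_mul c⟩
  exact h1 hg

namespace CmpM

/-- `E^{t⁻¹}` is in `C_K(E)` -/
theorem conj_inv (h : CmpM T B K E lam) {t : X} (ht : t ∈ T) (htn : t ∉ normalizer (E : Set X)) {f : X}
    (hf : f ∈ E) : t⁻¹ * f * t ∈ K ∧ t⁻¹ * f * t ∈ centralizer (E : Set X) := by
  constructor
  · have := h.cmp.normK.conj_mem f (h.cmp.EK hf) t⁻¹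
    rwa [inv_inv] at this
  · refine h.cmp.conj t⁻¹ (T.inv_mem ht) (fun h1 => htn (by simpa using inv_mem h1)) ⟨f, hf, ?_⟩
    simp

/-- `M = [M,E] C_M(E)` for irreducible `M` -/
theorem sup_top (h : CmpM T B K E lam)
    (irr : ∀ W : Subgroup M, (∀ g : X, ∀ w ∈ W, g • w ∈ W) → W = ⊥ ∨ W = ⊤) (m : M) :
    m ∈ cm M E ⊔ cv M (E : Set X) := by
  have h1 : K ≤ into (X := X) (cm M E ⊔ cv M (E : Set X)) h.cmp.mn.sq := by
    refine h.cmp.tcl.trans (tcl_le fun t ht => ?_)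
    rintro _ ⟨e, he, rfl⟩ n
    by_cases htn : t ∈ normalizer (E : Set X)
    · have h2 : t * e * t⁻¹ ∈ E := (mem_normalizer_iff.1 htn e).1 he
      exact mem_sup_left (mem_cm h2 n)
    · refine mem_sup_right fun f hf => ?_
      obtain ⟨h3, h4⟩ := h.conj_inv ht htn hf
      have e1 : (MulAut.conj t) e • n * n = t • (e • (t⁻¹ • n) * (t⁻¹ • n)) := by
        rw [MulAut.conj_apply, smul_mul', smul_inv_smul, mul_smul, mul_smul]
      change f • ((MulAut.conj t) e • n * n) = (MulAut.conj t) e • n * n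
      rw [e1]
      have h5 := h.cenN _ h3 h4 _ (mem_cm he (t⁻¹ • n))
      rw [mul_smul, mul_smul, inv_smul_eq_iff] at h5
      exact h5
  have h2 : cm M K = ⊤ := by
    refine (irr (cm M K) fun g w hw => smul_mem_cm ?_ hw).resolve_left fun h3 => ?_
    · rw [@normalizer_eq_top _ _ K h.cmp.normK]
      trivial
    · have hs := h.cmp.simple
      obtain ⟨e, he⟩ := exists_ne (1 : E)
      refine he (Subtype.ext (h.cmp.mn.faith e fun n => ?_))
      have h4 : (e : X) • n * n ∈ cm M K := mem_cm (h.cmp.EK e.2) n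
      rw [h3, mem_bot] at h4
      rw [eq_inv_of_mul_eq_one_left h4, inv_eq_of_mul_eq_one_right (h.cmp.mn.sq n)]
  have h3 : cm M K ≤ cm M E ⊔ cv M (E : Set X) := cm_le fun k hk n => h1 hk n
  rw [h2] at h3
  exact h3 trivial

/-- `C_M(K) = 1` for irreducible `M` -/
theorem cvK (h : CmpM T B K E lam)
    (irr : ∀ W : Subgroup M, (∀ g : X, ∀ w ∈ W, g • w ∈ W) → W = ⊥ ∨ W = ⊤) {m : M}
    (hm : ∀ k ∈ K, k • m = m) : m = 1 := by
  have h1 : cv M (K : Set X) = ⊥ := by
    refine (irr (cv M (K : Set X)) fun g w hw k hk => ?_).resolve_right fun h3 => ?_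
    · have h1 : g⁻¹ * k * g ∈ K := by
        have := h.cmp.normK.conj_mem k hk g⁻¹
        rwa [inv_inv] at this
      have h2 := hw _ h1
      rw [mul_smul, mul_smul, inv_smul_eq_iff] at h2
      exact h2
    · have hs := h.cmp.simple
      obtain ⟨e, he⟩ := exists_ne (1 : E)
      refine he (Subtype.ext (h.cmp.mn.faith e fun n => ?_))
      have h4 : n ∈ cv M (K : Set X) := h3 ▸ mem_top n
      exact h4 e (h.cmp.EK e.2)
  have h2 : m ∈ cv M (K : Set X) := hm
  rwa [h1, mem_bot] at h2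

/-- `[M,E] ∩ C_M(E) = 1` for irreducible `M` -/
theorem inf_bot (h : CmpM T B K E lam)
    (irr : ∀ W : Subgroup M, (∀ g : X, ∀ w ∈ W, g • w ∈ W) → W = ⊥ ∨ W = ⊤) {m : M}
    (h1 : m ∈ cm M E) (h2 : ∀ e ∈ E, e • m = m) : m = 1 := by
  refine h.cvK irr fun k hk => ?_
  have h3 : E ⊔ (K ⊓ centralizer (E : Set X)) ≤ MulAction.stabilizer X m := by
    refine sup_le (fun e he => MulAction.mem_stabilizer_iff.2 (h2 e he)) fun f hf => ?_
    exact MulAction.mem_stabilizer_iff.2 (h.cenN f hf.1 hf.2 m h1)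
  rw [h.cmp.sup] at h3
  exact MulAction.mem_stabilizer_iff.1 (h3 hk)

/-- uniqueness of the decomposition -/
theorem uniq (h : CmpM T B K E lam)
    (irr : ∀ W : Subgroup M, (∀ g : X, ∀ w ∈ W, g • w ∈ W) → W = ⊥ ∨ W = ⊤) {a a' b b' : M}
    (ha : a ∈ cm M E) (hb : b ∈ cm M E) (ha' : a' ∈ cv M (E : Set X)) (hb' : b' ∈ cv M (E : Set X))
    (hab : a * a' = b * b') : a = b ∧ a' = b' := by
  have h1 : b⁻¹ * a = b' * a'⁻¹ := by
    rw [inv_mul_eq_iff_eq_mul, ← mul_assoc, ← hab, mul_inv_cancel_right]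
  have h2 : b⁻¹ * a = 1 := by
    refine h.inf_bot irr ((cm M E).mul_mem ((cm M E).inv_mem hb) ha) fun e he => ?_
    rw [h1]
    exact ((cv M (E : Set X)).mul_mem hb' ((cv M (E : Set X)).inv_mem ha')) e he
  rw [inv_mul_eq_one] at h2
  refine ⟨h2.symm, ?_⟩
  rw [h2] at hab
  exact mul_left_cancel hab

/-- a `T`-fixed vector which is fixed by `E` is `1` -/
theorem eq_one_of_fix (h : CmpM T B K E lam)
    (irr : ∀ W : Subgroup M, (∀ g : X, ∀ w ∈ W, g • w ∈ W) → W = ⊥ ∨ W = ⊤) {x : M}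
    (h2 : ∀ t ∈ T, ∀ e ∈ E, (t * e * t⁻¹) • x = x) : x = 1 := by
  refine h.cvK irr fun k hk => ?_
  have h3 : tcl T E ≤ MulAction.stabilizer X x := by
    refine tcl_le fun t ht => ?_
    rintro _ ⟨e, he, rfl⟩
    exact MulAction.mem_stabilizer_iff.2 (h2 t ht e he)
  exact MulAction.mem_stabilizer_iff.1 (h3 (h.cmp.tcl hk))

/-- `N(E)` acts on `C_M(E)` -/
theorem smul_mem_cv {g : X} (hg : g ∈ normalizer (E : Set X)) {m : M} (hm : m ∈ cv M (E : Set X)) :
    g • m ∈ cv M (E : Set X) := by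
  intro e he
  have h1 : g⁻¹ * e * g ∈ E := by
    have := (mem_normalizer_iff.1 (inv_mem hg) e).1 he
    rwa [inv_inv] at this
  have h2 := hm _ h1
  rw [mul_smul, mul_smul, inv_smul_eq_iff] at h2
  exact h2

/-- **The component of a `T`-fixed vector.** -/
theorem exists_part (h : CmpM T B K E lam)
    (irr : ∀ W : Subgroup M, (∀ g : X, ∀ w ∈ W, g • w ∈ W) → W = ⊥ ∨ W = ⊤) {x : M}
    (hx : ∀ t ∈ T, t • x = x) (hx1 : x ≠ 1) :
    ∃ a ∈ cm M E, ∃ a' ∈ cv M (E : Set X), x = a * a' ∧ a ≠ 1 ∧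
      ∀ t ∈ T, t ∈ normalizer (E : Set X) → t • a = a := by
  have hN : (cv M (E : Set X)).Normal := ⟨fun x hx g => by
    rw [comm_of_sq' h.cmp.mn.sq g x, mul_inv_cancel_right]; exact hx⟩
  obtain ⟨a, ha, a', ha', hxa⟩ := mem_sup_of_normal_right.1 (h.sup_top irr x)
  refine ⟨a, ha, a', ha', hxa.symm, ?_, ?_⟩
  · rintro rfl
    rw [one_mul] at hxa
    subst hxa
    refine hx1 (h.eq_one_of_fix irr fun t ht e he => ?_)
    have h1 : t⁻¹ • a' = a' := hx _ (T.inv_mem ht)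
    rw [mul_smul, mul_smul, h1, ha' e he, hx t ht]
  · intro t ht htn
    refine (h.uniq irr (smul_mem_cm htn ha) ha (smul_mem_cv htn ha') ha' ?_).1
    rw [← smul_mul', hxa, hx t ht]

/-- **(E1), inside `X`.** -/
theorem exists_mv (h : CmpM T B K E lam)
    (irr : ∀ W : Subgroup M, (∀ g : X, ∀ w ∈ W, g • w ∈ W) → W = ⊥ ∨ W = ⊤) {x y : M} (hm : Mv T x y) :
    ∃ a ∈ cm M E, ∃ b ∈ cm M E, a ≠ 1 ∧ b ≠ 1 ∧ (∀ t ∈ T, t ∈ normalizer (E : Set X) → t • a = a) ∧
      (∀ t ∈ T, t ∈ normalizer (E : Set X) → t • b = b) ∧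
      ∃ R : Subgroup X, T ⊓ normalizer (E : Set X) ≤ R ∧ R ≤ E ⊔ (T ⊓ normalizer (E : Set X)) ∧
        (∀ r ∈ R, r • b = b) ∧ ∃ r ∈ R, r ∈ E ∧ r • a ≠ a := by
  obtain ⟨R, hTR, hy, r, hr, hrx⟩ := hm.mv
  obtain ⟨a, ha, a', ha', hxa, ha1, hat⟩ := h.exists_part irr hm.xT hm.x1
  obtain ⟨b, hb, b', hb', hyb, hb1, hbt⟩ := h.exists_part irr hm.yT hm.y1
  have hnc : ∀ c ∈ centralizer (E : Set X), c ∈ normalizer (E : Set X) := fun c hc =>
    (centralizer_le_normalizer (E : Set X)) hc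
  -- the projection of `R ∩ K` to `E`
  let RE : Subgroup X :=
    { carrier := {e | e ∈ E ∧ ∃ c ∈ K, c ∈ centralizer (E : Set X) ∧ e * c ∈ R}
      one_mem' := ⟨E.one_mem, 1, K.one_mem, Subgroup.one_mem _, by rw [one_mul]; exact R.one_mem⟩
      mul_mem' := by
        rintro e f ⟨he, c, hcK, hcc, hec⟩ ⟨hf, d, hdK, hdc, hfd⟩
        refine ⟨E.mul_mem he hf, c * d, K.mul_mem hcK hdK, Subgroup.mul_mem _ hcc hdc, ?_⟩
        have h1 : e * f * (c * d) = (e * c) * (f * d) := by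
          have h2 : f * c = c * f := mem_centralizer_iff.1 hcc f hf
          rw [mul_assoc e f, ← mul_assoc f c d, h2, mul_assoc c f d, ← mul_assoc e c]
        rw [h1]
        exact R.mul_mem hec hfd
      inv_mem' := by
        rintro e ⟨he, c, hcK, hcc, hec⟩
        refine ⟨E.inv_mem he, c⁻¹, K.inv_mem hcK, Subgroup.inv_mem _ hcc, ?_⟩
        have h1 : e⁻¹ * c⁻¹ = (e * c)⁻¹ := by
          have h2 : e * c = c * e := mem_centralizer_iff.1 hcc e he
          rw [h2, mul_inv_rev]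
        rw [h1]
        exact R.inv_mem hec }
  have hREb : ∀ e ∈ RE, e • b = b := by
    rintro e ⟨he, c, hcK, hcc, hec⟩
    have h1 := hy _ hec
    rw [hyb, smul_mul', mul_smul, mul_smul, h.cenN c hcK hcc b hb] at h1
    have h2 : c • b' ∈ cv M (E : Set X) := smul_mem_cv (hnc c hcc) hb'
    rw [h2 e he] at h1
    exact (h.uniq irr (smul_mem_cm (le_normalizer he) hb) hb h2 hb' h1).1
  refine ⟨a, ha, b, hb, ha1, hb1, hat, hbt, RE ⊔ (T ⊓ normalizer (E : Set X)), le_sup_right,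
    sup_le_sup_right (fun e he => he.1) _, ?_, ?_⟩
  · have h1 : RE ⊔ (T ⊓ normalizer (E : Set X)) ≤ MulAction.stabilizer X b :=
      sup_le (fun e he => MulAction.mem_stabilizer_iff.2 (hREb e he))
        fun t ht => MulAction.mem_stabilizer_iff.2 (hbt t ht.1 ht.2)
    exact fun r hr => MulAction.mem_stabilizer_iff.1 (h1 hr)
  · by_contra hcon
    push Not at hcon
    have hREa : ∀ e ∈ RE, e • a = a := fun e he => hcon e (mem_sup_left he) he.1
    -- `g x x ∈ C_M(E)` for `g ∈ R ∩ K`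
    have h1 : ∀ g ∈ R, g ∈ K → g • x * x ∈ cv M (E : Set X) := by
      intro g hgR hgK
      have h2 : g ∈ E ⊔ (K ⊓ centralizer (E : Set X)) := by rw [h.cmp.sup]; exact hgK
      have h3 : ∃ e ∈ E, ∃ c ∈ K ⊓ centralizer (E : Set X), e * c = g := by
        exact mem_sup_comm inf_le_right h2
      obtain ⟨e, he, c, ⟨hcK, hcc⟩, rfl⟩ := h3
      have h4 : e • a = a := hREa e ⟨he, c, hcK, hcc, hgR⟩
      have h5 : (e * c) • x * x = (c • a') * a' := by
        have h6 : c • a' ∈ cv M (E : Set X) := smul_mem_cv (hnc c hcc) ha'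
        rw [hxa, smul_mul', mul_smul, mul_smul, h.cenN c hcK hcc a ha, h4, h6 e he,
          comm_of_sq' h.cmp.mn.sq a (c • a'), mul_assoc, ← mul_assoc a, h.cmp.mn.sq, one_mul]
      rw [h5]
      exact Subgroup.mul_mem _ (smul_mem_cv (hnc c hcc) ha') ha'
    -- so `R ∩ K` fixes `x`
    have h2 : ∀ g ∈ R, g ∈ K → g • x = x := by
      intro g hgR hgK
      have h3 : g • x * x = 1 := by
        refine h.eq_one_of_fix irr fun t ht e he => ?_
        have h4 : t⁻¹ * g * t ∈ R := R.mul_mem (R.mul_mem (R.inv_mem (hTR ht)) hgR) (hTR ht)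
        have h5 : t⁻¹ * g * t ∈ K := by
          have := h.cmp.normK.conj_mem g hgK t⁻¹
          rwa [inv_inv] at this
        have h6 := h1 _ h4 h5 e he
        have h7 : (t⁻¹ * g * t) • x * x = t⁻¹ • (g • x * x) := by
          rw [smul_mul', hm.xT _ (T.inv_mem ht), mul_smul, mul_smul, hm.xT t ht]
        rw [h7] at h6
        rw [mul_smul, mul_smul, h6, smul_inv_smul]
      rw [eq_inv_of_mul_eq_one_left h3, inv_eq_of_mul_eq_one_right (h.cmp.mn.sq x)]
    apply hrx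
    have h3 : r ∈ K ⊔ T := by rw [h.cmp.gen]; trivial
    have hK := h.cmp.normK
    obtain ⟨k, hk, t, ht, rfl⟩ := mem_sup_of_normal_left.1 h3
    have h4 : k ∈ R := by
      have := R.mul_mem hr (R.inv_mem (hTR ht))
      rwa [mul_inv_cancel_right] at this
    rw [mul_smul, hm.xT t ht, h2 k h4 hk]

/-- **(E1).** `X₁` acts on `[M,E]`, `φ : E N_T(E) → X₁` is compatible with the actions. -/
theorem mv (h : CmpM T B K E lam)
    (irr : ∀ W : Subgroup M, (∀ g : X, ∀ w ∈ W, g • w ∈ W) → W = ⊥ ∨ W = ⊤) {x y : M} (hm : Mv T x y)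
    {X₁ : Type w} [Group X₁] [MulDistribMulAction X₁ (cm M E)]
    (φ : ((E ⊔ (T ⊓ normalizer (E : Set X)) : Subgroup X)) →* X₁)
    (hφ : ∀ (g : (E ⊔ (T ⊓ normalizer (E : Set X)) : Subgroup X)) (n : cm M E), ((φ g • n : cm M E) : M) = (g : X) • (n : M))
    (T₁ : Subgroup X₁) (hT₁ : T₁ = (T.subgroupOf (E ⊔ (T ⊓ normalizer (E : Set X)))).map φ) :
    ∃ x₁ y₁ : cm M E, Mv T₁ x₁ y₁ := by
  obtain ⟨a, ha, b, hb, ha1, hb1, hat, hbt, R, hTR, hRY, hRb, r, hr, hrE, hra⟩ := h.exists_mv irr hm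
  have hY : E ⊔ (T ⊓ normalizer (E : Set X)) ≤ normalizer (E : Set X) := sup_le le_normalizer inf_le_right
  refine ⟨⟨a, ha⟩, ⟨b, hb⟩, ?_, ?_, fun h1 => ha1 (congrArg Subtype.val h1), fun h1 => hb1 (congrArg Subtype.val h1),
    (R.subgroupOf (E ⊔ (T ⊓ normalizer (E : Set X)))).map φ, ?_, ?_, φ ⟨r, hRY hr⟩, ⟨⟨r, hRY hr⟩, hr, rfl⟩, ?_⟩
  · rw [hT₁]
    rintro _ ⟨t, ht, rfl⟩
    exact Subtype.ext ((hφ _ _).trans (hat t ht (hY t.2)))
  · rw [hT₁]
    rintro _ ⟨t, ht, rfl⟩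
    exact Subtype.ext ((hφ _ _).trans (hbt t ht (hY t.2)))
  · rw [hT₁]
    exact map_mono fun t ht => hTR ⟨ht, hY t.2⟩
  · rintro _ ⟨g, hg, rfl⟩
    exact Subtype.ext ((hφ _ _).trans (hRb g hg))
  · intro h1
    exact hra ((hφ _ _).symm.trans (congrArg Subtype.val h1))

end CmpM

end Cfsg.Agent.Omega.ML.Ex.Red

end

section


/-!
# (E1) of EXT: `RedT` (helper690)

* `mn_of_sysT` : `SysT H M T A x y → Mn T A x`;
* `Sc.inX`, `Sc.atm` : the section of one component of an irreducible module: `InX X₁ N K₁ T₁ B₁` and `Atm N B₁`;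
* `Sc.known` : `K₁` is a known simple group;
* **`redT_of (ml : MLK) : RedT`**.
-/

set_option autoImplicit false
set_option linter.style.haveILetI false

namespace Cfsg.Agent.Omega.ML.Ex.Red

open Subgroup Cfsg Cfsg.Agent.ZN Cfsg.Agent.Omega.NOThree.NoOver Cfsg.Agent.Omega.ML.CD
open Cfsg.Agent.ClassTwoFusion.Quad Cfsg.Agent.Omega.ML.MinFrame Cfsg.Agent.Omega.ML.Ex.SecLow

universe u v w

/-- a non-abelian simple subgroup of a K-group is known -/
theorem known_of_le {X : Type u} [Group X] [Finite X] (hX : IsKGroup X) (B : Subgroup X) (hs : IsSimpleGroup B)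
    (hna : ¬ IsMulCommutative B) : IsKnownSimple' B := by
  have h2 : IsKGroup B := Final.sec_KG.sub X hX B
  let e0 : ↥(⊤ : Subgroup B) ⧸ (⊥ : Subgroup ↥(⊤ : Subgroup B)) ≃* B :=
    (QuotientGroup.quotientBot).trans Subgroup.topEquiv
  have h4 := h2 ⊤ ⊥ (Final.simple_congr e0.symm hs) (Final.not_comm_congr e0.symm hna)
  exact OddHalf.Known.isKnownSimple'_congr e0 (Final.not_comm_congr e0.symm hna) h4

section

variable {X : Type u} [Group X] {M : Type v} [Group M] [MulDistribMulAction X M] {T B K E : Subgroup X} {lam : M}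

/-- the input of RED -/
theorem mn_of_sysT {x y : M} (h : Two.SysT X M T B x y) : Mn T B x where
  sq := h.sq
  faith := h.faith
  gen := by
    rcases h.irr (orb (⊤ : Subgroup X) x) (fun g w hw => smul_mem_orb (mem_top g) hw) with h1 | h1
    · have h2 := mem_orb_self (⊤ : Subgroup X) x
      rw [h1, mem_bot] at h2
      exact absurd h2 h.x1
    · exact h1
  fixT := h.tx
  odd := h.odd
  two := h.two
  syl := h.syl
  el := h.el
  four := h.four
  exact := h.exact
  atom := h.atom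
  low := h.low
  nmax := h.nmax

namespace Sc

variable {X₁ : Type w} [Group X₁] [MulDistribMulAction X₁ (cm M E)] {a : YY T E →* X₁}

/-- the atom of the section -/
theorem atm (h : Sc T B K E lam a) [Finite X] : Atm (cm M E) (im a B) := h.inN0.atom

/-- **the section of an irreducible module** -/
theorem inX (h : Sc T B K E lam a) [Finite X]
    (irr : ∀ W : Subgroup M, (∀ g : X, ∀ w ∈ W, g • w ∈ W) → W = ⊥ ∨ W = ⊤) :
    InX X₁ (cm M E) (im a E) (im a (T1 T E)) (im a B) := by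
  have h0 := h.inN0
  exact
    { sq := h0.sq
      faith := h0.faith
      irr := by
        intro W hW
        rcases h0.irrK W hW with h1 | h1
        · exact Or.inr h1
        · left
          rw [eq_bot_iff]
          intro w hw
          rw [mem_bot]
          apply Subtype.ext
          refine h.cmpM.inf_bot irr w.2 fun e he => ?_
          have h2 := h1 (a ⟨e, E_le_YY he⟩) (apply_mem_im (y := ⟨e, E_le_YY he⟩) he) w hw
          have h3 := congrArg Subtype.val h2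
          rw [h.act] at h3
          exact h3
      norm := h0.norm
      simple := h0.simple
      cen := h0.cen
      gen := h0.gen
      two := h0.two
      syl := h0.syl
      AT := h0.AT
      el := h0.el
      four := h0.four
      exact := h0.exact
      sub := by
        intro C hC
        by_cases h1 : C = ⊥
        · subst h1
          have h2 : cv (cm M E) ((⊥ : Subgroup X₁) : Set X₁) = ⊤ := by
            rw [eq_top_iff]
            intro m _ c hc
            rw [SetLike.mem_coe, mem_bot] at hc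
            rw [hc, one_smul]
          rw [h2, index_top, card_bot]
        · by_cases h2 : C = im a B
          · rw [h2, h0.exact]
          · exact (h0.atom C hC h1 h2).le
      low := h0.low
      nmax := h0.nmax }

omit [MulDistribMulAction X₁ (cm M E)] in
theorem T₁_eq : im a (T1 T E) = (T.subgroupOf (E ⊔ (T ⊓ normalizer (E : Set X)))).map a := by
  have hY : YY T E ≤ normalizer (E : Set X) := sup_le le_normalizer inf_le_right
  have h1 : (T1 T E).subgroupOf (YY T E) = T.subgroupOf (YY T E) := by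
    ext t
    exact ⟨fun ht => ht.1, fun ht => ⟨ht, hY t.2⟩⟩
  change ((T1 T E).subgroupOf (YY T E)).map a = (T.subgroupOf (YY T E)).map a
  rw [h1]

end Sc

/-- `K₁` is known -/
theorem Sc.known {X₁ : Type u} [Group X₁] [MulDistribMulAction X₁ (cm M E)] {a : YY T E →* X₁}
    (h : Sc T B K E lam a) [Finite X] (hX : IsKGroup X) : IsKnownSimple' (im a E) := by
  have hfin : Finite X₁ := Finite.of_surjective a h.surj
  have hs : IsSimpleGroup (im a E) := h.inN0.simple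
  refine known_of_le (Final.kgroup_of_surj hX (YY T E) a h.surj) _ hs fun hc => ?_
  have h1 : im a E ≤ centralizer (im a E : Set X₁) := by
    intro x hx
    rw [mem_centralizer_iff]
    intro y hy
    exact congrArg Subtype.val (hc.is_comm.comm (⟨y, hy⟩ : im a E) ⟨x, hx⟩)
  rw [h.cen, le_bot_iff] at h1
  obtain ⟨x, hx⟩ := exists_ne (1 : im a E)
  exact hx (Subtype.ext (mem_bot.1 (h1 ▸ x.2)))

end

/-- **(E1)** -/
theorem redT_of (ml : Final.MLK.{u, v}) : Two.RedT.{u, v} := by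
  intro H _ _ M _ _ _ T A x y h
  obtain ⟨K, E, hC⟩ := (mn_of_sysT h).exists_cmpM ml h.KH
  letI := hC.qact
  have hs := hC.sc
  have hI := hs.inX h.irr
  have hm : Mv T x y := ⟨h.tx, h.ty, h.x1, h.y1, h.mv⟩
  obtain ⟨x₁, y₁, h1⟩ := hC.mv h.irr hm (QuotientGroup.mk' hC.rep.ker) hs.act (im (QuotientGroup.mk' hC.rep.ker) (T1 T E))
    Sc.T₁_eq
  refine ⟨hC.Xq, inferInstance, inferInstance, cm M E, inferInstance, inferInstance, hC.qact, _, _, _, x₁, y₁, hI,
    hs.atm, ⟨h1.x1, h1.y1, h1.xT, h1.yT, h1.mv⟩, ?_⟩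
  exact hs.known h.KH

end Cfsg.Agent.Omega.ML.Ex.Red

end

section


/-!
# The K-list for EXACT subgroups: THEOREM EX for exact atoms (helper10)

`Dat H M G E Q n` is the situation of `ExRow.lean` (`|Q| = 2^(2n+1)`, `Q` not abelian, `E ≤ G` acts irreducibly on `Q`
modulo its subgroup of order 2 and trivially on the `G`-modules of order at most `2^n`).

* `core_triv` : `Q` acts trivially on the `G`-modules of order at most `2^(2n)`;
* **`Dat.falseX`** : `n ≥ 2`: there is no exact atom `A ≤ Q`, `|A| ≥ 4` (a strict one is excluded by `Dat.false`).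
-/

set_option autoImplicit false

namespace Cfsg.Agent.Omega.ML.Ex.ExX

open Subgroup Cfsg Cfsg.Agent.ClassTwoFusion.Quad Cfsg.Agent.Omega.NOThree.NoOver Cfsg.Agent.Omega.ML.CD
open Cfsg.Agent.Omega.ML.ExCore Cfsg.Agent.Omega.ML.ExRow

universe u v

/-- if the product of two elements outside `I` lies in `I` then `|B : I| ≤ 2` -/
theorem index_le_two {B : Type*} [Group B] (I : Subgroup B) (h : ∀ a b : B, a ∉ I → b ∉ I → a * b ∈ I) :
    I.index ≤ 2 := by
  by_cases h1 : I = ⊤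
  · rw [h1, index_top]
    norm_num
  · obtain ⟨x, hx⟩ : ∃ x, x ∉ I := by
      by_contra hc
      push Not at hc
      exact h1 (by rw [eq_top_iff]; exact fun x _ => hc x)
    refine (index_eq_two_iff.2 ⟨x, fun b => ?_⟩).le
    by_cases hb : b ∈ I
    · right
      refine ⟨hb, fun hbx => hx ?_⟩
      have h2 := I.mul_mem (I.inv_mem hb) hbx
      rwa [inv_mul_cancel_left] at h2
    · left
      exact ⟨h b x hb hx, hb⟩

section

variable {H : Type u} [Group H] [Finite H] {G E Q : Subgroup H} {n : ℕ}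

/-- `Q` acts trivially on the `G`-modules of order at most `2^(2n)`. -/
theorem core_triv (D : Dat.{u, v} H G E Q n) : TrivOn.{u, v} G (Q.subgroupOf G) (2 ^ (2 * n)) := by
  intro N _ _ _ sq hN
  have hQn : (Q.subgroupOf G).Normal := ⟨fun q hq g => D.nQ g g.2 q hq⟩
  refine core (L := G) (N := N) sq (Q := Q.subgroupOf G) (E := E.subgroupOf G) hQn
    (D.two.comap_of_injective _ G.subtype_injective) hN (by
      intro B hB hBE
      have h1 : B.map G.subtype ≤ Q := by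
        rintro _ ⟨b, hb, rfl⟩
        exact hB hb
      have h4 : B.relIndex (Q.subgroupOf G) = (B.map G.subtype).relIndex Q := by
        have h5 : (Q.subgroupOf G).map G.subtype = Q := by rw [subgroupOf_map_subtype, inf_eq_left.2 D.QG]
        rw [← relIndex_map_map_of_injective B (Q.subgroupOf G) G.subtype_injective, h5]
      rcases D.irr _ h1 (by
        rintro l hl _ ⟨b, hb, rfl⟩
        exact ⟨⟨l, D.EG hl⟩ * b * ⟨l, D.EG hl⟩⁻¹, hBE ⟨l, D.EG hl⟩ hl b hb, rfl⟩) with h6 | h6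
      · left
        rw [h4]
        exact D.le_relIndex h1 h6
      · right
        ext x
        rw [mem_subgroupOf, ← h6]
        constructor
        · intro hx
          exact ⟨x, hx, rfl⟩
        · rintro ⟨y, hy, hyx⟩
          rwa [← Subtype.ext hyx]) D.triv

/-- the center of `Q`: an involution `z`, `G` centralises it, all commutators of `Q` are in `⟨z⟩` -/
theorem exists_z (D : Dat.{u, v} H G E Q n) : ∃ z ∈ Q, z ≠ 1 ∧ z * z = 1 ∧ (∀ q ∈ Q, q * z = z * q) ∧
    (∀ g ∈ G, g * z = z * g) ∧ (∀ x ∈ Q, (∀ q ∈ Q, q * x = x * q) → x = 1 ∨ x = z) ∧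
    ∀ x ∈ Q, ∀ y ∈ Q, x * y * x⁻¹ * y⁻¹ = 1 ∨ x * y * x⁻¹ * y⁻¹ = z := by
  have hp : Fact (Nat.Prime 2) := ⟨Nat.prime_two⟩
  have hEQ : ∀ e ∈ E, ∀ q ∈ Q, e * q * e⁻¹ ∈ Q := fun e he => D.nQ e (D.EG he)
  -- conjugation by elements of `G`
  have hcen : ∀ g ∈ G, ∀ x ∈ Q, (∀ q ∈ Q, q * x = x * q) → ∀ q ∈ Q, q * (g * x * g⁻¹) = (g * x * g⁻¹) * q := by
    intro g hg x hx hc q hq
    have h1 := hc (g⁻¹ * q * g) (by
      have h2 := D.nQ g⁻¹ (G.inv_mem hg) q hq
      rwa [inv_inv] at h2)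
    calc q * (g * x * g⁻¹) = g * ((g⁻¹ * q * g) * x) * g⁻¹ := by group
      _ = g * (x * (g⁻¹ * q * g)) * g⁻¹ := by rw [h1]
      _ = _ := by group
  let Zs : Subgroup H := Q ⊓ centralizer (Q : Set H)
  have hmem : ∀ {x : H}, x ∈ Zs ↔ x ∈ Q ∧ ∀ q ∈ Q, q * x = x * q := by
    intro x
    rw [mem_inf, mem_centralizer_iff]
    rfl
  have hZ2 : Nat.card Zs ≤ 2 := by
    refine (D.irr Zs inf_le_left fun e he x hx => ?_).resolve_right fun h1 => ?_
    · rw [hmem] at hx ⊢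
      exact ⟨hEQ e he x hx.1, hcen e (D.EG he) x hx.1 hx.2⟩
    · obtain ⟨a, ha, b, hb, hab⟩ := D.nab
      have h2 : b ∈ Zs := h1 ▸ hb
      exact hab ((hmem.1 h2).2 a ha)
  -- `Z(Q) ≠ 1`
  have hQne : Nontrivial Q := by
    obtain ⟨a, ha, b, hb, hab⟩ := D.nab
    refine ⟨⟨a, ha⟩, 1, fun h1 => hab ?_⟩
    have h2 : a = 1 := congrArg Subtype.val h1
    rw [h2, one_mul, mul_one]
  have hcn := D.two.center_nontrivial
  obtain ⟨⟨⟨z, hzQ⟩, hzc⟩, hz1⟩ := exists_ne (1 : center Q)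
  have hz1' : z ≠ 1 := by
    intro h1
    apply hz1
    apply Subtype.ext
    apply Subtype.ext
    exact h1
  have hzc' : ∀ q ∈ Q, q * z = z * q := by
    intro q hq
    exact congrArg Subtype.val (mem_center_iff.1 hzc ⟨q, hq⟩)
  have hzZ : z ∈ Zs := hmem.2 ⟨hzQ, hzc'⟩
  -- elements of a group of order at most two
  have two : ∀ (B : Subgroup H), Nat.card B ≤ 2 → ∀ x ∈ B, ∀ y ∈ B, x = 1 ∨ y = 1 ∨ x = y := by
    intro B hB x hx y hy
    by_contra hc
    push Not at hc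
    obtain ⟨h1, h2, h3⟩ := hc
    have h4 : ({(1 : H), x, y} : Set H) ⊆ (B : Set H) := by
      rintro w (rfl | rfl | rfl)
      · exact B.one_mem
      · exact hx
      · exact hy
    have h5 := Set.ncard_le_ncard h4 (Set.toFinite _)
    have h6 : ({(1 : H), x, y} : Set H).ncard = 3 := by
      rw [Set.ncard_eq_three]
      exact ⟨1, x, y, fun h => h1 h.symm, fun h => h2 h.symm, h3, rfl⟩
    rw [h6] at h5
    have h7 : (B : Set H).ncard = Nat.card B := rfl
    omega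
  have huniq : ∀ x ∈ Q, (∀ q ∈ Q, q * x = x * q) → x = 1 ∨ x = z := by
    intro x hx hc
    rcases two Zs hZ2 x (hmem.2 ⟨hx, hc⟩) z hzZ with h1 | h1 | h1
    · exact Or.inl h1
    · exact absurd h1 hz1'
    · exact Or.inr h1
  refine ⟨z, hzQ, hz1', ?_, hzc', ?_, huniq, ?_⟩
  · rcases two Zs hZ2 (z * z) (Zs.mul_mem hzZ hzZ) z hzZ with h1 | h1 | h1
    · exact h1
    · exact absurd h1 hz1'
    · exact absurd (mul_eq_left.1 h1) hz1'
  · intro g hg
    have h1 := huniq _ (D.nQ g hg z hzQ) (hcen g hg z hzQ hzc')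
    rcases h1 with h1 | h1
    · exfalso
      apply hz1'
      have h2 : z = g⁻¹ * (g * z * g⁻¹) * g := by group
      rw [h2, h1]; group
    · rw [mul_inv_eq_iff_eq_mul] at h1
      exact h1
  · -- the derived group
    let C : Subgroup H := ⁅Q, Q⁆
    have hCQ : C ≤ Q := commutator_le_self Q
    have hC2 : Nat.card C ≤ 2 := by
      refine (D.irr C hCQ fun e he x hx => ?_).resolve_right fun h1 => ?_
      · have h2 : C.map (MulAut.conj e).toMonoidHom = C := by
          have h3 : Q.map (MulAut.conj e).toMonoidHom = Q := by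
            apply le_antisymm
            · rintro _ ⟨q, hq, rfl⟩
              exact hEQ e he q hq
            · intro q hq
              refine ⟨e⁻¹ * q * e, ?_, ?_⟩
              · have h4 := hEQ e⁻¹ (E.inv_mem he) q hq
                rwa [inv_inv] at h4
              · show e * (e⁻¹ * q * e) * e⁻¹ = q
                group
          show (⁅Q, Q⁆).map (MulAut.conj e).toMonoidHom = ⁅Q, Q⁆
          rw [map_commutator, h3]
        have h3 : e * x * e⁻¹ ∈ C.map (MulAut.conj e).toMonoidHom := ⟨x, hx, rfl⟩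
        rwa [h2] at h3
      · -- `Q` is nilpotent
        have hnil : Group.IsNilpotent Q := D.two.isNilpotent
        have hsol : Group.IsSolvable Q := inferInstance
        have h2 : _root_.commutator Q < ⊤ := Group.IsSolvable.commutator_lt_top_of_nontrivial Q
        apply h2.ne
        rw [eq_top_iff]
        intro x _
        have h3 : (x : H) ∈ C := by
          rw [h1]
          exact x.2
        have h4 : (_root_.commutator Q).map Q.subtype = C := by
          rw [_root_.commutator_def, map_commutator, ← MonoidHom.range_eq_map, range_subtype]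
        rw [← h4] at h3
        obtain ⟨y, hy, hyx⟩ := h3
        rwa [← Subtype.ext hyx]
    intro x hx y hy
    have h1 : x * y * x⁻¹ * y⁻¹ ∈ C := commutator_mem_commutator hx hy
    by_cases h2 : x * y * x⁻¹ * y⁻¹ = 1
    · exact Or.inl h2
    · refine huniq _ (hCQ h1) fun q hq => ?_
      have h3 : q * (x * y * x⁻¹ * y⁻¹) * q⁻¹ ∈ C := by
        have h4 : q * (x * y * x⁻¹ * y⁻¹) * q⁻¹ * (x * y * x⁻¹ * y⁻¹)⁻¹ ∈ C :=
          commutator_mem_commutator hq (hCQ h1)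
        have h5 := C.mul_mem h4 h1
        rwa [inv_mul_cancel_right] at h5
      rcases two C hC2 _ h3 _ h1 with h4 | h4 | h4
      · exfalso
        apply h2
        have h5 : x * y * x⁻¹ * y⁻¹ = q⁻¹ * (q * (x * y * x⁻¹ * y⁻¹) * q⁻¹) * q := by group
        rw [h5, h4]; group
      · exact absurd h4 h2
      · rw [mul_inv_eq_iff_eq_mul] at h4
        exact h4

end

section

variable {H : Type u} [Group H] [Finite H] {M : Type v} [Group M] [Finite M] [MulDistribMulAction H M]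
  {G E Q A : Subgroup H} {n : ℕ}

omit [Finite H] [Finite M] in
/-- a 2-group which acts trivially on `M / C_M(Q)` is abelian -/
theorem false_of_triv (D : Dat.{u, v} H G E Q n) (sq : ∀ m : M, m * m = 1)
    (faith : ∀ h : H, (∀ m : M, h • m = m) → h = 1)
    (hQF : ∀ q ∈ Q, ∀ m : M, q • m * m⁻¹ ∈ cv M (Q : Set H)) : False := by
  have hcomm := ExCore.comm_of_sq (N := M) sq
  have hmF : ∀ {m : M}, m ∈ cv M (Q : Set H) → ∀ q ∈ Q, q • m = m := fun hm q hq => hm q hq
  obtain ⟨a, ha, b, hb, hab⟩ := D.nab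
  apply hab
  have key : ∀ a ∈ Q, ∀ b ∈ Q, ∀ m : M, (a * b) • m = (b • m * m⁻¹) * ((a • m * m⁻¹) * m) := by
    intro a ha b hb m
    have h1 := hmF (hQF b hb m) a ha
    have h3 : b • m = (b • m * m⁻¹) * m := by rw [inv_mul_cancel_right]
    rw [mul_smul]
    conv_lhs => rw [h3, smul_mul', h1]
    rw [inv_mul_cancel_right]
  have h1 : (b * a)⁻¹ * (a * b) = 1 := by
    apply faith
    intro m
    rw [mul_smul, inv_smul_eq_iff, key a ha b hb, key b hb a ha, ← mul_assoc (b • m * m⁻¹),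
      hcomm (b • m * m⁻¹) (a • m * m⁻¹), mul_assoc]
  exact (inv_mul_eq_one.1 h1).symm

/-- no subgroup of `Q` over-offends -/
theorem fab_le (D : Dat.{u, v} H G E Q n) (sq : ∀ m : M, m * m = 1)
    (faith : ∀ h : H, (∀ m : M, h • m = m) → h = 1) {B : Subgroup H} (hB : B ≤ Q) :
    fab M 1 1 B ≤ Nat.card M := by
  have hf := ls_fab (H := H) M 1 1
  by_contra hc
  rw [not_le] at hc
  have h1 := hf.le_lo Q B hB
  refine D.false sq faith (hf.lo_le_self Q) (hf.strict_lo Q) ?_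
  by_contra h2
  rw [not_lt] at h2
  -- `|lo| ≤ 2`
  have h3 : Nat.card M < fab M 1 1 (lo (fab M 1 1) Q) := hc.trans_le h1
  by_cases h4 : lo (fab M 1 1) Q = ⊥
  · rw [h4, fab_bot, pow_one] at h3
    exact lt_irrefl _ h3
  · have h5 : cv M (lo (fab M 1 1) Q : Set H) ≠ ⊤ := by
      intro h6
      apply h4
      rw [eq_bot_iff]
      intro x hx
      rw [mem_bot]
      apply faith
      intro m
      have h7 : m ∈ cv M (lo (fab M 1 1) Q : Set H) := by rw [h6]; exact mem_top m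
      exact h7 x hx
    have h6 : 2 ≤ (cv M (lo (fab M 1 1) Q : Set H)).index := by
      have h7 : (cv M (lo (fab M 1 1) Q : Set H)).index ≠ 1 := fun h8 => h5 (index_eq_one.1 h8)
      have h8 : (cv M (lo (fab M 1 1) Q : Set H)).index ≠ 0 := index_ne_zero_of_finite
      omega
    have h7 := (cv M (lo (fab M 1 1) Q : Set H)).card_mul_index
    have h8 : fab M 1 1 (lo (fab M 1 1) Q) ≤ 2 * Nat.card (cv M (lo (fab M 1 1) Q : Set H)) := by
      rw [fab, pow_one, pow_one]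
      exact Nat.mul_le_mul_right _ h2
    have h9 : Nat.card (cv M (lo (fab M 1 1) Q : Set H)) * 2 ≤ Nat.card M := by
      rw [← h7]
      exact Nat.mul_le_mul_left _ h6
    omega

/-- **THEOREM EX for exact atoms.** -/
theorem Dat.falseX (D : Dat.{u, v} H G E Q n) (hn : 2 ≤ n) (sq : ∀ m : M, m * m = 1)
    (faith : ∀ h : H, (∀ m : M, h • m = m) → h = 1) (hAQ : A ≤ Q) (el : ∀ a ∈ A, a * a = 1)
    (four : 4 ≤ Nat.card A) (exact : (cv M (A : Set H)).index = Nat.card A)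
    (atom : ∀ C : Subgroup H, C ≤ A → C ≠ ⊥ → C ≠ A → Nat.card C < (cv M (C : Set H)).index) : False := by
  have hf := ls_fab (H := H) M 1 1
  have hcomm := ExCore.comm_of_sq (N := M) sq
  obtain ⟨z, hzQ, hz1, hz2, hzc, hzG, huniq, hder⟩ := exists_z D
  have hEQ : ∀ e ∈ E, ∀ q ∈ Q, e * q * e⁻¹ ∈ Q := fun e he => D.nQ e (D.EG he)
  have hle : ∀ B ≤ Q, fab M 1 1 B ≤ Nat.card M := fun B hB => fab_le D sq faith hB
  -- `A` is best
  have hcard : ∀ B : Subgroup H, fab M 1 1 B = Nat.card M → (cv M (B : Set H)).index = Nat.card B := by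
    intro B hB
    have h1 := (cv M (B : Set H)).card_mul_index
    rw [fab, pow_one, pow_one, ← h1, mul_comm] at hB
    exact (Nat.eq_of_mul_eq_mul_left Nat.card_pos hB).symm
  have hA : Best (fab M 1 1) Q A := by
    refine ⟨hAQ, fun B hB => (hle B hB).trans ?_⟩
    rw [fab, pow_one, pow_one, ← exact, mul_comm, card_mul_index]
  have hfA : fab M 1 1 A = Nat.card M := by
    rw [fab, pow_one, pow_one, ← exact, mul_comm, card_mul_index]
  have hbest : ∀ {B : Subgroup H}, Best (fab M 1 1) Q B → (cv M (B : Set H)).index = Nat.card B :=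
    fun hB => hcard _ ((hB.eq hA).trans hfA)
  -- `Q` is best
  have hQ : Best (fab M 1 1) Q Q := by
    have h1 : A ≤ hi (fab M 1 1) Q := le_hi hA
    have h4 : G ≤ normalizer (Q : Set H) := by
      intro g hg
      rw [mem_normalizer_iff]
      intro x
      refine ⟨fun hx => D.nQ g hg x hx, fun hx => ?_⟩
      have h5 := D.nQ g⁻¹ (G.inv_mem hg) _ hx
      have h6 : g⁻¹ * (g * x * g⁻¹) * g⁻¹⁻¹ = x := by group
      rwa [h6] at h5
    have h5 := h4.trans (hf.normalizer_le_hi Q)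
    have h6 : hi (fab M 1 1) Q = Q := by
      refine (D.irr _ (hf.hi_le_self Q) fun l hl x hx => ?_).resolve_left fun h6 => ?_
      · exact (mem_normalizer_iff.1 (h5 (D.EG hl)) x).1 hx
      · have h7 := card_le_of_le h1
        omega
    have h7 := hf.best_hi Q
    rwa [h6] at h7
  have hFidx : (cv M (Q : Set H)).index = 2 ^ (2 * n + 1) := by rw [hbest hQ, D.card]
  -- `z ∈ A`
  have hzA : z ∈ A := by
    by_contra hzA
    obtain ⟨a, haA, ha1⟩ : ∃ a ∈ A, a ≠ 1 := by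
      by_contra hc
      push Not at hc
      have h1 : A = ⊥ := by rw [eq_bot_iff]; exact fun x hx => mem_bot.2 (hc x hx)
      rw [h1, card_bot] at four
      omega
    obtain ⟨q, hq, hqa⟩ : ∃ q ∈ Q, q * a ≠ a * q := by
      by_contra hc
      push Not at hc
      rcases huniq a (hAQ haA) hc with h1 | h1
      · exact ha1 h1
      · exact hzA (h1 ▸ haA)
    have hqz : q * a * q⁻¹ * a⁻¹ = z := by
      rcases hder q hq a (hAQ haA) with h1 | h1
      · exfalso
        apply hqa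
        rwa [mul_inv_eq_one, mul_inv_eq_iff_eq_mul] at h1
      · exact h1
    have hcj : cj q A ≤ Q := by
      rintro _ ⟨x, hx, rfl⟩
      exact Q.mul_mem (Q.mul_mem hq (hAQ hx)) (Q.inv_mem hq)
    have hbc : Best (fab M 1 1) Q (cj q A) := hA.of_le hcj (hf.conj q A).ge
    have hbi := (hf.best_sup_inf hA hbc).2
    -- `A ∩ A^q ≠ A`
    have hne : A ⊓ cj q A ≠ A := by
      intro h1
      have h2 : A ≤ cj q A := inf_eq_left.1 h1
      have h3 : Nat.card (cj q A) = Nat.card A :=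
        (Nat.card_congr (A.equivMapOfInjective _ (MulAut.conj q).injective).toEquiv).symm
      have h4 : A = cj q A := eq_of_le_of_card_ge h2 h3.le
      have h5 : q * a * q⁻¹ ∈ A := by
        rw [h4]
        exact ⟨a, haA, rfl⟩
      apply hzA
      rw [← hqz]
      exact A.mul_mem h5 (A.inv_mem haA)
    -- `A ∩ A^q ≠ 1`
    have hmem : ∀ b ∈ A, q * b = b * q → b ∈ A ⊓ cj q A := by
      intro b hb hc
      refine ⟨hb, mem_cj.2 ?_⟩
      have h1 : q⁻¹ * b * q = b := by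
        calc q⁻¹ * b * q = q⁻¹ * (b * q) := by group
          _ = q⁻¹ * (q * b) := by rw [hc]
          _ = b := by group
      rwa [h1]
    have hne' : A ⊓ cj q A ≠ ⊥ := by
      intro h1
      obtain ⟨b, hbA, hb1, hba⟩ : ∃ b ∈ A, b ≠ 1 ∧ b ≠ a := by
        by_contra hc
        push Not at hc
        have h2 : (A : Set H) ⊆ {1, a} := by
          intro x hx
          by_cases h3 : x = 1
          · exact Or.inl h3
          · exact Or.inr (hc x hx h3)
        have h3 := Set.ncard_le_ncard h2 (Set.toFinite _)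
        have h4 : ({1, a} : Set H).ncard ≤ 2 := (Set.ncard_insert_le _ _).trans (by rw [Set.ncard_singleton])
        have h5 : (A : Set H).ncard = Nat.card A := rfl
        omega
      have hnc : q * b ≠ b * q := fun hc => hb1 (mem_bot.1 (h1 ▸ hmem b hbA hc))
      have hqb : q * b * q⁻¹ * b⁻¹ = z := by
        rcases hder q hq b (hAQ hbA) with h2 | h2
        · exfalso
          apply hnc
          rwa [mul_inv_eq_one, mul_inv_eq_iff_eq_mul] at h2
        · exact h2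
      have h2 : q * a = z * a * q := by
        rw [← hqz]; group
      have h3 : q * b = z * b * q := by
        rw [← hqb]; group
      have h4 : q * (a * b) = a * b * q := by
        calc q * (a * b) = (q * a) * b := by group
          _ = z * a * (q * b) := by rw [h2]; group
          _ = z * a * (z * b * q) := by rw [h3]
          _ = z * (a * z) * b * q := by group
          _ = z * (z * a) * b * q := by rw [hzc a (hAQ haA)]
          _ = (z * z) * (a * b * q) := by group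
          _ = a * b * q := by rw [hz2, one_mul]
      have h5 := mem_bot.1 (h1 ▸ hmem (a * b) (A.mul_mem haA hbA) h4)
      have h6 : b = a := by
        calc b = (a * a) * b := by rw [el a haA, one_mul]
          _ = a * (a * b) := by group
          _ = a := by rw [h5, mul_one]
      exact hba h6
    have h1 := atom _ inf_le_left hne' hne
    rw [hbest hbi] at h1
    exact lt_irrefl _ h1
  -- `C = C_M(z)`
  obtain ⟨C, hC⟩ : ∃ C : Subgroup M, C = cv M ((zpowers z : Subgroup H) : Set H) := ⟨_, rfl⟩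
  have hmC : ∀ {m : M}, m ∈ C ↔ z • m = m := by
    intro m
    rw [hC]
    constructor
    · intro h
      exact h z (mem_zpowers z)
    · intro h x hx
      have h1 : zpowers z ≤ MulAction.stabilizer H m := by
        rw [zpowers_le]
        exact MulAction.mem_stabilizer_iff.2 h
      exact MulAction.mem_stabilizer_iff.1 (h1 hx)
  have hCidx : 2 < C.index := by
    have h1 : Nat.card (zpowers z) = 2 := by
      rw [Nat.card_zpowers]
      exact orderOf_eq_prime (by rw [pow_two, hz2]) hz1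
    have h2 := atom (zpowers z) (by rwa [zpowers_le]) (by rwa [Ne, zpowers_eq_bot]) (by
      intro h3
      rw [← h3, h1] at four
      omega)
    rwa [h1, ← hC] at h2
  obtain ⟨F, hF⟩ : ∃ F : Subgroup M, F = cv M (Q : Set H) := ⟨_, rfl⟩
  have hmF : ∀ {m : M}, m ∈ F ↔ ∀ q ∈ Q, q • m = m := by
    intro m
    rw [hF]
    exact Iff.rfl
  have hFC : F ≤ C := fun m hm => hmC.2 (hmF.1 hm z hzQ)
  have hGF : ∀ g ∈ G, ∀ x ∈ F, g • x ∈ F := by
    intro g hg x hx
    rw [hmF] at hx ⊢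
    intro q hq
    have h1 := D.nQ _ (G.inv_mem hg) q hq
    rw [inv_inv] at h1
    have h2 := hx _ h1
    rw [mul_smul, mul_smul, inv_smul_eq_iff] at h2
    exact h2
  have hGC : ∀ g ∈ G, ∀ x ∈ C, g • x ∈ C := by
    intro g hg x hx
    rw [hmC] at hx ⊢
    rw [← mul_smul, ← hzG g hg, mul_smul, hx]
  have hQC : ∀ q ∈ Q, ∀ x ∈ C, q • x ∈ C := fun q hq => hGC q (D.QG hq)
  have hfin : ¬ ∀ q ∈ Q, ∀ m : M, q • m * m⁻¹ ∈ F := by
    intro h1
    rw [hF] at h1
    exact false_of_triv D sq faith h1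
  -- `[M, z] ≤ F` if `[M, Q] ≤ C`
  -- indices
  have hmul : F.relIndex C * C.index = 2 ^ (2 * n + 1) := by
    rw [relIndex_mul_index hFC, hF, hFidx]
  have hpow : ∀ k : ℕ, k ∣ 2 ^ (2 * n + 1) → ∃ j, k = 2 ^ j := by
    intro k hk
    obtain ⟨j, -, hj⟩ := (Nat.dvd_prime_pow Nat.prime_two).1 hk
    exact ⟨j, hj⟩
  obtain ⟨i, hi'⟩ := hpow _ (Dvd.intro _ hmul)
  obtain ⟨j, hj⟩ := hpow _ (Dvd.intro_left _ hmul)
  have hij : i + j = 2 * n + 1 := by
    rw [hi', hj, ← pow_add] at hmul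
    exact Nat.pow_right_injective (le_refl 2) hmul
  have hj2 : 2 ≤ j := by
    rw [hj] at hCidx
    have h1 : 2 ^ 1 < 2 ^ j := by rwa [pow_one]
    exact (Nat.pow_lt_pow_iff_right (by norm_num)).1 h1
  -- trivial actions
  have hsecQ : ∀ {U V : Subgroup M}, (∀ g ∈ G, ∀ x ∈ U, g • x ∈ U) → (∀ g ∈ G, ∀ x ∈ V, g • x ∈ V) →
      U.relIndex V ≤ 2 ^ (2 * n) → ∀ q ∈ Q, ∀ x ∈ V, q • x * x⁻¹ ∈ U := by
    intro U V hU hV hc q hq x hx
    exact (core_triv D).sec sq (fun l x hx => hU l l.2 x hx) (fun l x hx => hV l l.2 x hx) hc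
      (l := ⟨q, D.QG hq⟩) hq hx
  have hsecE : ∀ {U V : Subgroup M}, (∀ g ∈ G, ∀ x ∈ U, g • x ∈ U) → (∀ g ∈ G, ∀ x ∈ V, g • x ∈ V) →
      U.relIndex V ≤ 2 ^ n → ∀ e ∈ E, ∀ x ∈ V, e • x * x⁻¹ ∈ U := by
    intro U V hU hV hc e he x hx
    exact D.triv.sec sq (fun l x hx => hU l l.2 x hx) (fun l x hx => hV l l.2 x hx) hc
      (l := ⟨e, D.EG he⟩) he hx
  have hGT : ∀ g ∈ G, ∀ x ∈ (⊤ : Subgroup M), g • x ∈ (⊤ : Subgroup M) := fun _ _ _ _ => mem_top _
  rcases Nat.eq_zero_or_pos i with hi0 | hi0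
  · -- `C = F`
    have hCF : C ≤ F := by
      rw [← relIndex_eq_one, hi', hi0, pow_zero]
    apply hfin
    intro q hq m
    -- first `[M, z] ≤ F`
    have h1 : z • m * m⁻¹ ∈ F := hCF (hmC.2 (by
      rw [smul_mul', ← mul_smul, hz2, one_smul, smul_inv', hcomm]
      have h2 : ∀ w : M, w⁻¹ = w := fun w => inv_eq_of_mul_eq_one_right (sq w)
      rw [h2, h2 m]))
    apply hCF
    rw [hmC, smul_mul', smul_inv', ← mul_smul, ← hzc q hq, mul_smul]
    have h2 : z • m = (z • m * m⁻¹) * m := by rw [inv_mul_cancel_right]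
    have h3 := hmF.1 h1 q hq
    rw [h2, smul_mul', h3, mul_inv_rev]
    rw [hcomm (z • m * m⁻¹) (q • m), mul_assoc, hcomm m⁻¹, ← mul_assoc (z • m * m⁻¹), mul_inv_cancel, one_mul]
  · have hMC : ∀ q ∈ Q, ∀ m : M, q • m * m⁻¹ ∈ C := by
      intro q hq m
      refine hsecQ hGC hGT ?_ q hq m (mem_top m)
      rw [relIndex_top_right, hj]
      exact Nat.pow_le_pow_right (by norm_num) (by omega)
    have hCFQ : ∀ q ∈ Q, ∀ c ∈ C, q • c * c⁻¹ ∈ F := by
      refine hsecQ hGF hGC ?_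
      rw [hi']
      exact Nat.pow_le_pow_right (by norm_num) (by omega)
    push Not at hfin
    obtain ⟨q, hq, m, hqm⟩ := hfin
    -- `D_m`
    have hFQ : ∀ q ∈ Q, ∀ x ∈ F, q • x ∈ F := fun q hq => hGF q (D.QG hq)
    have hDm : (dn Q F hFQ m).relIndex Q ≤ 2 ^ i := by
      rw [← hi']
      exact relIndex_dn_le sq hFQ (fun q hq => hMC q hq m) hCFQ
    have hDQ : dn Q F hFQ m ≤ Q := fun x hx => hx.1
    rcases Nat.lt_or_ge n j with hjn | hjn
    · -- `E` is trivial on `C / F`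
      have hEC : ∀ e ∈ E, ∀ c ∈ C, e • c * c⁻¹ ∈ F := by
        refine hsecE hGF hGC ?_
        rw [hi']
        exact Nat.pow_le_pow_right (by norm_num) (by omega)
      obtain ⟨c, hc⟩ : ∃ c : M, c = q • m * m⁻¹ := ⟨_, rfl⟩
      have hcC : c ∈ C := by rw [hc]; exact hMC q hq m
      have hcF : c ∉ F := by rw [hc]; exact hqm
      have hbQ : ∀ q ∈ Q, ∀ x ∈ (⊥ : Subgroup M), q • x ∈ (⊥ : Subgroup M) := by
        intro q _ x hx
        rw [mem_bot] at hx ⊢
        rw [hx, smul_one]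
      have hKmem : ∀ {x : H}, x ∈ dn Q (⊥ : Subgroup M) hbQ c ↔ x ∈ Q ∧ x • c = c := by
        intro x
        rw [mem_dn, mem_bot, mul_inv_eq_one]
      have hKQ : dn Q (⊥ : Subgroup M) hbQ c ≤ Q := fun x hx => hx.1
      have hK2 : Nat.card (dn Q (⊥ : Subgroup M) hbQ c) ≤ 2 := by
        refine (D.irr _ hKQ fun e he x hx => ?_).resolve_right fun h1 => ?_
        · rw [hKmem] at hx ⊢
          refine ⟨hEQ e he x hx.1, ?_⟩
          have h1 := hEC e⁻¹ (E.inv_mem he) c hcC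
          have h2 : e⁻¹ • c = (e⁻¹ • c * c⁻¹) * c := by rw [inv_mul_cancel_right]
          rw [mul_smul, mul_smul, h2, smul_mul', hmF.1 h1 x hx.1, hx.2, inv_mul_cancel_right, smul_inv_smul]
        · apply hcF
          rw [hmF]
          intro y hy
          rw [← h1] at hy
          exact (hKmem.1 hy).2
      -- an element of `D_m` which commutes with `q`
      have hidx : ((centralizer ({q} : Set H)).subgroupOf (dn Q F hFQ m)).index ≤ 2 := by
        apply index_le_two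
        intro a b ha hb
        rw [mem_subgroupOf, mem_centralizer_singleton_iff] at ha hb ⊢
        have key : ∀ x ∈ Q, x * q ≠ q * x → x * q = z * q * x := by
          intro x hx hne
          rcases hder x hx q hq with h1 | h1
          · exfalso
            apply hne
            rwa [mul_inv_eq_one, mul_inv_eq_iff_eq_mul] at h1
          · rw [← h1]; group
        have ha' := key a (hDQ a.2) ha
        have hb' := key b (hDQ b.2) hb
        show (a : H) * b * q = q * (a * b)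
        calc (a : H) * b * q = a * (b * q) := by group
          _ = (a * z) * (q * b) := by rw [hb']; group
          _ = (z * a) * (q * b) := by rw [hzc a (hDQ a.2)]
          _ = z * (a * q) * b := by group
          _ = (z * z) * (q * (a * b)) := by rw [ha']; group
          _ = _ := by rw [hz2, one_mul]
      have hDcard : 2 ^ (n + 1) ≤ Nat.card (dn Q F hFQ m) := by
        have h1 : Nat.card (dn Q F hFQ m) * (dn Q F hFQ m).relIndex Q = Nat.card Q := by
          rw [← relIndex_bot_left, ← relIndex_bot_left Q]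
          exact relIndex_mul_relIndex _ _ _ bot_le hDQ
        rw [D.card] at h1
        have h2 : (dn Q F hFQ m).relIndex Q ≤ 2 ^ n := hDm.trans (Nat.pow_le_pow_right (by norm_num) (by omega))
        by_contra h3
        rw [not_le] at h3
        have h4 : Nat.card (dn Q F hFQ m) * (dn Q F hFQ m).relIndex Q < 2 ^ (n + 1) * 2 ^ n :=
          lt_of_le_of_lt (Nat.mul_le_mul_left _ h2) (Nat.mul_lt_mul_of_pos_right h3 (by positivity))
        rw [h1, ← pow_add] at h4
        have h5 : n + 1 + n = 2 * n + 1 := by omega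
        rw [h5] at h4
        exact lt_irrefl _ h4
      obtain ⟨q', hq'D, hq'c, hq'K⟩ : ∃ q' ∈ dn Q F hFQ m, q' * q = q * q' ∧
          q' ∉ dn Q (⊥ : Subgroup M) hbQ c := by
        by_contra hcon
        push Not at hcon
        have h1 : (((centralizer ({q} : Set H)).subgroupOf (dn Q F hFQ m)).map (dn Q F hFQ m).subtype) ≤
            dn Q (⊥ : Subgroup M) hbQ c := by
          rintro _ ⟨x, hx, rfl⟩
          rw [SetLike.mem_coe, mem_subgroupOf, mem_centralizer_singleton_iff] at hx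
          exact hcon x x.2 hx
        have h2 := card_le_of_le h1
        rw [card_map_of_injective (dn Q F hFQ m).subtype_injective] at h2
        have h3 := ((centralizer ({q} : Set H)).subgroupOf (dn Q F hFQ m)).card_mul_index
        have h4 : Nat.card (dn Q F hFQ m) ≤ 2 * 2 := by
          rw [← h3]
          exact Nat.mul_le_mul (h2.trans hK2) hidx
        have h5 : 2 ^ 3 ≤ 2 ^ (n + 1) := Nat.pow_le_pow_right (by norm_num) (by omega)
        omega
      apply hq'K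
      rw [hKmem]
      refine ⟨hq'D.1, ?_⟩
      have h1 : q' • m = (q' • m * m⁻¹) * m := by rw [inv_mul_cancel_right]
      have h2 := hmF.1 hq'D.2 q hq
      calc q' • c = (q' * q) • m * (q' • m)⁻¹ := by rw [hc, smul_mul', smul_inv', mul_smul]
        _ = q • (q' • m) * (q' • m)⁻¹ := by rw [hq'c, mul_smul]
        _ = (q' • m * m⁻¹) * (q • m) * ((q' • m * m⁻¹) * m)⁻¹ := by
          conv_lhs => rw [h1, smul_mul', h2]
        _ = c := by
          rw [mul_inv_rev, hc, ← mul_assoc, mul_assoc (q' • m * m⁻¹), hcomm (q' • m * m⁻¹), mul_inv_cancel_right]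
    · -- `E` is trivial on `M / C`
      have hEM : ∀ e ∈ E, ∀ w : M, e • w * w⁻¹ ∈ C := by
        intro e he w
        refine hsecE hGC hGT ?_ e he w (mem_top w)
        rw [relIndex_top_right, hj]
        exact Nat.pow_le_pow_right (by norm_num) (by omega)
      rcases D.irr (dn Q F hFQ m) hDQ (fun e he x hx => by
        refine ⟨hEQ e he x hx.1, ?_⟩
        have h1 := hEM e⁻¹ (E.inv_mem he) m
        have h2 : e⁻¹ • m = (e⁻¹ • m * m⁻¹) * m := by rw [inv_mul_cancel_right]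
        have h3 := hCFQ x hx.1 _ h1
        have h4 : x • (e⁻¹ • m) * (e⁻¹ • m)⁻¹ ∈ F := by
          have h5 : x • (e⁻¹ • m) * (e⁻¹ • m)⁻¹ =
              (x • (e⁻¹ • m * m⁻¹) * (e⁻¹ • m * m⁻¹)⁻¹) * (x • m * m⁻¹) := by
            conv_lhs => rw [h2, smul_mul', mul_inv_rev]
            rw [mul_assoc, mul_assoc, hcomm (e⁻¹ • m * m⁻¹)⁻¹, mul_assoc]
          rw [h5]
          exact F.mul_mem h3 hx.2
        have h5 := hGF e (D.EG he) _ h4
        rwa [smul_mul', smul_inv', smul_inv_smul, ← mul_smul, ← mul_smul] at h5) with h1 | h1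
      · have h2 := (D.le_relIndex hDQ h1).trans hDm
        have h3 := (Nat.pow_le_pow_iff_right (by norm_num : 1 < 2)).1 h2
        omega
      · apply hqm
        have h2 : q ∈ dn Q F hFQ m := by rw [h1]; exact hq
        exact h2.2

end

end Cfsg.Agent.Omega.ML.Ex.ExX

end

section


/-!
# The K-list for EXACT subgroups: the rows with a sheet, by THEOREM EX (helper10)

* `dat_of_rec` : the record `Rec C P R n` in the normal subgroup `K` of `H` gives the situation `Dat` in `H`;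
* `le_conj` : in the situation `ASx S T A`, `SheetX z P R` : `A ≤ R^g` for some `g`;
* **`deadN_of_sheet`** : a class of groups with `SheetX z P R`, `|R| = 2^(2n+1)`, `n ≥ 2`, `TrivC .. n` is dead.
-/

set_option autoImplicit false

namespace Cfsg.Agent.Omega.ML.Ex.Sheet

open Subgroup Cfsg Cfsg.Agent.ClassTwoFusion.Quad Cfsg.Agent.Omega.NOThree.NoOver Cfsg.Agent.Omega.ML.CD
open Cfsg.Agent.ZN (o2)
open Cfsg.Agent.Omega.ML.ExCore Cfsg.Agent.Omega.ML.ExRec Cfsg.Agent.Omega.ML.ExRow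
open Cfsg.Agent.OddHalf.D8.Sheet Cfsg.Agent.OddHalf.D8.JTwo.Sheet
open Cfsg.Agent.MinSimple.VModule (o2_isPGroup o2_le le_o2 le_normalizer_o2)

universe u v w

/-! ### Conjugates of exact atoms -/

section cjs

variable {H : Type u} [Group H] {M : Type v} [Group M] [Finite M] [MulDistribMulAction H M]

theorem index_cv_cj (g : H) (B : Subgroup H) : (cv M (cj g B : Set H)).index = (cv M (B : Set H)).index := by
  have h1 := (cv M (cj g B : Set H)).card_mul_index
  have h2 := (cv M (B : Set H)).card_mul_index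
  have h3 : Nat.card (cv M (cj g B : Set H)) = Nat.card (cv M (B : Set H)) := by
    have h4 : cv M (cj g B : Set H) = _ := QData.cv_map_conj (V := M) B g
    rw [h4]
    exact (Nat.card_congr ((cv M (B : Set H)).equivMapOfInjective _
      (MulDistribMulAction.toMulEquiv M g : M ≃* M).injective).toEquiv).symm
  rw [h3, ← h2] at h1
  exact Nat.eq_of_mul_eq_mul_left Nat.card_pos h1

omit [Finite M] in
theorem card_cj (g : H) (B : Subgroup H) : Nat.card (cj g B) = Nat.card B :=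
  (Nat.card_congr (B.equivMapOfInjective _ (MulAut.conj g).injective).toEquiv).symm

/-- **THEOREM EX for a conjugate of the exact atom** -/
theorem false_of_le_cj [Finite H] {G E Q A : Subgroup H} {n : ℕ} (D : Dat.{u, v} H G E Q n) (hn : 2 ≤ n)
    (sq : ∀ m : M, m * m = 1) (faith : ∀ h : H, (∀ m : M, h • m = m) → h = 1) (g : H) (hAQ : cj g A ≤ Q)
    (el : ∀ a ∈ A, a * a = 1) (four : 4 ≤ Nat.card A) (exact : (cv M (A : Set H)).index = Nat.card A)
    (atom : ∀ C : Subgroup H, C ≤ A → C ≠ ⊥ → C ≠ A → Nat.card C < (cv M (C : Set H)).index) : False := by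
  refine ExX.Dat.falseX D hn sq faith hAQ ?_ ?_ ?_ ?_
  · rintro _ ⟨a, ha, rfl⟩
    show g * a * g⁻¹ * (g * a * g⁻¹) = 1
    have h1 : g * a * g⁻¹ * (g * a * g⁻¹) = g * (a * a) * g⁻¹ := by group
    rw [h1, el a ha, mul_one, mul_inv_cancel]
  · rwa [card_cj]
  · rw [index_cv_cj, card_cj, exact]
  · intro C hC hC1 hCA
    have h1 : cj g⁻¹ C ≤ A := by
      rw [cj_le_iff, inv_inv]
      exact hC
    have h2 := atom (cj g⁻¹ C) h1 (fun h3 => hC1 (by
      have h4 : cj g (cj g⁻¹ C) = C := by rw [cj_cj, mul_inv_cancel, cj_one]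
      rw [← h4, h3]
      exact Subgroup.map_bot _)) (fun h3 => hCA (by
      rw [← h3, cj_cj, mul_inv_cancel, cj_one]))
    rwa [card_cj, index_cv_cj] at h2

end cjs

/-! ### The record in a normal subgroup -/

/-- **the record in `K` gives the situation in `H`** -/
theorem dat_of_rec {H : Type u} [Group H] [Finite H] {K : Subgroup H} {C P R : Subgroup K} {n : ℕ}
    (h : Rec.{u, v, u} C P R n) : Dat.{u, v} H (C.map K.subtype) (P.map K.subtype) (R.map K.subtype) n where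
  QG := map_mono h.RC
  EG := map_mono h.PC
  nQ := by
    rintro _ ⟨c, hc, rfl⟩ _ ⟨r, hr, rfl⟩
    exact ⟨c * r * c⁻¹, h.nR c hc r hr, by simp⟩
  card := by rw [card_map_of_injective K.subtype_injective, h.card]
  nab := by
    obtain ⟨a, ha, b, hb, hab⟩ := h.nab
    exact ⟨a, ⟨a, ha, rfl⟩, b, ⟨b, hb, rfl⟩, fun h1 => hab (Subtype.ext h1)⟩
  irr := by
    intro D hD hDE
    have hmap : (D.comap K.subtype).map K.subtype = D := by
      refine map_comap_eq_self ?_
      rw [range_subtype]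
      exact hD.trans (map_subtype_le _)
    have h1 : D.comap K.subtype ≤ R := by
      intro x hx
      obtain ⟨r, hr, hrx⟩ := hD hx
      rwa [← K.subtype_injective hrx]
    rcases h.irr _ h1 (fun x hx b hb => by
      have h2 := hDE (x : H) ⟨x, hx, rfl⟩ (b : H) hb
      exact h2) with h2 | h2
    · left
      rwa [← hmap, card_map_of_injective K.subtype_injective]
    · right
      rw [← hmap, h2]
  triv := by
    -- the group `C.map K.subtype ≃* C`
    let e : C ≃* C.map K.subtype := C.equivMapOfInjective _ K.subtype_injective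
    have he : ∀ c : C, ((e c : C.map K.subtype) : H) = ((c : K) : H) := fun c => rfl
    let p : (C.map K.subtype : Subgroup H) →* C := e.symm.toMonoidHom
    have hp : ∀ g, (((p g : C) : K) : H) = g := by
      intro g
      have h1 : e (p g) = g := e.apply_symm_apply g
      rw [← he, h1]
    have hker : p.ker = ⊥ := by
      rw [MonoidHom.ker_eq_bot_iff]
      exact e.symm.injective
    have h1 := h.triv (C.map K.subtype) p e.symm.surjective (by rw [hker]; exact bot_le) (by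
      rw [hker, card_bot]; exact odd_one)
    intro V _ _ _ h2 hc l hl
    refine h1 V h2 hc l ?_
    -- `E ≤ [E, E]`
    have h3 : (P.subgroupOf C).comap p = (P.map K.subtype).subgroupOf (C.map K.subtype) := by
      ext x
      rw [mem_comap, mem_subgroupOf, mem_subgroupOf]
      constructor
      · intro hx
        exact ⟨_, hx, hp x⟩
      · rintro ⟨y, hy, hyx⟩
        have h4 : y = ((p x : C) : K) := K.subtype_injective (hyx.trans (hp x).symm)
        rwa [← h4]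
    rw [h3]
    have h4 : ((⁅(P.map K.subtype).subgroupOf (C.map K.subtype),
        (P.map K.subtype).subgroupOf (C.map K.subtype)⁆ : Subgroup (C.map K.subtype)).map
          (C.map K.subtype).subtype) = P.map K.subtype := by
      rw [map_commutator, subgroupOf_map_subtype, inf_eq_left.2 (map_mono h.PC), ← map_commutator, h.perf]
    have h5 : (l : H) ∈ P.map K.subtype := hl
    rw [← h4] at h5
    obtain ⟨y, hy, hyl⟩ := h5
    rwa [← Subtype.ext hyl]

/-! ### The group-theoretic part (`ShE.lean` with `H = KT`) -/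

section group

variable {X : Type u} [Group X] {S T A : Subgroup X}

/-- **`A ≤ O₂(C_X(z))^g`, `g ∈ S`.** -/
theorem le_o2_conj [Finite X] (h : ASx S T A) {z : S} (hz1 : z ≠ 1)
    (hz : ∃ S₀ : Sylow 2 S, z ∈ S₀ ∧ (∀ x ∈ S₀, x * z = z * x) ∧ ∀ y ∈ S₀, (∀ x ∈ S₀, x * y = y * x) → y = 1 ∨ y = z) :
    ∃ g : S, ∀ a ∈ A, (g : X)⁻¹ * a * g ∈ o2 (centralizer ({(z : X)} : Set X)) := by
  have hS := h.norm
  obtain ⟨g, hg⟩ := ShE.exists_conj hS h.two h.syl hz
  refine ⟨g, ?_⟩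
  have hne : centralizer ({((g : X) * z * (g : X)⁻¹)} : Set X) ≠ ⊤ := by
    intro h1
    have h2 : (z : X) ∈ centralizer (S : Set X) := by
      rw [mem_centralizer_iff]
      intro y _
      have h3 : (g * y * (g : X)⁻¹) * (g * z * (g : X)⁻¹) = (g * z * (g : X)⁻¹) * (g * y * (g : X)⁻¹) :=
        mem_centralizer_singleton_iff.1 (h1 ▸ mem_top _)
      calc y * (z : X) = (g : X)⁻¹ * ((g * y * (g : X)⁻¹) * (g * z * (g : X)⁻¹)) * g := by group
        _ = (g : X)⁻¹ * ((g * z * (g : X)⁻¹) * (g * y * (g : X)⁻¹)) * g := by rw [h3]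
        _ = z * y := by group
    rw [h.cen, mem_bot] at h2
    exact hz1 (Subtype.ext h2)
  have hle := h.low _ hg hne
  intro a ha
  have h1 := hle ha
  have h2 : (o2 (centralizer ({((g : X) * z * (g : X)⁻¹)} : Set X))).map (MulAut.conj (g : X)⁻¹).toMonoidHom ≤
      o2 (centralizer ({(z : X)} : Set X)) := by
    have hc1 : ∀ x ∈ centralizer ({((g : X) * z * (g : X)⁻¹)} : Set X), (g : X)⁻¹ * x * g ∈ centralizer ({(z : X)} : Set X) := by
      intro x hx
      rw [mem_centralizer_singleton_iff] at hx ⊢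
      calc (g : X)⁻¹ * x * g * z = (g : X)⁻¹ * (x * (g * z * (g : X)⁻¹)) * g := by group
        _ = (g : X)⁻¹ * ((g * z * (g : X)⁻¹) * x) * g := by rw [hx]
        _ = z * ((g : X)⁻¹ * x * g) := by group
    have hc2 : ∀ x ∈ centralizer ({(z : X)} : Set X), (g : X) * x * (g : X)⁻¹ ∈ centralizer ({((g : X) * z * (g : X)⁻¹)} : Set X) := by
      intro x hx
      rw [mem_centralizer_singleton_iff] at hx ⊢
      calc (g : X) * x * (g : X)⁻¹ * (g * z * (g : X)⁻¹) = (g : X) * (x * z) * (g : X)⁻¹ := by group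
        _ = (g : X) * (z * x) * (g : X)⁻¹ := by rw [hx]
        _ = _ := by group
    refine le_o2 ?_ ((o2_isPGroup _).map _) ?_
    · rintro _ ⟨x, hx, rfl⟩
      have h3 := hc1 x (o2_le _ hx)
      rw [MulEquiv.toMonoidHom_eq_coe, MonoidHom.coe_coe, MulAut.conj_apply, inv_inv]
      exact h3
    · have key : ∀ x ∈ centralizer ({(z : X)} : Set X), ∀ y ∈ (o2 (centralizer ({((g : X) * z * (g : X)⁻¹)} : Set X))).map
          (MulAut.conj (g : X)⁻¹).toMonoidHom, x * y * x⁻¹ ∈ (o2 (centralizer ({((g : X) * z * (g : X)⁻¹)} : Set X))).map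
          (MulAut.conj (g : X)⁻¹).toMonoidHom := by
        rintro x hx _ ⟨y, hy, rfl⟩
        refine ⟨(g * x * (g : X)⁻¹) * y * (g * x * (g : X)⁻¹)⁻¹, ?_, ?_⟩
        · exact (mem_normalizer_iff.1 (le_normalizer_o2 _ (hc2 x hx)) y).1 hy
        · rw [MulEquiv.toMonoidHom_eq_coe, MonoidHom.coe_coe, MulAut.conj_apply, MulAut.conj_apply]
          group
      intro x hx
      rw [mem_normalizer_iff]
      intro y
      refine ⟨fun hy => key x hx y hy, fun hy => ?_⟩
      have h3 := key x⁻¹ (inv_mem hx) _ hy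
      have h4 : x⁻¹ * (x * y * x⁻¹) * x⁻¹⁻¹ = y := by group
      rwa [h4] at h3
  apply h2
  refine ⟨a, h1, ?_⟩
  rw [MulEquiv.toMonoidHom_eq_coe, MonoidHom.coe_coe, MulAut.conj_apply, inv_inv]

/-- **`A ≤ R^g`.** -/
theorem le_conj [Finite X] (h : ASx S T A) {z : S} {P R : Subgroup S} (hz : SheetX z P R) :
    ∃ g : X, ∀ a ∈ A, g⁻¹ * a * g ∈ R.map S.subtype := by
  obtain ⟨g, hg⟩ := le_o2_conj h hz.z1 hz.syl
  exact ⟨g, fun a ha => ShE.o2_le_R h.norm h.cen hz (hg a ha)⟩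

end group

/-! ### The rows -/

/-- **The row of a class of groups with a sheet.** -/
theorem deadN_of_sheet {𝒮 : ∀ (S : Type u) [Group S], Prop}
    (hS : ∀ (S : Type u) [Group S] [Finite S], 𝒮 S → ∃ (z : S) (P R : Subgroup S) (n : ℕ), 2 ≤ n ∧ SheetX z P R ∧
      Nat.card R = 2 ^ (2 * n + 1) ∧ TrivC.{u, v, u} (centralizer ({z} : Set S)) P n) : DeadN.{u, v} 𝒮 := by
  intro H _ _ M _ _ _ K T A h hK
  obtain ⟨z, P, R, n, hn, hsh, hcard, ht⟩ := hS K hK
  obtain ⟨g, hg⟩ := le_conj h.asx hsh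
  refine false_of_le_cj (dat_of_rec (Rec.of_sheet hsh hcard ht)) hn h.sq h.faith g⁻¹ (A := A) ?_ h.el h.four h.exact
    h.atom
  rintro _ ⟨a, ha, rfl⟩
  have h1 := hg a ha
  rw [MulEquiv.toMonoidHom_eq_coe, MonoidHom.coe_coe, MulAut.conj_apply, inv_inv]
  exact h1

end Cfsg.Agent.Omega.ML.Ex.Sheet

end

end

-- merged: Cfsg.Agent.Mrg.Omega.ML.LieRow.CRB.AbB
section

section


/-!
# Split (B,N)-pairs of characteristic 2 with `B / U` abelian

**`hasSplitAb_of_lie`** : every simple group of Lie type in characteristic two has one.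
-/

set_option autoImplicit false
set_option linter.unusedSectionVars false

namespace Cfsg.Agent.Omega.ML.LieRow.CRB

open Subgroup CoxeterSystem Cfsg.Agent.ChevalleyStructure.CoxeterGeom Cfsg.Agent.Tits.Roots Cfsg.Agent.Tits.Core
  Cfsg.Agent.Tits.RootComb Cfsg.Agent.Nodes.Comb Cfsg.Agent.Nodes.Reps Cfsg.Agent.Nodes.BNOf
open Cfsg.Agent.FixBN Cfsg.Agent.FixBN.SplitRGD Cfsg.Agent.Omega.Lie.End

/-- A split (B,N)-pair of characteristic `p`, of positive rank, with `B / U` abelian. -/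
def HasSplitAb (p : ℕ) (K : Type*) [Group K] : Prop :=
  ∃ (P : Cfsg.BNPair K) (U : Subgroup K), P.S.Nonempty ∧ Split P p U ∧
    ∀ x ∈ P.B, ∀ y ∈ P.B, x * y * x⁻¹ * y⁻¹ ∈ U

theorem HasSplitAb.congr {p : ℕ} {K L : Type*} [Group K] [Group L] (e : K ≃* L) (h : HasSplitAb p K) :
    HasSplitAb p L := by
  obtain ⟨P, U, hne, hs, hc⟩ := h
  refine ⟨Transport.mapBN e P, U.map e.toMonoidHom, hne.image _, Transport.split e P hs, ?_⟩
  rintro _ ⟨x, hx, rfl⟩ _ ⟨y, hy, rfl⟩
  exact ⟨_, hc x hx y hy, by simp⟩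

theorem comm_of_dec {G : Type*} [Group G] {B U : Subgroup G} {D : Set G} (hn : ∀ b ∈ B, ∀ u ∈ U, b * u * b⁻¹ ∈ U)
    (hDB : ∀ t ∈ D, t ∈ B) (hd : ∀ b ∈ B, ∃ u ∈ U, ∃ t ∈ D, b = u * t) (hab : ∀ s ∈ D, ∀ t ∈ D, s * t = t * s) :
    ∀ x ∈ B, ∀ y ∈ B, x * y * x⁻¹ * y⁻¹ ∈ U := by
  intro x hx y hy
  obtain ⟨u, hu, t, ht, rfl⟩ := hd x hx
  obtain ⟨v, hv, s, hs, rfl⟩ := hd y hy
  have h1 := hn t (hDB t ht) v hv
  have h2 := hn s (hDB s hs) u⁻¹ (inv_mem hu)
  have e : u * t * (v * s) * (u * t)⁻¹ * (v * s)⁻¹ = u * (t * v * t⁻¹) * (s * u⁻¹ * s⁻¹) * v⁻¹ := by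
    have h3 := hab t ht s hs
    have h4 : t * s * t⁻¹ = s := by rw [h3]; group
    calc u * t * (v * s) * (u * t)⁻¹ * (v * s)⁻¹ = u * (t * v * t⁻¹) * ((t * s * t⁻¹) * u⁻¹ * s⁻¹) * v⁻¹ := by group
      _ = _ := by rw [h4]
  rw [e]
  exact mul_mem (mul_mem (mul_mem hu h1) h2) (inv_mem hv)

section rgd

variable {I W Y : Type*} [Fintype I] [DecidableEq I] [Group W] [Group Y] {M : CoxeterMatrix I}
  {cs : CoxeterSystem M W} {A : I → I → ℤ} {h : IsCartan M A} {p : ℕ} {T : Subgroup Y} {n : I → Y}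
  {X : (I → ℤ) → Subgroup Y}

theorem hasSplitAb_of_rgd [Finite W] [Nonempty I] [IsSimpleGroup Y] (hp : p.Prime) (R : RGD cs h p T n X)
    (hgen : RGD.Sup X {x | IsRoot cs h x} = ⊤) (ab : ∀ s ∈ T, ∀ t ∈ T, s * t = t * s) : HasSplitAb p Y := by
  obtain ⟨i⟩ := (inferInstance : Nonempty I)
  have hg := NodeRGD.gen_of_top R hgen
  have hne : (R.bnPair hg).S.Nonempty := ⟨n i, i, rfl⟩
  have hs := split_of_rgd hp R hg (Cfsg.Agent.Tits.OfBN.normalCore_eq_bot (R.bnPair hg) hne)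
  refine ⟨R.bnPair hg, _, hne, hs, ?_⟩
  refine comm_of_dec (D := (T : Set Y)) hs.norm (fun t ht => ?_) (fun b hb => ?_) ab
  · exact (le_sup_left : T ≤ RGD.B cs h T X) ht
  · obtain ⟨u, hu, hT⟩ := NodeRGD.cover R (show b ∈ RGD.B cs h T X from hb)
    exact ⟨u, hu, u⁻¹ * b, hT, by group⟩

end rgd

universe u

theorem hasSplitAb_of_row {Y : Type*} [Group Y] [IsSimpleGroup Y] (h : HasRow Y) : HasSplitAb 2 Y := by
  obtain ⟨l, M, A, h, T, n, X, hW, R, hX, hr⟩ := h
  obtain ⟨i, -⟩ := hr.two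
  have : Nonempty (Fin l) := ⟨i⟩
  exact hasSplitAb_of_rgd Nat.prime_two R hX hr.ab

theorem hasSplitAb_of_two {Y : Type*} [Group Y] [IsSimpleGroup Y] (h : IsLTwo Y) : HasSplitAb 2 Y := by
  obtain ⟨F, _, _, _, -, ⟨e⟩⟩ := h
  obtain ⟨A, h, T, n, X, hW, R, hX, hab⟩ := CR.psl_rgd e.symm
  exact hasSplitAb_of_rgd Nat.prime_two R hX hab

section U3

open Cfsg.Agent.Nodes.TypeC Cfsg.Agent.Nodes.WittRoot Cfsg.Agent.Nodes Cfsg.Agent.Nodes.WittAll Cfsg.Agent.Nodes.WittU
open Cfsg.Agent.TitsThree Cfsg.Agent.TitsThree.Siegel Cfsg.Agent.TitsThree.SiegelGen Cfsg.Agent.TitsThree.WittFrame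
open Cfsg.Agent.Omega.Lie.End.KWittRow Cfsg.Agent.Omega.Lie.End.KWittFour Cfsg.Agent.Omega.Lie.End.RowWitt
open Cfsg.Agent.TitsThree.KSideU Cfsg.Agent.TitsThree.KSideUDesc Cfsg.Agent.TitsThree.WBridge

theorem hasSplitAb_of_three {Y : Type*} [Group Y] [IsSimpleGroup Y] (h : IsUThree Y) : HasSplitAb 2 Y := by
  obtain ⟨F, _, _, _, q, hF, hq, ⟨e⟩⟩ := h
  have hs : IsSimpleGroup (Cfsg.PSU 3 F q) := e.symm.isSimpleGroup
  refine HasSplitAb.congr e.symm ?_
  have : Fact (Nat.Prime 2) := ⟨Nat.prime_two⟩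
  have hm : 3 = 2 * 1 ∨ 3 = 2 * 1 + 1 := Or.inr rfl
  obtain ⟨W, -⟩ := exists_wframe hF hm
  obtain ⟨p0, hp0, -⟩ := exists_adm hF W
  have hA : AmbT (toFrame W) 2 (KInstU.model hF (by omega : 3 ≤ 3) W).I := AmbT.of_amb (amb_U hF W) 2
  have hdim := finrank_V0 (Fr := toFrame W)
  rw [Module.finrank_fintype_fun_eq_card, Fintype.card_fin] at hdim
  have hfin : Finite (CoxeterMatrix.B 1).Group := finite_W (CoxeterMatrix.B 1).toCoxeterSystem
  have R := rgdC_model (KInstU.model hF (by omega : 3 ≤ 3) W) hA hp0 (CoxeterMatrix.B 1).toCoxeterSystem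
  have hG := WittModel.G1_eq_top (KInstU.model hF (by omega : 3 ≤ 3) W) (by omega : 0 < 1)
    (CoxeterMatrix.B 1).toCoxeterSystem
  refine hasSplitAb_of_rgd Nat.prime_two R hG (ab_model hA ?_)
  have h1 : Module.finrank F ↥(toFrame W).V0 ≤ 1 := by omega
  obtain ⟨v, hv⟩ := finrank_le_one_iff.1 h1
  refine ⟨v.1, fun w hw => ?_⟩
  obtain ⟨c, hc⟩ := hv ⟨w, hw⟩
  exact ⟨c, (congrArg Subtype.val hc).symm⟩

end U3

theorem hasSplitAb_of_sz {G : Type*} [Group G] (h : Cfsg.Lie.IsoSuzuki G) : HasSplitAb 2 G := by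
  obtain ⟨K, i1, i2, m, hm, hK, ⟨e⟩⟩ := h
  have H := LieRecognition.SzMatrix.good hK
  have hs : IsSimpleGroup ↥(Cfsg.Lie.Sz K (2 ^ (m + 1))) := Cfsg.Agent.S1162.result hm hK
  refine HasSplitAb.congr e.symm ⟨SzSplit.bnPair H, H.unip, ⟨H.w, rfl⟩, SzSplit.split hm hK H hs, ?_⟩
  refine comm_of_dec (D := {g | ∃ a, g = H.d a}) (SzSplit.split hm hK H hs).norm ?_ ?_ ?_
  · rintro _ ⟨a, rfl⟩
    exact H.d_mem_borel a
  · intro b hb
    obtain ⟨a, c, k, rfl⟩ := (H.mem_borel_iff' b).1 hb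
    exact ⟨H.u a c, H.u_mem_unip a c, _, ⟨k, rfl⟩, rfl⟩
  · rintro _ ⟨a, rfl⟩ _ ⟨b, rfl⟩
    rw [H.d_mul, H.d_mul, mul_comm]

theorem hasSplitAb_of_twF4 {G : Type*} [Group G] (h : Cfsg.Lie.Iso2F4 G) : HasSplitAb 2 G := by
  obtain ⟨K, i1, i2, m, hm, hK, ⟨e⟩⟩ := h
  obtain ⟨Q, UE, s, t, hp, -⟩ := ParSys.Fam.TwoFFour.exists_all hm hK
  refine HasSplitAb.congr e.symm ⟨Q, UE, ⟨s, ?_⟩, hp.split, hp.comm⟩
  rw [hp.S]
  exact Set.mem_insert _ _

/-- **The simple groups of Lie type in characteristic two.** -/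
theorem hasSplitAb_of_lie {Y : Type u} [Group Y] [Finite Y] (hs : IsSimpleGroup Y) (hY : IsLieTypeChar 2 Y) :
    HasSplitAb 2 Y := by
  rcases kTable Y hs hY with h | h | h | h | h
  · exact hasSplitAb_of_row h
  · exact hasSplitAb_of_two h
  · exact hasSplitAb_of_three h
  · exact hasSplitAb_of_sz h
  · exact hasSplitAb_of_twF4 h

end Cfsg.Agent.Omega.ML.LieRow.CRB

end

section


/-!
# Lie type in characteristic two: subgroups of the module normalised by the small overgroups of `T` (helper264)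

`K ⊴ H`, `H = KT`, `T` a Sylow 2-subgroup, `M` an elementary abelian 2-group, `C_M(T ∩ K)` a simple `N_K(T ∩ K)`-module,
`N_K(T ∩ K) / (T ∩ K)` abelian.

* **`sub_ab`** : `Y ≠ 1` a subgroup of `M` normalised by `N_H(T)`, such that every minimal parabolic
  `P ≤ N_H(T ∩ K)` over `T` normalises `Y` or fixes a vector `≠ 1`: then `C_M(T ∩ K) ≤ Y`;
* `comm_split` : `N_K(S) / S` is abelian for the Sylow 2-subgroups `S` of the groups with `HasSplitAb 2`;
* **`sub_lie2`** : the case `K` simple of Lie type in characteristic two, `M|_K` irreducible.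
-/

set_option autoImplicit false
set_option linter.unusedSectionVars false

namespace Cfsg.Agent.Omega.CR.SubY

open Subgroup Cfsg Cfsg.Agent.ClassTwoFusion.Quad Cfsg.Agent.FixBN Cfsg.Agent.Omega.ML.LieRow.CRB
open Cfsg.Agent.MinSimple.MinParabolic (IsMinPar le_of_forall)

universe u v

section

variable {H : Type u} [Group H] {M : Type v} [Group M] [MulDistribMulAction H M]

/-- the stabiliser of a subgroup of `M` -/
def st (H : Type u) [Group H] {M : Type v} [Group M] [MulDistribMulAction H M] (Z : Subgroup M) : Subgroup H where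
  carrier := {h | ∀ m : M, h • m ∈ Z ↔ m ∈ Z}
  one_mem' := fun m => by rw [one_smul]
  mul_mem' := fun {a b} ha hb m => by rw [mul_smul, ha, hb]
  inv_mem' := fun {a} ha m => by rw [← ha (a⁻¹ • m), smul_inv_smul]

theorem mem_st {Z : Subgroup M} {h : H} : h ∈ st H Z ↔ ∀ m : M, h • m ∈ Z ↔ m ∈ Z := Iff.rfl

theorem le_st {Z : Subgroup M} {R : Subgroup H} (h : ∀ r ∈ R, ∀ z ∈ Z, r • z ∈ Z) : R ≤ st H Z := by
  intro r hr m
  refine ⟨fun h1 => ?_, fun h1 => h r hr m h1⟩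
  have h2 := h r⁻¹ (inv_mem hr) _ h1
  rwa [inv_smul_smul] at h2

variable {K T : Subgroup H}

/-- `N_H(T ∩ K)` acts on `C_M(T ∩ K)` -/
theorem smul_mem_cv {n : H} (hn : n ∈ normalizer ((T ⊓ K : Subgroup H) : Set H)) {m : M}
    (hm : m ∈ cv M ((T ⊓ K : Subgroup H) : Set H)) : n • m ∈ cv M ((T ⊓ K : Subgroup H) : Set H) := by
  intro s hs
  have h1 : n⁻¹ * s * n ∈ T ⊓ K := by
    have := (mem_normalizer_iff.1 (inv_mem hn) s).1 hs
    rwa [inv_inv] at this
  have h2 : s * n = n * (n⁻¹ * s * n) := by group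
  rw [← mul_smul, h2, mul_smul, hm _ h1]

/-- **the abstract form** -/
theorem sub_ab [Finite H] [Finite M] (hK : K.Normal) (hKT : K ⊔ T = ⊤) (hT : IsPGroup 2 T) (sq : ∀ m : M, m * m = 1)
    (hcr : ∀ W : Subgroup M, (∀ w ∈ W, ∀ s ∈ T ⊓ K, s • w = w) →
      (∀ n ∈ normalizer ((T ⊓ K : Subgroup H) : Set H), n ∈ K → ∀ w ∈ W, n • w ∈ W) → W ≠ ⊥ →
      ∀ m : M, (∀ s ∈ T ⊓ K, s • m = m) → m ∈ W)
    (hab : ∀ a ∈ normalizer ((T ⊓ K : Subgroup H) : Set H), a ∈ K →
      ∀ b ∈ normalizer ((T ⊓ K : Subgroup H) : Set H), b ∈ K → a * b * a⁻¹ * b⁻¹ ∈ T)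
    {Y : Subgroup M} (hY : Y ≠ ⊥) (hN : ∀ n ∈ normalizer (T : Set H), ∀ y ∈ Y, n • y ∈ Y)
    (hP : ∀ P : Subgroup H, IsMinPar T P → P ≤ normalizer ((T ⊓ K : Subgroup H) : Set H) →
      (∀ p ∈ P, ∀ y ∈ Y, p • y ∈ Y) ∨ ∃ x : M, x ≠ 1 ∧ ∀ p ∈ P, p • x = x) :
    cv M ((T ⊓ K : Subgroup H) : Set H) ≤ Y := by
  have hTX : T ≤ normalizer ((T ⊓ K : Subgroup H) : Set H) := by
    intro t ht
    rw [mem_normalizer_iff]
    intro x
    constructor
    · rintro ⟨hx, hxK⟩
      exact ⟨T.mul_mem (T.mul_mem ht hx) (T.inv_mem ht), hK.conj_mem x hxK t⟩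
    · rintro ⟨hx, hxK⟩
      refine ⟨?_, ?_⟩
      · have := mul_mem (mul_mem (inv_mem ht) hx) ht
        have e : t⁻¹ * (t * x * t⁻¹) * t = x := by group
        rwa [e] at this
      · have := hK.conj_mem _ hxK t⁻¹
        have e : t⁻¹ * (t * x * t⁻¹) * t⁻¹⁻¹ = x := by group
        rwa [e] at this
  have hTN : ∀ t ∈ T, ∀ y ∈ Y, t • y ∈ Y := fun t ht => hN t (le_normalizer ht)
  have key : normalizer ((T ⊓ K : Subgroup H) : Set H) ≤
      st H (Y ⊓ cv M ((T ⊓ K : Subgroup H) : Set H)) := by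
    refine le_of_forall hTX ?_ fun P hPm hPX => ?_
    · refine le_st ?_
      rintro n ⟨hn, hnT⟩ z ⟨hz, hz'⟩
      exact ⟨hN n hnT z hz, smul_mem_cv hn hz'⟩
    · rcases hP P hPm hPX with h1 | ⟨x, hx1, hx⟩
      · refine le_st ?_
        rintro p hp z ⟨hz, hz'⟩
        exact ⟨h1 p hp z hz, smul_mem_cv (hPX hp) hz'⟩
      · -- `C(P ∩ K)` on `C_M(T ∩ K)`
        let W : Subgroup M :=
          { carrier := {w | w ∈ cv M ((T ⊓ K : Subgroup H) : Set H) ∧ ∀ d ∈ P ⊓ K, d • w = w}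
            one_mem' := ⟨one_mem _, fun d _ => smul_one d⟩
            mul_mem' := fun {a b} ha hb => ⟨mul_mem ha.1 hb.1, fun d hd => by
              rw [smul_mul', ha.2 d hd, hb.2 d hd]⟩
            inv_mem' := fun {a} ha => ⟨inv_mem ha.1, fun d hd => by rw [smul_inv', ha.2 d hd]⟩ }
        have hWm : ∀ w, w ∈ W ↔ w ∈ cv M ((T ⊓ K : Subgroup H) : Set H) ∧ ∀ d ∈ P ⊓ K, d • w = w := fun _ => Iff.rfl
        have hxW : x ∈ W := (hWm x).2 ⟨fun s hs => hx s (hPm.le hs.1), fun d hd => hx d hd.1⟩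
        have hW := hcr W (fun w hw s hs => ((hWm w).1 hw).1 s hs) (by
          intro b hb hbK w hw
          rw [hWm] at hw ⊢
          refine ⟨smul_mem_cv hb hw.1, fun d hd => ?_⟩
          have hdX := hPX hd.1
          have h2 := hab d⁻¹ (inv_mem hdX) (inv_mem hd.2) b⁻¹ (inv_mem hb) (inv_mem hbK)
          rw [inv_inv, inv_inv] at h2
          have h3 : d⁻¹ * b⁻¹ * d * b ∈ T ⊓ K :=
            ⟨h2, K.mul_mem (K.mul_mem (K.mul_mem (K.inv_mem hd.2) (K.inv_mem hbK)) hd.2) hbK⟩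
          have h4 : d * b = b * (d * (d⁻¹ * b⁻¹ * d * b)) := by group
          rw [← mul_smul, h4, mul_smul, mul_smul, hw.1 _ h3, hw.2 d hd]) (by
          intro h2
          rw [h2, mem_bot] at hxW
          exact hx1 hxW)
        refine le_st ?_
        rintro p hp z ⟨hz, hz'⟩
        have h2 : p ∈ K ⊔ T := by rw [hKT]; trivial
        obtain ⟨d, hd, t, ht, rfl⟩ := mem_sup_of_normal_left.1 h2
        have hdP : d ∈ P := by
          have := mul_mem hp (inv_mem (hPm.le ht))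
          rwa [mul_inv_cancel_right] at this
        have h3 : t • z ∈ cv M ((T ⊓ K : Subgroup H) : Set H) := smul_mem_cv (hTX ht) hz'
        have h4 : d • t • z = t • z := ((hWm _).1 (hW (t • z) h3)).2 d ⟨hdP, hd⟩
        rw [mul_smul, h4]
        exact ⟨hTN t ht z hz, h3⟩
  -- the end
  have hne : Y ⊓ cv M ((T ⊓ K : Subgroup H) : Set H) ≠ ⊥ := by
    obtain ⟨y, hy, hy1, hyT⟩ := ML.MinFrame.exists_fixed sq hT hY hTN
    intro h1
    have h2 : y ∈ Y ⊓ cv M ((T ⊓ K : Subgroup H) : Set H) := ⟨hy, fun s hs => hyT s hs.1⟩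
    rw [h1, mem_bot] at h2
    exact hy1 h2
  intro m hm
  exact (hcr (Y ⊓ cv M ((T ⊓ K : Subgroup H) : Set H)) (fun w hw s hs => hw.2 s hs)
    (fun n hn _ w hw => (key hn w).2 hw) hne m fun s hs => hm s hs).1

end

/-! ### `N_K(S) / S` is abelian -/

theorem isSylow_of_split {K : Type u} [Group K] [Finite K] {P : Cfsg.BNPair K} {U : Subgroup K} (h : Split P 2 U)
    {Q : Subgroup K} (hQ : IsPGroup 2 Q) (hUQ : U ≤ Q) : Q = U := by
  have : Fact (Nat.Prime 2) := ⟨Nat.prime_two⟩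
  by_contra hne
  have hlt : U.subgroupOf Q < ⊤ := by
    rw [lt_top_iff_ne_top, Ne, subgroupOf_eq_top]
    exact fun h1 => hne (le_antisymm h1 hUQ)
  have hnil : Group.IsNilpotent Q := hQ.isNilpotent
  have h1 := Group.normalizerCondition_of_isNilpotent (G := Q) _ hlt
  obtain ⟨⟨q, hq⟩, hqn, hqU⟩ := SetLike.exists_of_lt h1
  rw [mem_normalizer_iff] at hqn
  apply hqU
  rw [mem_subgroupOf]
  have h2 : q ∈ normalizer (U : Set K) := by
    rw [mem_normalizer_iff]
    intro x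
    constructor
    · intro hx
      exact (hqn ⟨x, hUQ hx⟩).1 hx
    · intro hx
      have hxQ : x ∈ Q := by
        have := mul_mem (mul_mem (inv_mem hq) (hUQ hx)) hq
        have e : q⁻¹ * (q * x * q⁻¹) * q = x := by group
        rwa [e] at this
      exact (hqn ⟨x, hxQ⟩).2 hx
  rw [h.normalizer_eq] at h2
  obtain ⟨n, hn⟩ := hQ ⟨q, hq⟩
  exact h.mem_of_pow h2 (n := n) (congrArg Subtype.val hn)

/-- `N_K(S) / S` is abelian -/
theorem comm_split {K : Type u} [Group K] [Finite K] (h : HasSplitAb 2 K) {S : Subgroup K} (hS : IsPGroup 2 S)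
    (hSi : ¬ 2 ∣ S.index) : ∀ a ∈ normalizer (S : Set K), ∀ b ∈ normalizer (S : Set K), a * b * a⁻¹ * b⁻¹ ∈ S := by
  have : Fact (Nat.Prime 2) := ⟨Nat.prime_two⟩
  obtain ⟨P, U, -, hs, hc⟩ := h
  let U' : Sylow 2 K := ⟨U, hs.isP, fun hQ hUQ => isSylow_of_split hs hQ hUQ⟩
  obtain ⟨g, hg⟩ := MulAction.exists_smul_eq K U' (hS.toSylow hSi)
  have hmem : ∀ x : K, x ∈ S ↔ g⁻¹ * x * g ∈ U := by
    intro x
    have h1 : x ∈ S ↔ x ∈ ((g • U' : Sylow 2 K) : Subgroup K) := by rw [hg]; rfl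
    rw [h1, Sylow.coe_subgroup_smul, mem_pointwise_smul_iff_inv_smul_mem, ← map_inv, MulAut.smul_def,
      MulAut.conj_apply, inv_inv]
  have hnor : ∀ a ∈ normalizer (S : Set K), g⁻¹ * a * g ∈ P.B := by
    intro a ha
    rw [← hs.normalizer_eq, mem_normalizer_iff]
    intro x
    have h1 := (mem_normalizer_iff.1 ha) (g * x * g⁻¹)
    change g * x * g⁻¹ ∈ S ↔ a * (g * x * g⁻¹) * a⁻¹ ∈ S at h1
    rw [hmem, hmem] at h1
    have e1 : g⁻¹ * (g * x * g⁻¹) * g = x := by group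
    have e2 : g⁻¹ * (a * (g * x * g⁻¹) * a⁻¹) * g = g⁻¹ * a * g * x * (g⁻¹ * a * g)⁻¹ := by group
    rw [e1, e2] at h1
    exact h1
  intro a ha b hb
  rw [hmem]
  have h1 := hc _ (hnor a ha) _ (hnor b hb)
  have e : g⁻¹ * (a * b * a⁻¹ * b⁻¹) * g =
      g⁻¹ * a * g * (g⁻¹ * b * g) * (g⁻¹ * a * g)⁻¹ * (g⁻¹ * b * g)⁻¹ := by group
  rw [e]
  exact h1

/-- **`K` simple of Lie type in characteristic two.** -/
theorem sub_lie2 {H : Type u} [Group H] [Finite H] {M : Type v} [Group M] [Finite M] [MulDistribMulAction H M]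
    {K T : Subgroup H} (hK : K.Normal) (hs : IsSimpleGroup K) (hl : IsLieTypeChar 2 K) (hKT : K ⊔ T = ⊤)
    (hT : IsPGroup 2 T) (hTi : ¬ 2 ∣ T.index) (sq : ∀ m : M, m * m = 1)
    (irr : ∀ W : Subgroup M, (∀ k ∈ K, ∀ w ∈ W, k • w ∈ W) → W = ⊥ ∨ W = ⊤)
    {Y : Subgroup M} (hY : Y ≠ ⊥) (hN : ∀ n ∈ normalizer (T : Set H), ∀ y ∈ Y, n • y ∈ Y)
    (hP : ∀ P : Subgroup H, IsMinPar T P → P ≤ normalizer ((T ⊓ K : Subgroup H) : Set H) →
      (∀ p ∈ P, ∀ y ∈ Y, p • y ∈ Y) ∨ ∃ x : M, x ≠ 1 ∧ ∀ p ∈ P, p • x = x) :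
    cv M ((T ⊓ K : Subgroup H) : Set H) ≤ Y := by
  have : Fact (Nat.Prime 2) := ⟨Nat.prime_two⟩
  refine sub_ab hK hKT hT sq (fun W hW hN' hne m hm => Bl.cr_lie hK hs hl hT hTi sq irr hW hN' hne m hm) ?_ hY hN hP
  intro a ha haK b hb hbK
  have hV : IsPGroup 2 (T.subgroupOf K) := hT.comap_of_injective _ K.subtype_injective
  have h2 : ¬ 2 ∣ (T.subgroupOf K).index := Lib.SylowNormalInf.not_dvd_relIndex (hT.toSylow hTi) K
  have hn : ∀ c ∈ normalizer ((T ⊓ K : Subgroup H) : Set H), ∀ hc : c ∈ K,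
      (⟨c, hc⟩ : K) ∈ normalizer ((T.subgroupOf K : Subgroup K) : Set K) := by
    intro c hc hcK
    rw [mem_normalizer_iff] at hc ⊢
    rintro ⟨x, hx⟩
    constructor
    · intro h3
      exact ((hc x).1 ⟨h3, hx⟩).1
    · intro h3
      exact ((hc x).2 ⟨h3, K.mul_mem (K.mul_mem hcK hx) (K.inv_mem hcK)⟩).1
  exact comm_split (hasSplitAb_of_lie hs hl) hV h2 _ (hn a ha haK) _ (hn b hb hbK)

end Cfsg.Agent.Omega.CR.SubY

end

section


/-!
# Subgroups of the module normalised by the small overgroups of `T`, in the situation `InX` (helper264)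

**`sub_inX`** : `InX H M K T A`, `K` of Lie type in characteristic two, `Y ≠ 1` normalised by `N_H(T)`, every minimal
parabolic `P ≤ N_H(T ∩ K)` over `T` normalises `Y` or fixes a vector `≠ 1`: then `C_M(T ∩ K) ≤ Y`;
`sub_inX_fix` : so all `T`-fixed vectors are in `Y`.
-/

set_option autoImplicit false

namespace Cfsg.Agent.Omega.CR.SubY

open Subgroup Cfsg Cfsg.Agent.ClassTwoFusion.Quad Cfsg.Agent.Omega.ML.Ex
open Cfsg.Agent.Omega.ML.Final (MLK)
open Cfsg.Agent.MinSimple.MinParabolic (IsMinPar)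

universe u v

variable {H : Type u} [Group H] [Finite H] {M : Type v} [Group M] [Finite M] [MulDistribMulAction H M]
  {K T A : Subgroup H}

theorem sub_inX (ml : MLK.{u, v}) (hKG : IsKGroup H) (h : InX H M K T A) (hl : IsLieTypeChar 2 K) {Y : Subgroup M}
    (hY : Y ≠ ⊥) (hN : ∀ n ∈ normalizer (T : Set H), ∀ y ∈ Y, n • y ∈ Y)
    (hP : ∀ P : Subgroup H, IsMinPar T P → P ≤ normalizer ((T ⊓ K : Subgroup H) : Set H) →
      (∀ p ∈ P, ∀ y ∈ Y, p • y ∈ Y) ∨ ∃ x : M, x ≠ 1 ∧ ∀ p ∈ P, p • x = x) :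
    cv M ((T ⊓ K : Subgroup H) : Set H) ≤ Y :=
  sub_lie2 h.norm h.simple hl h.gen h.two h.syl h.sq (h.irr_K ml hKG) hY hN hP

theorem sub_inX_fix (ml : MLK.{u, v}) (hKG : IsKGroup H) (h : InX H M K T A) (hl : IsLieTypeChar 2 K)
    {Y : Subgroup M} (hY : Y ≠ ⊥) (hN : ∀ n ∈ normalizer (T : Set H), ∀ y ∈ Y, n • y ∈ Y)
    (hP : ∀ P : Subgroup H, IsMinPar T P → P ≤ normalizer ((T ⊓ K : Subgroup H) : Set H) →
      (∀ p ∈ P, ∀ y ∈ Y, p • y ∈ Y) ∨ ∃ x : M, x ≠ 1 ∧ ∀ p ∈ P, p • x = x) {z : M}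
    (hz : ∀ t ∈ T, t • z = z) : z ∈ Y :=
  sub_inX ml hKG h hl hY hN hP fun s hs => hz s hs.1

end Cfsg.Agent.Omega.CR.SubY

end

section


/-!
# The theorem of Curtis and Richen in building form, part 1: the operators `T_w`

`G` acts on the finite building `Δ` with a system `S` of Sylow `p`-subgroups `U c` (a split (B,N)-pair of
characteristic `p`), `V` is a `G`-module.

* `Fam S N` : an equivariant family `N c ≤ C_V(U c)`;
* `Coh S N c w φ` : the function `φ` on the chambers at distance `w` from `c` is coherent under `U c`;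
* `TT S N w` : the family of the sums of the coherent functions; `fam_TT`;
* `mem_TT_mul`, `mem_TT_of_mul` : `T_i T_w = T_{s_i w}` if the length grows; `TT_sq` : `T_i T_i ≤ T_i` if `p V = 0`.
-/

set_option autoImplicit false
set_option linter.unusedSectionVars false

namespace Cfsg.Agent.Omega.ML.LieRow.CRB

open Cfsg.Agent.Tits.Core Cfsg.Agent.Tits.Core.Bldg Cfsg.Agent.Tits.Exchange Cfsg.Agent.Tits
open Cfsg.Agent.FixBN Cfsg.Agent.FixBN.Cox

variable {I : Type*} {M : CoxeterMatrix I} {W : Type*} [Group W] {cs : CoxeterSystem M W} {C : Type*}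
  {Δ : Bldg cs C} {G : Type*} [Group G] [MulAction G C] {p : ℕ} (S : Sys Δ G p)
  {V : Type*} [AddCommGroup V] [DistribMulAction G V]

local prefix:100 "ℓ" => cs.length

/-- an equivariant family of subgroups of fixed vectors -/
structure Fam (N : C → AddSubgroup V) : Prop where
  smul : ∀ (g : G) (c : C), ∀ v ∈ N c, g • v ∈ N (g • c)
  fix : ∀ c, ∀ u ∈ S.U c, ∀ v ∈ N c, u • v = v

/-- a coherent function on the chambers at distance `w` from `c` -/
structure Coh (N : C → AddSubgroup V) (c : C) (w : W) (φ : C → V) : Prop where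
  mem : ∀ d, Δ.δ c d = w → φ d ∈ N d
  eq : ∀ u ∈ S.U c, ∀ d, Δ.δ c d = w → φ (u • d) = u • φ d

variable (Δ) [Fintype C]

open Classical in
/-- the chambers at distance `w` -/
noncomputable def sph (c : C) (w : W) : Finset C := Finset.univ.filter fun d => Δ.δ c d = w

theorem mem_sph {c d : C} {w : W} : d ∈ sph Δ c w ↔ Δ.δ c d = w := by
  simp [sph]

variable {Δ}

include S in
theorem smul_mem_sph {g : G} {c d : C} {w : W} : g • d ∈ sph Δ (g • c) w ↔ d ∈ sph Δ c w := by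
  rw [mem_sph, mem_sph, S.iso]

include S in
/-- reindexing -/
theorem sum_smul (g : G) (c : C) (w : W) (ψ : C → V) :
    ∑ d ∈ sph Δ (g • c) w, ψ d = ∑ d ∈ sph Δ c w, ψ (g • d) := by
  refine (Finset.sum_bij (fun d _ => g • d) (fun d hd => (smul_mem_sph S).2 hd)
    (fun a _ b _ h => smul_left_cancel g h) (fun b hb => ⟨g⁻¹ • b, ?_, smul_inv_smul g b⟩) fun d _ => rfl).symm
  rwa [← smul_mem_sph S (g := g), smul_inv_smul]

include S in
theorem sum_fix {u : G} {c : C} (hu : u • c = c) (w : W) (ψ : C → V) :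
    ∑ d ∈ sph Δ c w, ψ (u • d) = ∑ d ∈ sph Δ c w, ψ d := by
  rw [← sum_smul S, hu]

/-- the family of the sums of the coherent functions -/
noncomputable def TT (N : C → AddSubgroup V) (w : W) (c : C) : AddSubgroup V where
  carrier := {v | ∃ φ, Coh S N c w φ ∧ v = ∑ d ∈ sph Δ c w, φ d}
  zero_mem' := ⟨fun _ => 0, ⟨fun d _ => zero_mem _, fun u _ d _ => (smul_zero u).symm⟩, by simp⟩
  add_mem' := by
    rintro _ _ ⟨φ, hφ, rfl⟩ ⟨ψ, hψ, rfl⟩
    refine ⟨fun d => φ d + ψ d, ⟨fun d hd => add_mem (hφ.mem d hd) (hψ.mem d hd), fun u hu d hd => ?_⟩,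
      (Finset.sum_add_distrib).symm⟩
    rw [hφ.eq u hu d hd, hψ.eq u hu d hd, smul_add]
  neg_mem' := by
    rintro _ ⟨φ, hφ, rfl⟩
    refine ⟨fun d => -φ d, ⟨fun d hd => neg_mem (hφ.mem d hd), fun u hu d hd => ?_⟩,
      (Finset.sum_neg_distrib _).symm⟩
    rw [hφ.eq u hu d hd, smul_neg]

variable {S} {N : C → AddSubgroup V}

theorem mem_TT {w : W} {c : C} {v : V} : v ∈ TT S N w c ↔ ∃ φ, Coh S N c w φ ∧ v = ∑ d ∈ sph Δ c w, φ d := Iff.rfl

omit [Fintype C] in
theorem Coh.smul (hN : Fam S N) {c : C} {w : W} {φ : C → V} (h : Coh S N c w φ) (g : G) :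
    Coh S N (g • c) w fun d => g • φ (g⁻¹ • d) := by
  constructor
  · intro d hd
    have h1 : Δ.δ c (g⁻¹ • d) = w := by rw [← S.iso g, smul_inv_smul, hd]
    have h2 := hN.smul g _ _ (h.mem _ h1)
    rwa [smul_inv_smul] at h2
  · intro u hu d hd
    have h1 : Δ.δ c (g⁻¹ • d) = w := by rw [← S.iso g, smul_inv_smul, hd]
    have h2 : g⁻¹ * u * g ∈ S.U c := by
      have h3 : g * (g⁻¹ * u * g) * g⁻¹ ∈ S.U (g • c) := by
        have : g * (g⁻¹ * u * g) * g⁻¹ = u := by group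
        rwa [this]
      exact S.conj_mem_U_iff.1 h3
    have h3 := h.eq _ h2 _ h1
    have e : (g⁻¹ * u * g) • g⁻¹ • d = g⁻¹ • u • d := by
      rw [smul_smul, smul_smul]; congr 1; group
    rw [e] at h3
    show g • φ (g⁻¹ • u • d) = u • g • φ (g⁻¹ • d)
    rw [h3, smul_smul, smul_smul]
    congr 1
    group

variable (S) in
include S in
theorem sum_conj (g : G) (c : C) (w : W) (φ : C → V) :
    ∑ d ∈ sph Δ (g • c) w, g • φ (g⁻¹ • d) = g • ∑ d ∈ sph Δ c w, φ d := by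
  rw [sum_smul S g c w fun d => g • φ (g⁻¹ • d), Finset.smul_sum]
  exact Finset.sum_congr rfl fun d _ => by rw [inv_smul_smul]

theorem fam_TT (hN : Fam S N) (w : W) : Fam S (TT S N w) := by
  constructor
  · rintro g c _ ⟨φ, hφ, rfl⟩
    exact ⟨_, hφ.smul hN g, (sum_conj S g c w φ).symm⟩
  · rintro c u hu _ ⟨φ, hφ, rfl⟩
    rw [Finset.smul_sum]
    rw [← sum_fix S (S.fix c u hu) w φ]
    exact Finset.sum_congr rfl fun d hd => (hφ.eq u hu d ((mem_sph Δ).1 hd)).symm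

theorem TT_mono {N N' : C → AddSubgroup V} (h : ∀ c, N c ≤ N' c) (w : W) (c : C) : TT S N w c ≤ TT S N' w c := by
  rintro _ ⟨φ, hφ, rfl⟩
  exact ⟨φ, ⟨fun d hd => h d (hφ.mem d hd), hφ.eq⟩, rfl⟩

theorem TT_one (hN : Fam S N) (c : C) : TT S N 1 c = N c := by
  have h0 : sph Δ c 1 = {c} := by
    ext d
    rw [mem_sph, Finset.mem_singleton, Δ.eq_one]
    exact eq_comm
  apply le_antisymm
  · rintro _ ⟨φ, hφ, rfl⟩
    rw [h0, Finset.sum_singleton]
    exact hφ.mem c (Δ.δ_self c)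
  · intro v hv
    refine ⟨fun _ => v, ⟨fun d hd => ?_, fun u hu d hd => ?_⟩, ?_⟩
    · rwa [← (Δ.eq_one c d).1 hd]
    · exact (hN.fix c u hu v hv).symm
    · rw [h0, Finset.sum_singleton]

variable [F : OppRes.Cox cs]

/-- a coherent function is determined by one value -/
theorem Coh.ext {c : C} {w : W} {φ ψ : C → V} (h : Coh S N c w φ) (h' : Coh S N c w ψ) {d₀ : C}
    (hd₀ : Δ.δ c d₀ = w) (he : φ d₀ = ψ d₀) : ∀ d, Δ.δ c d = w → φ d = ψ d := by
  intro d hd
  obtain ⟨u, hu, rfl⟩ := S.exists_move (hd₀.trans hd.symm)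
  rw [h.eq u hu d₀ hd₀, h'.eq u hu d₀ hd₀, he]

/-- a coherent function with a given value -/
theorem exists_coh (hN : Fam S N) {c d₀ : C} {w : W} (hd₀ : Δ.δ c d₀ = w) {v : V} (hv : v ∈ N d₀) :
    ∃ φ, Coh S N c w φ ∧ φ d₀ = v := by
  classical
  have hch : ∀ d, Δ.δ c d = w → ∃ u ∈ S.U c, u • d₀ = d := fun d hd => S.exists_move (hd₀.trans hd.symm)
  choose! t ht htd using hch
  have key : ∀ u ∈ S.U c, u • d₀ = d₀ → u • v = v := fun u hu hud => hN.fix d₀ u (S.mem_U_of_fix hu hud) v hv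
  have key' : ∀ u ∈ S.U c, ∀ u' ∈ S.U c, u • d₀ = u' • d₀ → u • v = u' • v := by
    intro u hu u' hu' h
    have h1 := key (u'⁻¹ * u) (mul_mem (inv_mem hu') hu) (by rw [mul_smul, h, inv_smul_smul])
    rw [mul_smul, inv_smul_eq_iff] at h1
    exact h1
  refine ⟨fun d => t d • v, ⟨fun d hd => ?_, fun u hu d hd => ?_⟩, ?_⟩
  · have := hN.smul (t d) d₀ v hv
    rwa [htd d hd] at this
  · have hud : Δ.δ c (u • d) = w := by
      rw [← hd, ← S.iso u c d, S.fix c u hu]
    show t (u • d) • v = u • t d • v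
    rw [← mul_smul]
    refine key' _ (ht _ hud) _ (mul_mem hu (ht _ hd)) ?_
    rw [htd _ hud, mul_smul, htd _ hd]
  · exact (key' _ (ht _ hd₀) 1 (one_mem _) (by rw [htd _ hd₀, one_smul])).trans (one_smul _ _)

/-- **lifting** a coherent function with values in `T_w N` -/
theorem exists_lift (hN : Fam S N) {c : C} {v w : W} {ψ : C → V} (hψ : Coh S (TT S N w) c v ψ) :
    ∃ Φ : C → C → V, (∀ a, Δ.δ c a = v → Coh S N a w (Φ a) ∧ ψ a = ∑ d ∈ sph Δ a w, Φ a d) ∧
      ∀ a, Δ.δ c a = v → ∀ u ∈ S.U c, ∀ d, Δ.δ a d = w → Φ (u • a) (u • d) = u • Φ a d := by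
  classical
  obtain ⟨a₀, ha₀⟩ := Δ.exists_δ c v
  obtain ⟨φ₀, hφ₀, hψ₀⟩ := mem_TT.1 (hψ.mem a₀ ha₀)
  have hch : ∀ a, Δ.δ c a = v → ∃ u ∈ S.U c, u • a₀ = a := fun a ha => S.exists_move (ha₀.trans ha.symm)
  choose! t ht hta using hch
  have hcoh : ∀ a, Δ.δ c a = v → ∀ u ∈ S.U c, ∀ d, Δ.δ a d = w →
      t (u • a) • φ₀ ((t (u • a))⁻¹ • u • d) = u • t a • φ₀ ((t a)⁻¹ • d) := by
    intro a ha u hu d hd
    have hua : Δ.δ c (u • a) = v := by rw [← ha, ← S.iso u c a, S.fix c u hu]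
    have h1 : (t (u • a))⁻¹ * u * t a ∈ S.U c := mul_mem (mul_mem (inv_mem (ht _ hua)) hu) (ht _ ha)
    have h2 : ((t (u • a))⁻¹ * u * t a) • a₀ = a₀ := by
      rw [mul_smul, mul_smul, hta _ ha, inv_smul_eq_iff, hta _ hua]
    have h3 := S.mem_U_of_fix h1 h2
    have h4 : Δ.δ a₀ ((t a)⁻¹ • d) = w := by
      rw [← hd, ← S.iso (t a) a₀, smul_inv_smul, hta _ ha]
    have h5 := hφ₀.eq _ h3 _ h4
    have e : ((t (u • a))⁻¹ * u * t a) • (t a)⁻¹ • d = (t (u • a))⁻¹ • u • d := by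
      rw [smul_smul, smul_smul]; congr 1; group
    rw [e] at h5
    rw [h5, smul_smul, smul_smul]
    congr 1
    group
  refine ⟨fun a d => t a • φ₀ ((t a)⁻¹ • d), fun a ha => ⟨?_, ?_⟩, hcoh⟩
  · have h1 := hφ₀.smul hN (t a)
    rwa [hta _ ha] at h1
  · have h1 := sum_conj S (t a) a₀ w φ₀
    rw [hta _ ha] at h1
    rw [h1, ← hψ₀]
    have h2 := hψ.eq (t a) (ht _ ha) a₀ ha₀
    rwa [hta _ ha] at h2

/-- `T_i T_w ≤ T_{s_i w}` if the length grows -/
theorem TT_TT_le (hN : Fam S N) {w : W} {i : I} (hl : ℓ w < ℓ (cs.simple i * w)) (c : C) :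
    TT S (TT S N w) (cs.simple i) c ≤ TT S N (cs.simple i * w) c := by
  classical
  rintro _ ⟨ψ, hψ, rfl⟩
  obtain ⟨Φ, h1, h2⟩ := exists_lift hN hψ
  -- the first chamber
  have hl' : ℓ (cs.simple i * w) = ℓ (cs.simple i) + ℓ w := by
    have h4 := cs.length_simple_mul w i
    rw [cs.length_simple]
    omega
  have hfst : ∀ d, Δ.δ c d = cs.simple i * w → ∃ a, Δ.δ c a = cs.simple i ∧ Δ.δ a d = w := by
    intro d hd
    obtain ⟨a, ha, ha'⟩ := exists_first Δ (x := c) (y := d) (i := i) (by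
      rw [hd, ← mul_assoc, cs.simple_mul_simple_self, one_mul]; exact hl)
    refine ⟨a, ha, ?_⟩
    rw [ha', hd, ← mul_assoc, cs.simple_mul_simple_self, one_mul]
  choose! f hf1 hf2 using hfst
  have huniq : ∀ d a, Δ.δ c a = cs.simple i → Δ.δ a d = w → f d = a := by
    intro d a ha ha'
    have hd := Δ.δ_mul_of ha ha' hl'
    exact Δ.between_unique hl' (hf1 d hd) (hf2 d hd) ha ha'
  refine ⟨fun d => Φ (f d) d, ⟨fun d hd => (h1 _ (hf1 d hd)).1.mem d (hf2 d hd), fun u hu d hd => ?_⟩, ?_⟩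
  · have h3 : f (u • d) = u • f d := by
      apply huniq
      · rw [← hf1 d hd, ← S.iso u c (f d), S.fix c u hu]
      · rw [S.iso, hf2 d hd]
    show Φ (f (u • d)) (u • d) = u • Φ (f d) d
    rw [h3, h2 _ (hf1 d hd) u hu d (hf2 d hd)]
  · have h3 : ∑ a ∈ sph Δ c (cs.simple i), ψ a =
        ∑ a ∈ sph Δ c (cs.simple i), ∑ d ∈ sph Δ a w, Φ a d :=
      Finset.sum_congr rfl fun a ha => (h1 a ((mem_sph Δ).1 ha)).2
    rw [h3, Finset.sum_sigma']
    refine Finset.sum_bij (fun x _ => x.2) ?_ ?_ ?_ ?_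
    · rintro ⟨a, d⟩ hx
      rw [Finset.mem_sigma] at hx
      obtain ⟨ha, hd⟩ := hx
      rw [mem_sph] at ha hd ⊢
      exact Δ.δ_mul_of ha hd hl'
    · rintro ⟨a, d⟩ hx ⟨a', d'⟩ hx' h
      rw [Finset.mem_sigma] at hx hx'
      obtain ⟨ha, hd⟩ := hx
      obtain ⟨ha', hd'⟩ := hx'
      rw [mem_sph] at ha hd ha' hd'
      dsimp only at ha hd ha' hd' h
      subst h
      rw [← huniq d a ha hd, ← huniq d a' ha' hd']
    · intro d hd
      rw [mem_sph] at hd
      refine ⟨⟨f d, d⟩, ?_, rfl⟩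
      rw [Finset.mem_sigma]
      exact ⟨(mem_sph Δ).2 (hf1 d hd), (mem_sph Δ).2 (hf2 d hd)⟩
    · rintro ⟨a, d⟩ hx
      rw [Finset.mem_sigma] at hx
      obtain ⟨ha, hd⟩ := hx
      rw [mem_sph] at ha hd
      dsimp only at ha hd ⊢
      rw [huniq d a ha hd]

/-- `T_{s_i w} ≤ T_i T_w` if the length grows -/
theorem le_TT_TT (hN : Fam S N) {w : W} {i : I} (hl : ℓ w < ℓ (cs.simple i * w)) (c : C) :
    TT S N (cs.simple i * w) c ≤ TT S (TT S N w) (cs.simple i) c := by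
  classical
  rintro _ ⟨φ, hφ, rfl⟩
  have hl' : ℓ (cs.simple i * w) = ℓ (cs.simple i) + ℓ w := by
    have h4 := cs.length_simple_mul w i
    rw [cs.length_simple]
    omega
  have hfst : ∀ d, Δ.δ c d = cs.simple i * w → ∃ a, Δ.δ c a = cs.simple i ∧ Δ.δ a d = w := by
    intro d hd
    obtain ⟨a, ha, ha'⟩ := exists_first Δ (x := c) (y := d) (i := i) (by
      rw [hd, ← mul_assoc, cs.simple_mul_simple_self, one_mul]; exact hl)
    refine ⟨a, ha, ?_⟩
    rw [ha', hd, ← mul_assoc, cs.simple_mul_simple_self, one_mul]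
  choose! f hf1 hf2 using hfst
  have huniq : ∀ d a, Δ.δ c a = cs.simple i → Δ.δ a d = w → f d = a := by
    intro d a ha ha'
    have hd := Δ.δ_mul_of ha ha' hl'
    exact Δ.between_unique hl' (hf1 d hd) (hf2 d hd) ha ha'
  refine ⟨fun a => ∑ d ∈ sph Δ a w, φ d, ⟨fun a ha => ⟨φ, ⟨fun d hd => hφ.mem d (Δ.δ_mul_of ha hd hl'), ?_⟩, rfl⟩,
    fun u hu a ha => ?_⟩, ?_⟩
  · -- coherence under `U a`
    intro u hu d hd
    have hd1 := Δ.δ_mul_of ha hd hl'
    have hud : Δ.δ a (u • d) = w := by rw [← hd, ← S.iso u a d, S.fix a u hu]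
    have hud1 := Δ.δ_mul_of ha hud hl'
    obtain ⟨u', hu', hu'd⟩ := S.exists_move (hd1.trans hud1.symm)
    have h3 : u' • a = a := by
      have h4 : f (u • d) = a := huniq _ _ ha hud
      rw [← h4, ← hu'd]
      symm
      apply huniq
      · rw [hu'd, h4, ← ha, ← S.iso u' c a, S.fix c u' hu']
      · rw [hu'd, h4, ← hu'd, S.iso, hd]
    have h5 : u' ∈ S.U a := S.mem_U_of_fix hu' h3
    have h6 : u'⁻¹ * u ∈ S.U d := by
      refine S.mem_U_of_fix (mul_mem (inv_mem h5) hu) ?_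
      rw [mul_smul, inv_smul_eq_iff, hu'd]
    have h7 := hN.fix d _ h6 _ (hφ.mem d hd1)
    rw [mul_smul, inv_smul_eq_iff] at h7
    rw [h7, ← hu'd, hφ.eq u' hu' d hd1]
  · show ∑ d ∈ sph Δ (u • a) w, φ d = u • ∑ d ∈ sph Δ a w, φ d
    rw [sum_smul S, Finset.smul_sum]
    exact Finset.sum_congr rfl fun d hd => hφ.eq u hu d (Δ.δ_mul_of ha ((mem_sph Δ).1 hd) hl')
  · rw [Finset.sum_sigma']
    symm
    refine Finset.sum_bij (fun x _ => x.2) ?_ ?_ ?_ fun _ _ => rfl
    · rintro ⟨a, d⟩ hx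
      rw [Finset.mem_sigma] at hx
      obtain ⟨ha, hd⟩ := hx
      rw [mem_sph] at ha hd ⊢
      exact Δ.δ_mul_of ha hd hl'
    · rintro ⟨a, d⟩ hx ⟨a', d'⟩ hx' h
      rw [Finset.mem_sigma] at hx hx'
      obtain ⟨ha, hd⟩ := hx
      obtain ⟨ha', hd'⟩ := hx'
      rw [mem_sph] at ha hd ha' hd'
      dsimp only at ha hd ha' hd' h
      subst h
      rw [← huniq d a ha hd, ← huniq d a' ha' hd']
    · intro d hd
      rw [mem_sph] at hd
      refine ⟨⟨f d, d⟩, ?_, rfl⟩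
      rw [Finset.mem_sigma]
      exact ⟨(mem_sph Δ).2 (hf1 d hd), (mem_sph Δ).2 (hf2 d hd)⟩

theorem TT_mul (hN : Fam S N) {w : W} {i : I} (hl : ℓ w < ℓ (cs.simple i * w)) (c : C) :
    TT S (TT S N w) (cs.simple i) c = TT S N (cs.simple i * w) c :=
  le_antisymm (TT_TT_le hN hl c) (le_TT_TT hN hl c)

variable (S) in
include S in
/-- the number of the other chambers of a panel is divisible by `p` -/
theorem dvd_card_sph (hth : Δ.Thick) [Fact p.Prime] [Finite G] (c : C) (i : I) : p ∣ (sph Δ c (cs.simple i)).card := by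
  classical
  obtain ⟨a, b, hab, ha, hb⟩ := hth c i
  have h1 : (sph Δ c (cs.simple i) : Set C) = MulAction.orbit (S.U c) a := by
    ext d
    rw [Finset.mem_coe, mem_sph]
    constructor
    · intro hd
      obtain ⟨u, hu, hud⟩ := S.exists_move (ha.trans hd.symm)
      exact ⟨⟨u, hu⟩, hud⟩
    · rintro ⟨⟨u, hu⟩, rfl⟩
      show Δ.δ c (u • a) = _
      rw [← ha, ← S.iso u c a, S.fix c u hu]
  have h2 : Nat.card (MulAction.orbit (S.U c) a) = (sph Δ c (cs.simple i)).card := by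
    rw [← h1, Nat.card_coe_set_eq, Set.ncard_coe_finset]
  obtain ⟨n, hn⟩ := (S.isP c).card_orbit a
  rw [h2] at hn
  rw [hn]
  cases n with
  | zero =>
    exfalso
    rw [pow_zero, Finset.card_eq_one] at hn
    obtain ⟨x, hx⟩ := hn
    have h3 : a ∈ sph Δ c (cs.simple i) := (mem_sph Δ).2 ha
    have h4 : b ∈ sph Δ c (cs.simple i) := (mem_sph Δ).2 hb
    rw [hx, Finset.mem_singleton] at h3 h4
    exact hab (h3.trans h4.symm)
  | succ n => exact dvd_pow_self p (Nat.succ_ne_zero n)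

/-- **`T_i T_i ≤ T_i`** in characteristic `p` -/
theorem TT_sq (hth : Δ.Thick) [Fact p.Prime] [Finite G] (hp : ∀ v : V, p • v = 0) (hN : Fam S N) (i : I) (c : C) :
    TT S (TT S N (cs.simple i)) (cs.simple i) c ≤ TT S N (cs.simple i) c := by
  classical
  rintro _ ⟨ψ, hψ, rfl⟩
  obtain ⟨Φ, h1, h2⟩ := exists_lift hN hψ
  have hadj : ∀ {a d : C}, Δ.δ c a = cs.simple i → Δ.δ c d = cs.simple i → a ≠ d → Δ.δ a d = cs.simple i :=
    fun ha hd h => Δ.δ_eq_of_mem_Pan (Or.inr ha) (Or.inr hd) h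
  have hpan : ∀ {a d : C}, Δ.δ c a = cs.simple i → (Δ.δ a d = cs.simple i ↔ (d = c ∨ (Δ.δ c d = cs.simple i ∧ a ≠ d))) := by
    intro a d ha
    constructor
    · intro hd
      by_cases h : d = c
      · exact Or.inl h
      · right
        refine ⟨Δ.δ_eq_of_mem_Pan (x := a) (Or.inr (Δ.δ_symm_simple ha)) (Or.inr hd) (fun h' => h h'.symm), ?_⟩
        exact Δ.ne_of_δ_simple hd
    · rintro (rfl | ⟨h3, h4⟩)
      · exact Δ.δ_symm_simple ha
      · exact hadj ha h3 h4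
  -- the two parts
  set P := sph Δ c (cs.simple i) with hP
  have hsum : ∀ a ∈ P, ψ a = Φ a c + ∑ d ∈ P, if a = d then 0 else Φ a d := by
    intro a ha
    have ha' := (mem_sph Δ).1 ha
    rw [(h1 a ha').2]
    have h3 : sph Δ a (cs.simple i) = insert c (P.filter fun d => a ≠ d) := by
      ext d
      rw [mem_sph, hpan ha', Finset.mem_insert, Finset.mem_filter, mem_sph]
    have h4 : c ∉ P.filter fun d => a ≠ d := by
      rw [Finset.mem_filter, mem_sph]
      rintro ⟨h5, -⟩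
      exact Δ.ne_of_δ_simple h5 rfl
    rw [h3, Finset.sum_insert h4, Finset.sum_filter]
    congr 1
    refine Finset.sum_congr rfl fun d _ => ?_
    by_cases h : a = d <;> simp [h]
  rw [Finset.sum_congr rfl hsum, Finset.sum_add_distrib]
  -- the first part is zero
  obtain ⟨a₀, ha₀⟩ := Δ.exists_δ c (cs.simple i)
  have hz : ∑ a ∈ P, Φ a c = 0 := by
    have h3 : ∀ a ∈ P, Φ a c = Φ a₀ c := by
      intro a ha
      have ha' := (mem_sph Δ).1 ha
      obtain ⟨u, hu, rfl⟩ := S.exists_move (ha₀.trans ha'.symm)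
      have h4 := h2 a₀ ha₀ u hu c (Δ.δ_symm_simple ha₀)
      rw [S.fix c u hu] at h4
      rw [h4]
      exact hN.fix c u hu _ ((h1 a₀ ha₀).1.mem c (Δ.δ_symm_simple ha₀))
    rw [Finset.sum_congr rfl h3, Finset.sum_const]
    obtain ⟨m, hm⟩ := dvd_card_sph S hth c i
    rw [hm, mul_smul, smul_comm, hp, smul_zero]
  rw [hz, zero_add, Finset.sum_comm]
  refine ⟨fun d => ∑ a ∈ P, if a = d then 0 else Φ a d, ⟨fun d hd => ?_, fun u hu d hd => ?_⟩, rfl⟩
  · refine AddSubgroup.sum_mem _ fun a ha => ?_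
    by_cases h : a = d
    · rw [if_pos h]; exact zero_mem _
    · rw [if_neg h]
      have ha' := (mem_sph Δ).1 ha
      exact (h1 a ha').1.mem d (hadj ha' hd h)
  · show (∑ a ∈ P, if a = u • d then 0 else Φ a (u • d)) = u • ∑ a ∈ P, if a = d then 0 else Φ a d
    rw [hP, ← sum_fix S (S.fix c u hu) (cs.simple i) (fun a => if a = u • d then 0 else Φ a (u • d)), Finset.smul_sum]
    refine Finset.sum_congr rfl fun a ha => ?_
    have ha' := (mem_sph Δ).1 ha
    by_cases h : a = d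
    · rw [if_pos h, if_pos (by rw [h]), smul_zero]
    · rw [if_neg h, if_neg (fun h' => h (smul_left_cancel u h')), h2 a ha' u hu d (hadj ha' hd h)]

end Cfsg.Agent.Omega.ML.LieRow.CRB

end

section


/-!
# The theorem of Curtis and Richen in building form, part 2

`V` a finite irreducible `G`-module with `p V = 0`, `S : Sys Δ G p`, `Δ` thick.

* `gal` : induction on galleries: a panel condition and the truth at the opposite chambers imply the truth everywhere;
* `inf_comm` : `C_V(U c) ∩ [V, U d] = 0` for opposite `c`, `d`;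
* `exists_stable` : a simple family invariant under all `T_i`;
* **`simple_Fx`** : `C_V(U c)` is a simple module of the stabiliser of `c`.
-/

set_option autoImplicit false
set_option linter.unusedSectionVars false

namespace Cfsg.Agent.Omega.ML.LieRow.CRB

open Cfsg.Agent.Tits.Core Cfsg.Agent.Tits.Core.Bldg Cfsg.Agent.Tits.Exchange Cfsg.Agent.Tits
open Cfsg.Agent.FixBN Cfsg.Agent.FixBN.Cox

/-! ### `p`-groups on `p`-groups -/

section pgrp

variable {P : Type*} [Group P] {V : Type*} [AddCommGroup V] [DistribMulAction P V] {p : ℕ} [Fact p.Prime]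

theorem dvd_card [Finite V] [Nontrivial V] (hp : ∀ v : V, p • v = 0) : p ∣ Nat.card V := by
  obtain ⟨v, hv⟩ := exists_ne (0 : V)
  rw [← addOrderOf_eq_prime (hp v) hv]
  exact addOrderOf_dvd_natCard v

theorem exists_fixed [Finite V] [Nontrivial V] (hP : IsPGroup p P) (hp : ∀ v : V, p • v = 0) :
    ∃ v : V, v ≠ 0 ∧ ∀ g : P, g • v = v := by
  obtain ⟨b, hb, h⟩ := hP.exists_fixed_point_of_prime_dvd_card_of_fixed_point V (dvd_card hp) (a := 0)
    (fun g => smul_zero g)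
  exact ⟨b, fun h' => h h'.symm, fun g => hb g⟩

/-- the quotient module -/
@[reducible] def quoAct {G : Type*} [Group G] [DistribMulAction G V] (L : AddSubgroup V) (hL : ∀ g : G, ∀ v ∈ L, g • v ∈ L) :
    DistribMulAction G (V ⧸ L) where
  smul g := QuotientAddGroup.map L L (DistribSMul.toAddMonoidHom V g) fun v hv => hL g v hv
  one_smul := by
    intro x
    induction x using QuotientAddGroup.induction_on with
    | H v => exact congrArg _ (one_smul G v)
  mul_smul := by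
    intro g h x
    induction x using QuotientAddGroup.induction_on with
    | H v => exact congrArg _ (mul_smul g h v)
  smul_zero := fun g => map_zero _
  smul_add := fun g x y => map_add _ x y

theorem quo_smul {G : Type*} [Group G] [DistribMulAction G V] (L : AddSubgroup V) (hL : ∀ g : G, ∀ v ∈ L, g • v ∈ L) (g : G) (v : V) :
    letI := quoAct L hL
    g • (QuotientAddGroup.mk v : V ⧸ L) = QuotientAddGroup.mk (g • v) := rfl

/-- the commutator `[V, P]` is proper -/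
theorem exists_proper [Finite V] [Nontrivial V] (hP : IsPGroup p P) (hp : ∀ v : V, p • v = 0) :
    ∃ L : AddSubgroup V, L ≠ ⊤ ∧ ∀ g : P, ∀ v, g • v - v ∈ L := by
  have hfin : (Set.univ : Set (AddSubgroup V)).Finite := Set.toFinite _
  have hne : {L : AddSubgroup V | L ≠ ⊤ ∧ ∀ g : P, ∀ v ∈ L, g • v ∈ L}.Nonempty :=
    ⟨⊥, bot_ne_top, fun g v hv => by rw [AddSubgroup.mem_bot] at hv ⊢; rw [hv, smul_zero]⟩
  obtain ⟨L, hL⟩ := (Set.toFinite {L : AddSubgroup V | L ≠ ⊤ ∧ ∀ g : P, ∀ v ∈ L, g • v ∈ L}).exists_maximal hne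
  obtain ⟨hL1, hL2⟩ := hL.prop
  refine ⟨L, hL1, ?_⟩
  -- fixed points of the quotient
  let _ := quoAct L hL2
  have hnt : Nontrivial (V ⧸ L) := by
    rw [← not_subsingleton_iff_nontrivial]
    intro h
    apply hL1
    rw [eq_top_iff]
    intro v _
    exact (QuotientAddGroup.eq_zero_iff v).1 (Subsingleton.elim _ _)
  have hp' : ∀ v : V ⧸ L, p • v = 0 := by
    intro x
    induction x using QuotientAddGroup.induction_on with
    | H v =>
      rw [← QuotientAddGroup.mk_nsmul, hp]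
      rfl
  obtain ⟨x, hx, hfx⟩ := exists_fixed hP hp'
  let L₁ : AddSubgroup V :=
    { carrier := {v | ∀ g : P, g • v - v ∈ L}
      zero_mem' := fun g => by rw [smul_zero, sub_zero]; exact zero_mem _
      add_mem' := fun {a b} ha hb g => by
        have : g • (a + b) - (a + b) = (g • a - a) + (g • b - b) := by rw [smul_add]; abel
        rw [this]
        exact add_mem (ha g) (hb g)
      neg_mem' := fun {a} ha g => by
        have : g • (-a) - (-a) = -(g • a - a) := by rw [smul_neg]; abel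
        rw [this]
        exact neg_mem (ha g) }
  have hm : ∀ v, v ∈ L₁ ↔ ∀ g : P, g • v - v ∈ L := fun v => Iff.rfl
  have hLL : L ≤ L₁ := fun v hv g => sub_mem (hL2 g v hv) hv
  have hinv : ∀ g : P, ∀ v ∈ L₁, g • v ∈ L₁ := by
    intro g v hv h
    have h1 := hv (h * g)
    have h2 := hv g
    have : h • g • v - g • v = ((h * g) • v - v) - (g • v - v) := by rw [mul_smul]; abel
    rw [this]
    exact sub_mem h1 h2
  have h1 : L₁ = ⊤ := by
    by_contra hne'
    have h2 : L₁ ≤ L := hL.le_of_ge ⟨hne', hinv⟩ hLL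
    induction x using QuotientAddGroup.induction_on with
    | H v =>
      apply hx
      rw [QuotientAddGroup.eq_zero_iff]
      apply h2
      intro g
      have h3 := hfx g
      rw [quo_smul] at h3
      have h4 := (QuotientAddGroup.eq_iff_sub_mem).1 h3
      exact h4
  intro g v
  have : v ∈ L₁ := by rw [h1]; trivial
  exact this g

end pgrp

variable {I : Type*} {M : CoxeterMatrix I} {W : Type*} [Group W] {cs : CoxeterSystem M W} {C : Type*}
  {Δ : Bldg cs C} {G : Type*} [Group G] [MulAction G C] {p : ℕ} (S : Sys Δ G p)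
  {V : Type*} [AddCommGroup V] [DistribMulAction G V]

local prefix:100 "ℓ" => cs.length

/-! ### galleries -/

/-- **induction on galleries** -/
theorem gal [F : OppRes.Cox cs] {Pr : C → Prop} (h : ∀ c i, (∀ d, Δ.δ c d = cs.simple i → Pr d) → Pr c) {c₀ : C}
    (h₀ : ∀ d, Δ.Opp c₀ d → Pr d) (c : C) : Pr c := by
  have key : ∀ n : ℕ, ∀ c, ℓ (w0 cs) - ℓ (Δ.δ c₀ c) = n → Pr c := by
    intro n
    induction n using Nat.strong_induction_on with
    | _ n ih =>
      intro c hn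
      by_cases h1 : ∀ i, ℓ (Δ.δ c₀ c * cs.simple i) < ℓ (Δ.δ c₀ c)
      · apply h₀
        exact F.eq_wJ_of_descents (J := Set.univ) (by rw [OppRes.WJ_univ]; trivial) fun j _ => h1 j
      · push Not at h1
        obtain ⟨i, hi⟩ := h1
        have hi' : ℓ (Δ.δ c₀ c) < ℓ (Δ.δ c₀ c * cs.simple i) := by
          rcases cs.length_mul_simple (Δ.δ c₀ c) i with h2 | h2 <;> omega
        apply h c i
        intro d hd
        have h3 := Δ.step_lt c₀ c d i hd hi'
        refine ih _ ?_ d rfl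
        rw [h3]
        have h4 := F.len_mul_w0 (Δ.δ c₀ c * cs.simple i)⁻¹
        rw [cs.length_inv] at h4
        omega
  exact key _ c rfl

/-! ### The two families -/

/-- `C_V(U c)` -/
def Fx (c : C) : AddSubgroup V where
  carrier := {v | ∀ u ∈ S.U c, u • v = v}
  zero_mem' := fun u _ => smul_zero u
  add_mem' := fun {a b} ha hb u hu => by rw [smul_add, ha u hu, hb u hu]
  neg_mem' := fun {a} ha u hu => by rw [smul_neg, ha u hu]

theorem mem_Fx {c : C} {v : V} : v ∈ Fx S c ↔ ∀ u ∈ S.U c, u • v = v := Iff.rfl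

theorem fam_Fx : Fam S (Fx (V := V) S) := by
  refine ⟨fun g c v hv u hu => ?_, fun c u hu v hv => hv u hu⟩
  have h2 : g⁻¹ * u * g ∈ S.U c := by
    have h3 : g * (g⁻¹ * u * g) * g⁻¹ ∈ S.U (g • c) := by
      have : g * (g⁻¹ * u * g) * g⁻¹ = u := by group
      rwa [this]
    exact S.conj_mem_U_iff.1 h3
  have h3 := hv _ h2
  rw [mul_smul, mul_smul, inv_smul_eq_iff] at h3
  exact h3

theorem le_Fx {N : C → AddSubgroup V} (hN : Fam S N) (c : C) : N c ≤ Fx S c := fun v hv u hu => hN.fix c u hu v hv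

/-- `[V, U c]` -/
def Cm (c : C) : AddSubgroup V := AddSubgroup.closure {x | ∃ u ∈ S.U c, ∃ v : V, x = u • v - v}

theorem mem_Cm {c : C} {u : G} (hu : u ∈ S.U c) (v : V) : u • v - v ∈ Cm S c :=
  AddSubgroup.subset_closure ⟨u, hu, v, rfl⟩

theorem smul_mem_Cm {c : C} (g : G) {v : V} (hv : v ∈ Cm S c) : g • v ∈ Cm S (g • c) := by
  induction hv using AddSubgroup.closure_induction with
  | mem x hx =>
    obtain ⟨u, hu, v, rfl⟩ := hx
    have h1 := mem_Cm S (S.conj_mem_U hu g) (g • v)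
    have e : (g * u * g⁻¹) • g • v - g • v = g • (u • v - v) := by
      rw [smul_sub, smul_smul, smul_smul]
      congr 2
      group
    rwa [e] at h1
  | zero => rw [smul_zero]; exact zero_mem _
  | add x y _ _ hx hy => rw [smul_add]; exact add_mem hx hy
  | neg x _ hx => rw [smul_neg]; exact neg_mem hx

variable [Fintype C] [F : OppRes.Cox cs] {S}

/-- the panel condition for families invariant under `T_i` -/
theorem le_of_panel {N : C → AddSubgroup V} (hN : Fam S N) (hst : ∀ i c, TT S N (cs.simple i) c ≤ N c)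
    {L : AddSubgroup V} {c : C} {i : I} (h : ∀ d, Δ.δ c d = cs.simple i → N d ≤ L) : N c ≤ L := by
  classical
  intro v hv
  obtain ⟨a, ha⟩ := Δ.exists_δ c (cs.simple i)
  have ha' := Δ.δ_symm_simple ha
  obtain ⟨φ, hφ, rfl⟩ := exists_coh hN ha' hv
  have h1 : ∑ d ∈ sph Δ a (cs.simple i), φ d ∈ L := h a ha (hst i a ⟨φ, hφ, rfl⟩)
  have h2 : c ∈ sph Δ a (cs.simple i) := (mem_sph Δ).2 ha'
  rw [← Finset.add_sum_erase _ _ h2] at h1
  have h3 : ∑ d ∈ (sph Δ a (cs.simple i)).erase c, φ d ∈ L := by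
    refine AddSubgroup.sum_mem _ fun d hd => ?_
    rw [Finset.mem_erase, mem_sph] at hd
    refine h d ?_ (hφ.mem d hd.2)
    exact Δ.δ_eq_of_mem_Pan (x := a) (Or.inr ha') (Or.inr hd.2) (fun h' => hd.1 h'.symm)
  have h4 := sub_mem h1 h3
  rwa [add_sub_cancel_right] at h4

/-- the dual panel condition -/
theorem mem_Cm_of_panel {c : C} {i : I} {v : V} (h : ∀ d, Δ.δ c d = cs.simple i → v ∈ Cm S d) : v ∈ Cm S c := by
  classical
  obtain ⟨a, ha⟩ := Δ.exists_δ c (cs.simple i)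
  have ha' := Δ.δ_symm_simple ha
  have hch : ∀ e, Δ.δ a e = cs.simple i → ∃ t ∈ S.U a, t • c = e := fun e he => S.exists_move (ha'.trans he.symm)
  choose! t ht hte using hch
  -- claim 1
  have key : ∀ x ∈ Cm (V := V) S a, ∑ e ∈ sph Δ a (cs.simple i), (t e)⁻¹ • x ∈ Cm S c := by
    intro x hx
    induction hx using AddSubgroup.closure_induction with
    | mem x hx =>
      obtain ⟨u, hu, x, rfl⟩ := hx
      have h1 : ∑ e ∈ sph Δ a (cs.simple i), (t e)⁻¹ • (u • x - x) =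
          ∑ e ∈ sph Δ a (cs.simple i), ((t (u • e))⁻¹ • u • x - (t e)⁻¹ • x) := by
        rw [Finset.sum_sub_distrib, sum_fix S (S.fix a u hu) (cs.simple i) fun e => (t e)⁻¹ • u • x,
          ← Finset.sum_sub_distrib]
        exact Finset.sum_congr rfl fun e _ => smul_sub _ _ _
      rw [h1]
      refine AddSubgroup.sum_mem _ fun e he => ?_
      have he' := (mem_sph Δ).1 he
      have hue : Δ.δ a (u • e) = cs.simple i := by rw [← he', ← S.iso u a e, S.fix a u hu]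
      have h2 : (t (u • e))⁻¹ * u * t e ∈ S.U a := mul_mem (mul_mem (inv_mem (ht _ hue)) hu) (ht _ he')
      have h3 : ((t (u • e))⁻¹ * u * t e) • c = c := by
        rw [mul_smul, mul_smul, hte _ he', inv_smul_eq_iff, hte _ hue]
      have h4 := mem_Cm S (S.mem_U_of_fix h2 h3) ((t e)⁻¹ • x)
      have e1 : ((t (u • e))⁻¹ * u * t e) • (t e)⁻¹ • x = (t (u • e))⁻¹ • u • x := by
        rw [smul_smul, smul_smul]
        congr 1
        group
      rwa [e1] at h4
    | zero => simp only [smul_zero, Finset.sum_const_zero]; exact zero_mem _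
    | add x y _ _ hx hy =>
      simp only [smul_add, Finset.sum_add_distrib]
      exact add_mem hx hy
    | neg x _ hx =>
      simp only [smul_neg, Finset.sum_neg_distrib]
      exact neg_mem hx
  have h1 := key v (h a ha)
  have h2 : c ∈ sph Δ a (cs.simple i) := (mem_sph Δ).2 ha'
  rw [← Finset.add_sum_erase _ _ h2] at h1
  have h3 : ∑ e ∈ (sph Δ a (cs.simple i)).erase c, (t e)⁻¹ • v ∈ Cm S c := by
    refine AddSubgroup.sum_mem _ fun e he => ?_
    rw [Finset.mem_erase, mem_sph] at he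
    have h4 := h e (Δ.δ_eq_of_mem_Pan (x := a) (Or.inr ha') (Or.inr he.2) (fun h' => he.1 h'.symm))
    have h5 := smul_mem_Cm S (t e)⁻¹ h4
    rwa [inv_smul_eq_iff.2 (hte e he.2).symm] at h5
  have h4 := sub_mem h1 h3
  rw [add_sub_cancel_right] at h4
  have h5 : (t c)⁻¹ • v - v ∈ Cm S c := mem_Cm S (inv_mem (S.mem_U_of_fix (ht c ha') (hte c ha'))) v
  have h6 := sub_mem h4 h5
  rwa [sub_sub_cancel] at h6

/-! ### irreducible modules -/

/-- no invariant subgroups -/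
def Irr (G : Type*) [Group G] (V : Type*) [AddCommGroup V] [DistribMulAction G V] : Prop :=
  ∀ L : AddSubgroup V, (∀ g : G, ∀ v ∈ L, g • v ∈ L) → L = ⊥ ∨ L = ⊤

/-- simple under the stabilisers -/
def Simp (G : Type*) [Group G] [MulAction G C] {V : Type*} [AddCommGroup V] [DistribMulAction G V]
    (N : C → AddSubgroup V) : Prop :=
  ∀ c, ∀ L ≤ N c, (∀ g : G, g • c = c → ∀ v ∈ L, g • v ∈ L) → L = ⊥ ∨ L = N c

/-- **opposite chambers** -/
theorem inf_comm [Finite V] [Nontrivial V] [Fact p.Prime] (hp : ∀ v : V, p • v = 0) (hirr : Irr G V) {c d : C}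
    (hcd : Δ.Opp c d) {v : V} (hv : v ∈ Fx S c) (hv' : v ∈ Cm S d) : v = 0 := by
  have h1 : ∀ e, v ∈ Cm S e := by
    refine gal (Δ := Δ) (fun a i h => mem_Cm_of_panel h) (c₀ := c) ?_
    intro d' hd'
    obtain ⟨u, hu, rfl⟩ := S.trans c d d' hcd hd'
    have h2 := smul_mem_Cm S u hv'
    rwa [hv u hu] at h2
  -- the intersection of all
  have h2 : (⨅ e, Cm (V := V) S e) = ⊥ ∨ (⨅ e, Cm (V := V) S e) = ⊤ := by
    apply hirr
    intro g x hx
    rw [AddSubgroup.mem_iInf] at hx ⊢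
    intro e
    have h3 := smul_mem_Cm S g (hx (g⁻¹ • e))
    rwa [smul_inv_smul] at h3
  rcases h2 with h2 | h2
  · have h3 : v ∈ (⨅ e, Cm (V := V) S e) := AddSubgroup.mem_iInf.2 h1
    rwa [h2, AddSubgroup.mem_bot] at h3
  · exfalso
    obtain ⟨L, hL, hL'⟩ := exists_proper (P := S.U c) (S.isP c) hp
    apply hL
    rw [eq_top_iff, ← h2]
    refine (iInf_le _ c).trans ((AddSubgroup.closure_le _).2 ?_)
    rintro _ ⟨u, hu, x, rfl⟩
    exact hL' ⟨u, hu⟩ x

/-- `T_w` of a simple family is simple -/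
theorem simp_TT {N : C → AddSubgroup V} (hN : Fam S N) (hs : Simp G N) (w : W) : Simp G (TT S N w) := by
  classical
  intro c L hL hinv
  obtain ⟨d₀, hd₀⟩ := Δ.exists_δ c w
  let L' : AddSubgroup V :=
    { carrier := {v | ∃ φ, Coh S N c w φ ∧ φ d₀ = v ∧ ∑ d ∈ sph Δ c w, φ d ∈ L}
      zero_mem' := ⟨fun _ => 0, ⟨fun d _ => zero_mem _, fun u _ d _ => (smul_zero u).symm⟩, rfl, by
        rw [Finset.sum_const_zero]; exact zero_mem _⟩
      add_mem' := by
        rintro _ _ ⟨φ, hφ, rfl, h1⟩ ⟨ψ, hψ, rfl, h2⟩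
        refine ⟨fun d => φ d + ψ d, ⟨fun d hd => add_mem (hφ.mem d hd) (hψ.mem d hd), fun u hu d hd => ?_⟩, rfl, ?_⟩
        · rw [hφ.eq u hu d hd, hψ.eq u hu d hd, smul_add]
        · rw [Finset.sum_add_distrib]; exact add_mem h1 h2
      neg_mem' := by
        rintro _ ⟨φ, hφ, rfl, h1⟩
        refine ⟨fun d => -φ d, ⟨fun d hd => neg_mem (hφ.mem d hd), fun u hu d hd => ?_⟩, rfl, ?_⟩
        · rw [hφ.eq u hu d hd, smul_neg]
        · rw [Finset.sum_neg_distrib]; exact neg_mem h1 }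
  have hm : ∀ v, v ∈ L' ↔ ∃ φ, Coh S N c w φ ∧ φ d₀ = v ∧ ∑ d ∈ sph Δ c w, φ d ∈ L := fun v => Iff.rfl
  have hL'le : L' ≤ N d₀ := by
    rintro _ ⟨φ, hφ, rfl, -⟩
    exact hφ.mem d₀ hd₀
  have hL'inv : ∀ g : G, g • d₀ = d₀ → ∀ v ∈ L', g • v ∈ L' := by
    rintro g hg _ ⟨φ, hφ, rfl, h1⟩
    obtain ⟨u, hu, huc⟩ := S.exists_move (x := d₀) (z := c) (z' := g • c) (by
      conv_rhs => rw [← hg, S.iso])
    have h2 : (u⁻¹ * g) • c = c := by rw [mul_smul, inv_smul_eq_iff, huc]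
    have h3 : (u⁻¹ * g) • d₀ = d₀ := by rw [mul_smul, hg, inv_smul_eq_iff, S.fix d₀ u hu]
    have h4 := hφ.smul hN (u⁻¹ * g)
    rw [h2] at h4
    have h5 : (u⁻¹ * g)⁻¹ • d₀ = d₀ := by rw [inv_smul_eq_iff, h3]
    have h6 : (u⁻¹ * g) • φ d₀ ∈ L' := by
      refine ⟨_, h4, ?_, ?_⟩
      · show (u⁻¹ * g) • φ ((u⁻¹ * g)⁻¹ • d₀) = _
        rw [h5]
      · have h7 := sum_conj S (u⁻¹ * g) c w φ
        rw [h2] at h7
        rw [h7]
        exact hinv _ h2 _ h1
    have h7 := hN.fix d₀ u hu _ (hL'le h6)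
    rw [mul_smul, smul_inv_smul] at h7
    rw [h7, ← mul_smul]
    exact h6
  rcases hs d₀ L' hL'le hL'inv with h1 | h1
  · left
    rw [eq_bot_iff]
    intro v hv
    obtain ⟨φ, hφ, rfl⟩ := hL hv
    have h2 : φ d₀ ∈ L' := ⟨φ, hφ, rfl, hv⟩
    rw [h1, AddSubgroup.mem_bot] at h2
    have h3 := hφ.ext (ψ := fun _ => 0) ⟨fun d _ => zero_mem _, fun u _ d _ => (smul_zero u).symm⟩ hd₀ h2
    rw [AddSubgroup.mem_bot]
    exact Finset.sum_eq_zero fun d hd => h3 d ((mem_sph Δ).1 hd)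
  · right
    refine le_antisymm hL ?_
    rintro _ ⟨ψ, hψ, rfl⟩
    have h2 : ψ d₀ ∈ L' := by rw [h1]; exact hψ.mem d₀ hd₀
    obtain ⟨φ, hφ, h3, h4⟩ := h2
    have h5 := hφ.ext hψ hd₀ h3
    rwa [Finset.sum_congr rfl fun d hd => h5 d ((mem_sph Δ).1 hd)] at h4

theorem bot_of_bot (hth : Δ.Thick) {N : C → AddSubgroup V} (hN : Fam S N) {c : C} (h : N c = ⊥) (d : C) : N d = ⊥ := by
  obtain ⟨g, rfl⟩ := exists_smul_top S hth c d
  rw [eq_bot_iff]
  intro v hv
  have h1 := hN.smul g⁻¹ _ v hv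
  rw [inv_smul_smul, h, AddSubgroup.mem_bot, inv_smul_eq_iff, smul_zero] at h1
  rw [AddSubgroup.mem_bot, h1]

/-- **a simple family invariant under all `T_i`** -/
theorem exists_stable (hth : Δ.Thick) [Fact p.Prime] [Finite G] (hp : ∀ v : V, p • v = 0) {N : C → AddSubgroup V}
    (hN : Fam S N) (hs : Simp G N) {c : C} (hc : N c ≠ ⊥) :
    ∃ N' : C → AddSubgroup V, Fam S N' ∧ Simp G N' ∧ N' c ≠ ⊥ ∧ ∀ i c, TT S N' (cs.simple i) c ≤ N' c := by
  have key : ∀ n : ℕ, ∀ w, ℓ (w0 cs) - ℓ w = n → TT S N w c ≠ ⊥ →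
      ∃ w', TT S N w' c ≠ ⊥ ∧ ∀ i, ℓ w' < ℓ (cs.simple i * w') → TT S N (cs.simple i * w') c = ⊥ := by
    intro n
    induction n using Nat.strong_induction_on with
    | _ n ih =>
      intro w hn hw
      by_cases h1 : ∀ i, ℓ w < ℓ (cs.simple i * w) → TT S N (cs.simple i * w) c = ⊥
      · exact ⟨w, hw, h1⟩
      · push Not at h1
        obtain ⟨i, hi, hi'⟩ := h1
        refine ih _ ?_ (cs.simple i * w) rfl hi'
        have h4 := F.len_mul_w0 (cs.simple i * w)
        omega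
  obtain ⟨w, hw, hmax⟩ := key _ 1 rfl (by rwa [TT_one hN])
  refine ⟨TT S N w, fam_TT hN w, simp_TT hN hs w, hw, ?_⟩
  intro i a
  rcases cs.length_simple_mul w i with h1 | h1
  · rw [TT_mul hN (by omega), bot_of_bot hth (fam_TT hN _) (hmax i (by omega)) a]
    exact bot_le
  · have h2 : ℓ (cs.simple i * w) < ℓ (cs.simple i * (cs.simple i * w)) := by
      rw [← mul_assoc, cs.simple_mul_simple_self, one_mul]
      omega
    have h3 : TT S (TT S N (cs.simple i * w)) (cs.simple i) = TT S N w := by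
      funext b
      rw [TT_mul hN h2, ← mul_assoc, cs.simple_mul_simple_self, one_mul]
    have h4 := TT_sq hth hp (fam_TT hN (cs.simple i * w)) i a
    rwa [h3] at h4

/-- the family generated by an invariant subgroup -/
theorem exists_fam (hth : Δ.Thick) (c₀ : C) {L : AddSubgroup V} (hL : L ≤ Fx S c₀)
    (hinv : ∀ g : G, g • c₀ = c₀ → ∀ v ∈ L, g • v ∈ L)
    (hs : ∀ L' ≤ L, (∀ g : G, g • c₀ = c₀ → ∀ v ∈ L', g • v ∈ L') → L' = ⊥ ∨ L' = L) :
    ∃ N : C → AddSubgroup V, Fam S N ∧ Simp G N ∧ N c₀ = L := by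
  let N : C → AddSubgroup V := fun c =>
    { carrier := {v | ∀ g : G, g • c₀ = c → g⁻¹ • v ∈ L}
      zero_mem' := fun g _ => by rw [smul_zero]; exact zero_mem _
      add_mem' := fun {a b} ha hb g hg => by rw [smul_add]; exact add_mem (ha g hg) (hb g hg)
      neg_mem' := fun {a} ha g hg => by rw [smul_neg]; exact neg_mem (ha g hg) }
  have hm : ∀ c v, v ∈ N c ↔ ∀ g : G, g • c₀ = c → g⁻¹ • v ∈ L := fun c v => Iff.rfl
  have hm' : ∀ (g : G) v, v ∈ N (g • c₀) ↔ g⁻¹ • v ∈ L := by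
    intro g v
    refine ⟨fun h => h g rfl, fun h g' hg' => ?_⟩
    have h1 := hinv (g'⁻¹ * g) (by rw [mul_smul, ← hg', inv_smul_smul]) _ h
    rwa [mul_smul, smul_inv_smul] at h1
  have h0 : N c₀ = L := by
    ext v
    have := hm' 1 v
    rwa [one_smul, inv_one, one_smul] at this
  have hsm : ∀ (g : G) (c : C), ∀ v ∈ N c, g • v ∈ N (g • c) := by
    intro g c v hv
    obtain ⟨k, rfl⟩ := exists_smul_top S hth c₀ c
    rw [← mul_smul, hm']
    rw [hm'] at hv
    rwa [mul_inv_rev, mul_smul, inv_smul_smul]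
  refine ⟨N, ⟨hsm, ?_⟩, ?_, h0⟩
  · intro c u hu v hv
    obtain ⟨k, rfl⟩ := exists_smul_top S hth c₀ c
    rw [hm'] at hv
    have h2 : k⁻¹ * u * k ∈ S.U c₀ := by
      have h3 : k * (k⁻¹ * u * k) * k⁻¹ ∈ S.U (k • c₀) := by
        have : k * (k⁻¹ * u * k) * k⁻¹ = u := by group
        rwa [this]
      exact S.conj_mem_U_iff.1 h3
    have h3 := hL hv _ h2
    rw [mul_smul, mul_smul, smul_inv_smul, inv_smul_eq_iff, smul_inv_smul] at h3
    exact h3
  · intro c L' hL' hinv'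
    obtain ⟨k, rfl⟩ := exists_smul_top S hth c₀ c
    let L'' : AddSubgroup V := L'.comap (DistribSMul.toAddMonoidHom V k)
    have hmm : ∀ v, v ∈ L'' ↔ k • v ∈ L' := fun v => Iff.rfl
    rcases hs L'' (fun v hv => by
        have h1 := hL' hv
        rw [hm'] at h1
        have h2 : k⁻¹ • (DistribSMul.toAddMonoidHom V k) v = v := inv_smul_smul k v
        rwa [h2] at h1) (by
        intro g hg v hv
        rw [hmm] at hv ⊢
        have h1 := hinv' (k * g * k⁻¹) (by rw [mul_smul, mul_smul, inv_smul_smul, hg]) _ hv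
        rwa [mul_smul, mul_smul, inv_smul_smul] at h1) with h1 | h1
    · left
      rw [eq_bot_iff]
      intro v hv
      have h2 : k⁻¹ • v ∈ L'' := by rw [hmm, smul_inv_smul]; exact hv
      rw [h1, AddSubgroup.mem_bot, inv_smul_eq_iff, smul_zero] at h2
      rw [AddSubgroup.mem_bot, h2]
    · right
      refine le_antisymm hL' fun v hv => ?_
      rw [hm', ← h1, hmm, smul_inv_smul] at hv
      exact hv

/-- **The theorem of Curtis and Richen**: `C_V(U c)` is a simple module of the stabiliser of `c`. -/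
theorem simple_Fx (hth : Δ.Thick) [Fact p.Prime] [Finite G] [Finite V] [Nontrivial V] (hp : ∀ v : V, p • v = 0)
    (hirr : Irr G V) : Simp G (Fx (V := V) S) := by
  intro c
  -- a minimal invariant subgroup of `C_V(U c)`
  have hne : {L : AddSubgroup V | L ≠ ⊥ ∧ L ≤ Fx S c ∧ ∀ g : G, g • c = c → ∀ v ∈ L, g • v ∈ L}.Nonempty := by
    refine ⟨Fx S c, ?_, le_rfl, ?_⟩
    · intro h
      obtain ⟨v, hv, hfv⟩ := exists_fixed (P := S.U c) (V := V) (S.isP c) hp
      have h1 : v ∈ Fx S c := fun u hu => hfv ⟨u, hu⟩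
      rw [h, AddSubgroup.mem_bot] at h1
      exact hv h1
    · intro g hg v hv
      have := (fam_Fx S).smul g c v hv
      rwa [hg] at this
  obtain ⟨L, hL⟩ := (Set.toFinite _).exists_minimal hne
  obtain ⟨hL1, hL2, hL3⟩ := hL.prop
  obtain ⟨N, hN, hNs, hNc⟩ := exists_fam (S := S) hth c hL2 hL3 (by
    intro L' hL' hinv
    by_cases h : L' = ⊥
    · exact Or.inl h
    · exact Or.inr (le_antisymm hL' (hL.le_of_le ⟨h, hL'.trans hL2, hinv⟩ hL')))
  obtain ⟨N', hN', hs', hne', hst⟩ := exists_stable hth hp hN hNs (c := c) (by rwa [hNc])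
  -- an opposite chamber
  have hall : ∀ c, N' c = Fx S c := by
    intro c
    obtain ⟨d, hd⟩ := Δ.exists_δ c (w0 cs)
    have hcd : Δ.Opp c d := hd
    have hdc : Δ.Opp d c := by
      show Δ.δ d c = w0 cs
      rw [Δ.symm c d, hd, F.w0_inv]
    refine le_antisymm (le_Fx S hN' c) ?_
    -- `V = N' c + [V, U d]`
    have h1 : ∀ e, N' e ≤ N' c ⊔ Cm S d := by
      refine gal (Δ := Δ) (fun a i h => le_of_panel hN' hst h) (c₀ := d) ?_
      intro c' hc'
      obtain ⟨u, hu, rfl⟩ := S.trans d c c' hdc hc'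
      intro v hv
      have h2 := hN'.smul u⁻¹ _ v hv
      rw [inv_smul_smul] at h2
      have h3 : v = u⁻¹ • v - (u⁻¹ • v - v) := by abel
      rw [h3]
      exact sub_mem (AddSubgroup.mem_sup_left h2) (AddSubgroup.mem_sup_right (mem_Cm S (inv_mem hu) v))
    have h2 : (⨆ e, N' e) = ⊤ := by
      refine (hirr (⨆ e, N' e) ?_).resolve_left ?_
      · intro g v hv
        have h3 : (⨆ e, N' e) ≤ (⨆ e, N' e).comap (DistribSMul.toAddMonoidHom V g) :=
          iSup_le fun e x hx => AddSubgroup.mem_iSup_of_mem (g • e) (hN'.smul g e x hx)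
        exact h3 hv
      · intro h3
        apply hne'
        rw [eq_bot_iff, ← h3]
        exact le_iSup N' _
    intro v hv
    have h3 : v ∈ N' c ⊔ Cm S d := (iSup_le h1) (by rw [h2]; trivial)
    obtain ⟨n, hn, m, hm, rfl⟩ := AddSubgroup.mem_sup.1 h3
    have h4 : m ∈ Fx S c := by
      have := sub_mem hv (le_Fx S hN' c hn)
      rwa [add_sub_cancel_left] at this
    rw [inf_comm hp hirr hcd h4 hm, add_zero]
    exact hn
  have h1 : N' = Fx S := funext hall
  rw [h1] at hs'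
  exact hs' c

end Cfsg.Agent.Omega.ML.LieRow.CRB

end

section


/-!
# Overgroups of `U c` fixing a vector

* `fix_all` : `U c ≤ R ≤ G`, `R` fixes a vector `≠ 0` of the irreducible module `V`, `B/U` abelian: `R` centralises
  `C_V(U c)`;
* `fix_all_kt` : the same for `H = KT`, `M` irreducible for `H`, `T ≤ R ≤ H` fixes the `T`-fixed vector `y ≠ 0`:
  `R` centralises all `T`-fixed vectors.
-/

set_option autoImplicit false
set_option linter.unusedSectionVars false

namespace Cfsg.Agent.Omega.ML.LieRow.CRB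

open Cfsg.Agent.Tits.Core Cfsg.Agent.Tits.Core.Bldg Cfsg.Agent.Tits.Exchange Cfsg.Agent.Tits
open Cfsg.Agent.FixBN Cfsg.Agent.FixBN.Cox Cfsg.Agent.UGT.U2.FOne

variable {I : Type*} {M : CoxeterMatrix I} {W : Type*} [Group W] {cs : CoxeterSystem M W} {C : Type*}
  {Δ : Bldg cs C}

local prefix:100 "ℓ" => cs.length

/-- **overgroups of `U c`** -/
theorem fix_all {G : Type*} [Group G] [MulAction G C] {p : ℕ} (S : Sys Δ G p) [F : OppRes.Cox cs] [Finite C]
    {V : Type*} [AddCommGroup V] [DistribMulAction G V] (hth : Δ.Thick) [Fact p.Prime] [Finite G] [Finite V]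
    (hp : ∀ v : V, p • v = 0) (hirr : Irr G V) {c : C}
    (hab : ∀ a b : G, a • c = c → b • c = c → a * b * a⁻¹ * b⁻¹ ∈ S.U c) {R : Subgroup G} (hR : S.U c ≤ R)
    {y : V} (hy : y ≠ 0) (hyR : ∀ r ∈ R, r • y = y) : ∀ r ∈ R, ∀ v ∈ Fx (V := V) S c, r • v = v := by
  classical
  have : Fintype C := Fintype.ofFinite C
  have : Nontrivial V := ⟨y, 0, hy⟩
  have hs := simple_Fx (S := S) hth hp hirr c
  -- the normal closure of `U c` in the parabolic
  let D : Subgroup G := ⨆ r : R, S.U ((r : G) • c)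
  have hUD : ∀ r ∈ R, S.U (r • c) ≤ D := fun r hr => le_iSup (fun r : R => S.U ((r : G) • c)) ⟨r, hr⟩
  have hcD : S.U c ≤ D := by
    have := hUD 1 (one_mem _)
    rwa [one_smul] at this
  have hDR : D ≤ R := by
    refine iSup_le ?_
    rintro ⟨r, hr⟩ u hu
    have h3 : r * (r⁻¹ * u * r) * r⁻¹ ∈ S.U (r • c) := by
      have : r * (r⁻¹ * u * r) * r⁻¹ = u := by group
      rwa [this]
    have h4 := hR (S.conj_mem_U_iff.1 h3)
    have h5 := mul_mem (mul_mem hr h4) (inv_mem hr)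
    have : r * (r⁻¹ * u * r) * r⁻¹ = u := by group
    rwa [this] at h5
  have hDb : ∀ b : G, b • c = c → ∀ d ∈ D, b * d * b⁻¹ ∈ D := by
    intro b hb d hd
    refine Subgroup.iSup_induction (fun r : R => S.U ((r : G) • c)) (C := fun d => b * d * b⁻¹ ∈ D) hd ?_ ?_ ?_
    · rintro ⟨r, hr⟩ u hu
      have h1 := S.conj_mem_U hu b
      have h2 : b • r • c ∈ Δ.Res (tp Δ R c) c := by
        show Δ.δ c (b • r • c) ∈ WJ cs _
        have h3 : Δ.δ c (b • r • c) = Δ.δ c (r • c) :=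
          calc Δ.δ c (b • r • c) = Δ.δ (b • c) (b • r • c) := by rw [hb]
            _ = _ := S.iso _ _ _
        rw [h3]
        exact delta_mem_tp S hth hR r hr
      obtain ⟨r', hr', he⟩ := exists_smul S hR h2
      rw [← he] at h1
      exact hUD r' hr' h1
    · simp
    · intro a a' ha ha'
      have := mul_mem ha ha'
      have e : b * a * b⁻¹ * (b * a' * b⁻¹) = b * (a * a') * b⁻¹ := by group
      rwa [e] at this
  -- the fixed vectors of `D`, of `R ∩ B`
  have hyF : y ∈ Fx (V := V) S c := fun u hu => hyR u (hR hu)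
  have key : ∀ Q : Subgroup G, (∀ r ∈ Q, r • y = y) →
      (∀ b : G, b • c = c → ∀ q ∈ Q, b * q * b⁻¹ ∈ Q) → ∀ q ∈ Q, ∀ v ∈ Fx (V := V) S c, q • v = v := by
    intro Q hQ hQb
    let L : AddSubgroup V :=
      { carrier := {v | v ∈ Fx (V := V) S c ∧ ∀ q ∈ Q, q • v = v}
        zero_mem' := ⟨zero_mem _, fun q _ => smul_zero q⟩
        add_mem' := fun {a b} ha hb => ⟨add_mem ha.1 hb.1, fun q hq => by rw [smul_add, ha.2 q hq, hb.2 q hq]⟩
        neg_mem' := fun {a} ha => ⟨neg_mem ha.1, fun q hq => by rw [smul_neg, ha.2 q hq]⟩ }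
    have hm : ∀ v, v ∈ L ↔ v ∈ Fx (V := V) S c ∧ ∀ q ∈ Q, q • v = v := fun v => Iff.rfl
    rcases hs L (fun v hv => hv.1) (by
      rintro g hg v ⟨hv, hv'⟩
      have h1 : g • v ∈ Fx (V := V) S c := by
        have := (fam_Fx S).smul g c v hv
        rwa [hg] at this
      refine ⟨h1, fun q hq => ?_⟩
      have hg' : g⁻¹ • c = c := by rw [inv_smul_eq_iff, hg]
      have hs' := hQb g⁻¹ hg' q hq
      rw [inv_inv] at hs'
      have h2 := hv' _ hs'
      rw [mul_smul, mul_smul, inv_smul_eq_iff] at h2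
      exact h2) with h1 | h1
    · exfalso
      have h2 : y ∈ L := ⟨hyF, hQ⟩
      rw [h1, AddSubgroup.mem_bot] at h2
      exact hy h2
    · intro q hq v hv
      have h2 : v ∈ L := by rw [h1]; exact hv
      exact h2.2 q hq
  have hD := key D (fun r hr => hyR r (hDR hr)) hDb
  have hB := key (R ⊓ MulAction.stabilizer G c) (fun r hr => hyR r hr.1) (by
    rintro b hb q ⟨hq, hqc⟩
    have hqc' : q • c = c := hqc
    refine ⟨?_, ?_⟩
    · have h2 := mul_mem (hR (hab b q hb hqc')) hq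
      have e : b * q * b⁻¹ * q⁻¹ * q = b * q * b⁻¹ := by group
      rwa [e] at h2
    · show (b * q * b⁻¹) • c = c
      have hb' : b⁻¹ • c = c := by rw [inv_smul_eq_iff, hb]
      rw [mul_smul, mul_smul, hb', hqc', hb])
  -- `R = D (R ∩ B)`
  intro r hr v hv
  have htp : tp Δ R c ⊆ tp Δ D c := by
    rintro i ⟨g, hg, hgc⟩
    obtain ⟨u, hu, huc⟩ := exists_move_adj S hth (Δ.δ_symm_simple hgc)
    refine ⟨u, hUD g hg hu, ?_⟩
    have h1 : Δ.δ (g • c) (u • c) = cs.simple i := by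
      have h2 : Δ.δ (u • g • c) (u • c) = Δ.δ (g • c) c := S.iso _ _ _
      rw [S.fix _ u hu] at h2
      rw [h2]
      exact Δ.δ_symm_simple hgc
    exact Δ.δ_eq_of_mem_Pan (x := g • c) (Or.inr (Δ.δ_symm_simple hgc)) (Or.inr h1) (fun h => huc h.symm)
  have h1 : r • c ∈ Δ.Res (tp Δ D c) c := by
    show Δ.δ c (r • c) ∈ WJ cs _
    exact OppRes.WJ_mono htp (delta_mem_tp S hth hR r hr)
  obtain ⟨d, hd, hdc⟩ := exists_smul S hcD h1
  have h2 : (d⁻¹ * r) • v = v := by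
    refine hB _ (Subgroup.mem_inf.2 ⟨R.mul_mem (R.inv_mem (hDR hd)) hr, ?_⟩) v hv
    show (d⁻¹ * r) • c = c
    rw [mul_smul, inv_smul_eq_iff, hdc]
  rw [mul_smul, inv_smul_eq_iff, hD d hd v hv] at h2
  exact h2

end Cfsg.Agent.Omega.ML.LieRow.CRB

end

section


/-!
# Overgroups of `T` fixing a vector, `H = KT`

* `fix_kt` : `H = KT`, `K` normal with a split (B,N)-pair of characteristic 2 whose torus is abelian, `V` an irreducible
  `H`-module over `F_2`, `T ≤ R` fixes `y ≠ 0`: `R` fixes all `T`-fixed vectors;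
* `fix_kt_mul` : the same in multiplicative notation.
-/

set_option autoImplicit false
set_option linter.unusedSectionVars false

namespace Cfsg.Agent.Omega.ML.LieRow.CRB

open Cfsg.Agent.Tits.Core Cfsg.Agent.Tits.Core.Bldg Cfsg.Agent.Tits.Exchange Cfsg.Agent.Tits
open Cfsg.Agent.FixBN Cfsg.Agent.FixBN.Cox Cfsg.Agent.UGT.U2.FOne

variable {I : Type*} {M : CoxeterMatrix I} {W : Type*} [Group W] {cs : CoxeterSystem M W} {C : Type*}
  {Δ : Bldg cs C}

/-- a Sylow 2-subgroup of `H` meets `K` in some `U c` -/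
theorem exists_U {H : Type*} [Group H] [Finite H] {K T : Subgroup H} [K.Normal] [MulAction K C] (S : Sys Δ K 2)
    (hT : IsPGroup 2 T) (hTi : ¬ 2 ∣ T.index) : ∃ c : C, S.U c = T.subgroupOf K := by
  have hV : IsPGroup 2 (T.subgroupOf K) := hT.comap_of_injective _ K.subtype_injective
  obtain ⟨c, hc⟩ := S.exists_fix _ hV
  have h1 : T.subgroupOf K ≤ S.U c := S.max c _ hV hc
  have : Fact (Nat.Prime 2) := ⟨Nat.prime_two⟩
  have h2 : ¬ 2 ∣ (T.subgroupOf K).index := Lib.SylowNormalInf.not_dvd_relIndex (hT.toSylow hTi) K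
  exact ⟨c, (hV.toSylow h2 : Sylow 2 K).is_maximal' (S.isP c) h1⟩

/-- **overgroups of `T`** -/
theorem fix_kt [F : OppRes.Cox cs] [Finite C] {H : Type*} [Group H] [Finite H] {K T R : Subgroup H} [hK : K.Normal]
    [MulAction K C] (S : Sys Δ K 2) (hth : Δ.Thick) {V : Type*} [AddCommGroup V] [DistribMulAction H V] [Finite V]
    (hp : ∀ v : V, 2 • v = 0) (hirr : Irr H V) (hKT : K ⊔ T = ⊤) (hT : IsPGroup 2 T) (hTi : ¬ 2 ∣ T.index)
    (hab : ∀ c, ∀ a b : K, a • c = c → b • c = c → a * b * a⁻¹ * b⁻¹ ∈ S.U c) (hTR : T ≤ R)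
    {y : V} (hy : y ≠ 0) (hyR : ∀ r ∈ R, r • y = y) : ∀ r ∈ R, ∀ x : V, (∀ t ∈ T, t • x = x) → r • x = x := by
  have : Fact (Nat.Prime 2) := ⟨Nat.prime_two⟩
  obtain ⟨c, hUc⟩ := exists_U S hT hTi
  -- a maximal `K`-submodule
  have hne : {L : AddSubgroup V | L ≠ ⊤ ∧ ∀ k ∈ K, ∀ v ∈ L, k • v ∈ L}.Nonempty :=
    ⟨⊥, (by
      intro h
      have h1 : y ∈ (⊥ : AddSubgroup V) := by rw [h]; trivial
      exact hy ((AddSubgroup.mem_bot).1 h1)), fun k _ v hv => by
        rw [AddSubgroup.mem_bot] at hv ⊢; rw [hv, smul_zero]⟩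
  obtain ⟨L, hL⟩ := (Set.toFinite _).exists_maximal hne
  obtain ⟨hL1, hL2⟩ := hL.prop
  -- the intersection of the `T`-conjugates
  have hZ : ∀ v : V, (∀ t ∈ T, t • v ∈ L) → v = 0 := by
    let Z : AddSubgroup V :=
      { carrier := {v | ∀ t ∈ T, t • v ∈ L}
        zero_mem' := fun t _ => by rw [smul_zero]; exact zero_mem _
        add_mem' := fun {a b} ha hb t ht => by rw [smul_add]; exact add_mem (ha t ht) (hb t ht)
        neg_mem' := fun {a} ha t ht => by rw [smul_neg]; exact neg_mem (ha t ht) }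
    have hm : ∀ v, v ∈ Z ↔ ∀ t ∈ T, t • v ∈ L := fun v => Iff.rfl
    rcases hirr Z (by
      intro h v hv t ht
      have h1 : h ∈ K ⊔ T := by rw [hKT]; trivial
      rw [Subgroup.mem_sup_of_normal_left] at h1
      obtain ⟨k, hk, t', ht', rfl⟩ := h1
      have h2 := hv (t * t') (mul_mem ht ht')
      have h3 := hL2 (t * k * t⁻¹) (hK.conj_mem k hk t) _ h2
      have e : (t * k * t⁻¹) • (t * t') • v = t • (k * t') • v := by
        rw [smul_smul, smul_smul]
        congr 1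
        group
      rwa [e] at h3) with h1 | h1
    · intro v hv
      have h2 : v ∈ Z := hv
      rw [h1] at h2
      exact (AddSubgroup.mem_bot).1 h2
    · exfalso
      apply hL1
      rw [eq_top_iff]
      intro v _
      have h2 : v ∈ Z := by rw [h1]; trivial
      have h3 := h2 1 (one_mem _)
      rwa [one_smul] at h3
  have hyL : y ∉ L := by
    intro h
    apply hy
    apply hZ
    intro t ht
    rw [hyR t (hTR ht)]
    exact h
  -- the quotient module
  have hLK : ∀ k : K, ∀ v ∈ L, k • v ∈ L := fun k v hv => hL2 k k.2 v hv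
  let _ := quoAct L hLK
  have hp' : ∀ v : V ⧸ L, 2 • v = 0 := by
    intro x
    induction x using QuotientAddGroup.induction_on with
    | H v =>
      rw [← QuotientAddGroup.mk_nsmul, hp]
      rfl
  have hirr' : Irr K (V ⧸ L) := by
    intro L' hL'
    let L'' : AddSubgroup V := L'.comap (QuotientAddGroup.mk' L)
    have hm : ∀ v, v ∈ L'' ↔ (QuotientAddGroup.mk v : V ⧸ L) ∈ L' := fun v => Iff.rfl
    have hLL : L ≤ L'' := by
      intro v hv
      rw [hm, (QuotientAddGroup.eq_zero_iff v).2 hv]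
      exact zero_mem _
    by_cases h1 : L'' = ⊤
    · right
      rw [eq_top_iff]
      intro x _
      induction x using QuotientAddGroup.induction_on with
      | H v =>
        have : v ∈ L'' := by rw [h1]; trivial
        exact this
    · left
      have h2 : L'' ≤ L := hL.le_of_ge ⟨h1, fun k hk v hv => hL' ⟨k, hk⟩ _ hv⟩ hLL
      rw [eq_bot_iff]
      intro x hx
      induction x using QuotientAddGroup.induction_on with
      | H v =>
        rw [AddSubgroup.mem_bot, QuotientAddGroup.eq_zero_iff]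
        exact h2 hx
  have hUR : S.U c ≤ R.subgroupOf K := by
    rw [hUc]
    exact fun k hk => hTR hk
  have hy' : (QuotientAddGroup.mk y : V ⧸ L) ≠ 0 := fun h => hyL ((QuotientAddGroup.eq_zero_iff y).1 h)
  have key := fix_all S (V := V ⧸ L) hth hp' hirr' (c := c) (hab c) hUR hy' (by
    intro r hr
    rw [quo_smul]
    congr 1
    exact hyR r hr)
  have key' : ∀ k ∈ K, k ∈ R → ∀ x : V, (∀ t ∈ T, t • x = x) → k • x - x ∈ L := by
    intro k hk hkR x hx
    have h1 : (QuotientAddGroup.mk x : V ⧸ L) ∈ Fx (V := V ⧸ L) S c := by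
      intro u hu
      rw [hUc] at hu
      rw [quo_smul]
      congr 1
      exact hx u hu
    have h2 := key ⟨k, hk⟩ hkR _ h1
    rw [quo_smul] at h2
    exact (QuotientAddGroup.eq_iff_sub_mem).1 h2
  have key'' : ∀ k ∈ K, k ∈ R → ∀ x : V, (∀ t ∈ T, t • x = x) → k • x = x := by
    intro k hk hkR x hx
    rw [← sub_eq_zero]
    apply hZ
    intro t ht
    have h1 := key' (t * k * t⁻¹) (hK.conj_mem k hk t) (mul_mem (mul_mem (hTR ht) hkR) (inv_mem (hTR ht))) x hx
    have e : (t * k * t⁻¹) • x - x = t • (k • x - x) := by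
      rw [smul_sub, hx t ht, mul_smul, mul_smul, hx t⁻¹ (inv_mem ht)]
    rwa [e] at h1
  intro r hr x hx
  have h1 : r ∈ K ⊔ T := by rw [hKT]; trivial
  rw [Subgroup.mem_sup_of_normal_left] at h1
  obtain ⟨k, hk, t, ht, rfl⟩ := h1
  rw [mul_smul, hx t ht]
  refine key'' k hk ?_ x hx
  have h2 := mul_mem hr (inv_mem (hTR ht))
  rwa [mul_inv_cancel_right] at h2

/-- the additive module -/
@[reducible] def addAct (H M : Type*) [Group H] [CommGroup M] [MulDistribMulAction H M] :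
    DistribMulAction H (Additive M) where
  smul h m := Additive.ofMul (h • m.toMul)
  one_smul m := congrArg Additive.ofMul (one_smul H m.toMul)
  mul_smul g h m := congrArg Additive.ofMul (mul_smul g h m.toMul)
  smul_zero h := congrArg Additive.ofMul (smul_one h)
  smul_add h a b := congrArg Additive.ofMul (smul_mul' h a.toMul b.toMul)

/-- **overgroups of `T`**, multiplicative notation -/
theorem fix_kt_mul [F : OppRes.Cox cs] [Finite C] {H : Type*} [Group H] [Finite H] {K T R : Subgroup H} [hK : K.Normal]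
    [MulAction K C] (S : Sys Δ K 2) (hth : Δ.Thick) {N : Type*} [Group N] [MulDistribMulAction H N] [Finite N]
    (sq : ∀ m : N, m * m = 1) (hirr : ∀ L : Subgroup N, (∀ h : H, ∀ w ∈ L, h • w ∈ L) → L = ⊥ ∨ L = ⊤)
    (hKT : K ⊔ T = ⊤) (hT : IsPGroup 2 T) (hTi : ¬ 2 ∣ T.index)
    (hab : ∀ c, ∀ a b : K, a • c = c → b • c = c → a * b * a⁻¹ * b⁻¹ ∈ S.U c) (hTR : T ≤ R)
    {y : N} (hy : y ≠ 1) (hyR : ∀ r ∈ R, r • y = y) : ∀ r ∈ R, ∀ x : N, (∀ t ∈ T, t • x = x) → r • x = x := by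
  have hcomm : ∀ a b : N, a * b = b * a := by
    intro a b
    have h1 : ∀ z : N, z⁻¹ = z := fun z => inv_eq_of_mul_eq_one_right (sq z)
    calc a * b = (a * b)⁻¹ := (h1 _).symm
      _ = b⁻¹ * a⁻¹ := mul_inv_rev _ _
      _ = b * a := by rw [h1, h1]
  let i1 : CommGroup N := { (inferInstance : Group N) with mul_comm := hcomm }
  let i2 : DistribMulAction H (Additive N) := addAct H N
  intro r hr x hx
  have h1 := fix_kt S hth (V := Additive N) (R := R) (fun v => by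
      rw [two_nsmul]; exact congrArg Additive.ofMul (sq v.toMul)) (by
      intro L hL
      have h2 := hirr (AddSubgroup.toSubgroup' L) (fun h w hw => hL h (Additive.ofMul w) hw)
      rcases h2 with h2 | h2
      · left
        rw [eq_bot_iff]
        intro v hv
        have h3 : v.toMul ∈ AddSubgroup.toSubgroup' L := hv
        rw [h2, Subgroup.mem_bot] at h3
        exact (AddSubgroup.mem_bot).2 h3
      · right
        rw [eq_top_iff]
        intro v _
        have h3 : v.toMul ∈ AddSubgroup.toSubgroup' L := by rw [h2]; trivial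
        exact h3) hKT hT hTi hab hTR (y := Additive.ofMul y) (fun h => hy h)
      (fun r hr => congrArg Additive.ofMul (hyR r hr)) r hr (Additive.ofMul x)
      (fun t ht => congrArg Additive.ofMul (hx t ht))
  exact h1

end Cfsg.Agent.Omega.ML.LieRow.CRB

end

section


/-!
# (E3) of EXT : the components of Lie type in characteristic two

* `fix_lie` : `H = KT`, `K` normal and simple of Lie type in characteristic 2, `M` an irreducible `H`-module over
  `F_2`, `T ≤ R` fixes `y ≠ 1`: `R` fixes all `T`-fixed vectors;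
* **`lieT : LieT`**.
-/

set_option autoImplicit false

namespace Cfsg.Agent.Omega.ML.LieRow.CRB

open Subgroup Cfsg Cfsg.Agent.ZN Cfsg.Agent.Omega.ML.Ex Cfsg.Agent.Omega.ML.Ex.Two
open Cfsg.Agent.Tits.Core Cfsg.Agent.Tits.OfBN Cfsg.Agent.Schreier.BNSch Cfsg.Agent.FixBN

universe u v

theorem fix_splitAb {H : Type*} [Group H] [Finite H] {K T R : Subgroup H} (hK : K.Normal) (h : HasSplitAb 2 K)
    (hT : IsPGroup 2 T) (hTi : ¬ 2 ∣ T.index) (hKT : K ⊔ T = ⊤) {N : Type*} [Group N] [MulDistribMulAction H N]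
    [Finite N] (sq : ∀ m : N, m * m = 1) (hirr : ∀ L : Subgroup N, (∀ h : H, ∀ w ∈ L, h • w ∈ L) → L = ⊥ ∨ L = ⊤)
    (hTR : T ≤ R) {y : N} (hy : y ≠ 1) (hyR : ∀ r ∈ R, r • y = y) :
    ∀ r ∈ R, ∀ x : N, (∀ t ∈ T, t • x = x) → r • x = x := by
  have : Fact (Nat.Prime 2) := ⟨Nat.prime_two⟩
  obtain ⟨P, U, hne, h, hc⟩ := h
  have hN : ((P.B ⊓ P.N).subgroupOf P.N).Normal := normal_subgroupOf P
  obtain ⟨M, cs, hcs⟩ := S0320.result P
  have hI : Finite P.S := OfBN.finite_I (Equiv.refl P.S)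
  have hIn : Nonempty P.S := hne.to_subtype
  let S := OfBN.sys (Equiv.refl P.S) cs hcs h
  have hth := thick P (Equiv.refl P.S) cs hcs
  refine fix_kt_mul S hth sq hirr hKT hT hTi ?_ hTR hy hyR
  intro c a b ha hb
  induction c using QuotientGroup.induction_on with
  | _ g =>
    have ha' := OfBN.smul_mk_eq.1 ha
    have hb' := OfBN.smul_mk_eq.1 hb
    have h1 := hc _ ha' _ hb'
    show _ ∈ OfBN.UU P U (QuotientGroup.mk g)
    rw [OfBN.mem_UU h]
    have e : g⁻¹ * a * g * (g⁻¹ * b * g) * (g⁻¹ * a * g)⁻¹ * (g⁻¹ * b * g)⁻¹ = g⁻¹ * (a * b * a⁻¹ * b⁻¹) * g := by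
      group
    rwa [e] at h1

/-- **(E3)** -/
theorem lieT : LieT.{u, v} := by
  intro H _ _ M _ _ _ K T A x y hI hm hl
  obtain ⟨R, hTR, hyR, r, hr, hrx⟩ := hm.mv
  exact hrx (fix_splitAb hI.norm (hasSplitAb_of_lie hI.simple hl) hI.two hI.syl hI.gen hI.sq hI.irr hTR hm.y1 hyR
    r hr x hm.tx)

end Cfsg.Agent.Omega.ML.LieRow.CRB

end

section


/-!
# LEMMA CRW: the invariant subgroups contain all `T`-fixed vectors (helper178)

`H = K T`, `K` normal, simple, of Lie type in characteristic two, `T` a Sylow `2`-subgroup of `H`, `M` irreducible for `K`;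
`x ≠ 1` a vector (usually fixed by `T`); `Y ≤ M`, `Y ≠ 1`, normalised by `N_H(T)` and by every `T`-minimal `P` which moves `x`.
Then `C_M(T ⊓ K) ≤ Y`.

`P` fixing `x` : `P ⊓ K ≥ T ⊓ K` fixes `x`, so it centralises `C_M(T ⊓ K)` (`CRB.fix_splitAb`); so `N_H(T ⊓ K)` normalises
`Y ⊓ C_M(T ⊓ K)` (generation by the minimal parabolics), and Curtis-Richen (`CR.Bl.cr_lie`).

* `exists_fix` : a 2-group has fixed vectors;
* `fix_K` : `T ⊓ K ≤ R ≤ K`, `R` fixes `x ≠ 1`: `R` centralises `C_M(T ⊓ K)`;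
* **`crw`**, **`crw_inX`**.
-/

set_option autoImplicit false

namespace Cfsg.Agent.Omega.ML.Ex.Crw

open Subgroup Cfsg Cfsg.Agent.ZN Cfsg.Agent.ClassTwoFusion.Quad Cfsg.Agent.Omega.ML.Ex
open Cfsg.Agent.Omega.ML.LieRow.CRB (fix_splitAb HasSplitAb hasSplitAb_of_lie)
open Cfsg.Agent.MinSimple.MinParabolic (IsMinPar le_of_forall)
open Cfsg.Agent.Omega.ML.Final (MLK)

universe u v

/-- a 2-group normalising `Y ≠ 1` fixes a vector `≠ 1` of `Y` -/
theorem exists_fix {H : Type u} [Group H] {M : Type v} [Group M] [Finite M] [MulDistribMulAction H M]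
    (sq : ∀ m : M, m * m = 1) {U : Subgroup H} (hU : IsPGroup 2 U) {Y : Subgroup M} (hY : Y ≠ ⊥)
    (hn : ∀ g ∈ U, ∀ w ∈ Y, g • w ∈ Y) : ∃ w ∈ Y, w ≠ 1 ∧ ∀ g ∈ U, g • w = w := by
  classical
  have : Fact (Nat.Prime 2) := ⟨Nat.prime_two⟩
  let _ : MulAction U Y :=
    { smul := fun g w => ⟨(g : H) • (w : M), hn g g.2 w w.2⟩
      one_smul := fun w => Subtype.ext (one_smul H (w : M))
      mul_smul := fun a b w => Subtype.ext (mul_smul (a : H) (b : H) (w : M)) }
  have hsm : ∀ (g : U) (w : Y), ((g • w : Y) : M) = (g : H) • (w : M) := fun _ _ => rfl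
  have hdvd : 2 ∣ Nat.card Y := by
    obtain ⟨w, hw⟩ := (Subgroup.ne_bot_iff_exists_ne_one).1 hY
    have h1 : orderOf w = 2 := orderOf_eq_prime (by
      rw [pow_two]
      exact Subtype.ext (sq w)) hw
    rw [← h1]
    exact orderOf_dvd_natCard w
  obtain ⟨b, hb, h1⟩ := hU.exists_fixed_point_of_prime_dvd_card_of_fixed_point Y hdvd (a := 1) (fun g => Subtype.ext (by
    rw [hsm]; exact smul_one _))
  refine ⟨b, b.2, fun h2 => h1 (Subtype.ext h2).symm, fun g hg => ?_⟩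
  exact congrArg Subtype.val (hb ⟨g, hg⟩)

section

variable {H : Type u} [Group H] [Finite H] {M : Type v} [Group M] [Finite M] [MulDistribMulAction H M]
  {K T : Subgroup H}

/-- overgroups of `T ⊓ K` in `K` which fix one vector -/
theorem fix_K (norm : K.Normal) (simple : IsSimpleGroup K) (hl : IsLieTypeChar 2 K) (two : IsPGroup 2 T)
    (syl : ¬ 2 ∣ T.index) (sq : ∀ m : M, m * m = 1)
    (irr : ∀ W : Subgroup M, (∀ k ∈ K, ∀ w ∈ W, k • w ∈ W) → W = ⊥ ∨ W = ⊤) {R : Subgroup H} (hR : T ⊓ K ≤ R)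
    {x : M} (x1 : x ≠ 1) (hx : ∀ r ∈ R ⊓ K, r • x = x) :
    ∀ r ∈ R ⊓ K, ∀ m : M, (∀ s ∈ T ⊓ K, s • m = m) → r • m = m := by
  have : Fact (Nat.Prime 2) := ⟨Nat.prime_two⟩
  rintro r ⟨hrR, hrK⟩ m hm
  have hi : ¬ 2 ∣ (T.subgroupOf K).index := Lib.SylowNormalInf.not_dvd_relIndex (two.toSylow syl) K
  have hp : IsPGroup 2 (T.subgroupOf K) := two.comap_of_injective _ K.subtype_injective
  have h0 : HasSplitAb 2 (⊤ : Subgroup K) := (hasSplitAb_of_lie simple hl).congr Subgroup.topEquiv.symm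
  have h1 := fix_splitAb (H := K) (K := ⊤) (T := T.subgroupOf K) (R := R.subgroupOf K) (N := M) inferInstance h0
    hp hi (top_sup_eq _) sq (fun L hL => irr L fun k hk w hw => hL ⟨k, hk⟩ w hw)
    (fun t ht => mem_subgroupOf.2 (hR ⟨mem_subgroupOf.1 ht, t.2⟩)) (y := x) x1
    (fun r hr => hx r ⟨mem_subgroupOf.1 hr, r.2⟩) ⟨r, hrK⟩ (mem_subgroupOf.2 hrR) m
    (fun t ht => hm t ⟨mem_subgroupOf.1 ht, t.2⟩)
  exact h1

omit [Finite M] in
/-- the subgroup `Y ⊓ C_M(T ⊓ K)` is normalised by `N_H(T ⊓ K)` -/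
theorem norm_D (norm : K.Normal) (KT : K ⊔ T = ⊤) {x : M} {Y : Subgroup M}
    (NY : ∀ g ∈ normalizer (T : Set H), ∀ w ∈ Y, g • w ∈ Y)
    (PY : ∀ P : Subgroup H, IsMinPar T P → (∃ p ∈ P, p • x ≠ x) → ∀ p ∈ P, ∀ w ∈ Y, p • w ∈ Y)
    (hfix : ∀ P : Subgroup H, T ≤ P → (∀ p ∈ P, p • x = x) → ∀ k ∈ P, k ∈ K → ∀ m : M,
      (∀ s ∈ T ⊓ K, s • m = m) → k • m = m) :
    ∀ n ∈ normalizer ((T ⊓ K : Subgroup H) : Set H), ∀ w ∈ Y ⊓ cv M ((T ⊓ K : Subgroup H) : Set H),
      n • w ∈ Y ⊓ cv M ((T ⊓ K : Subgroup H) : Set H) := by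
  set CC : Subgroup M := cv M ((T ⊓ K : Subgroup H) : Set H) with hCC
  -- `N_H(T ⊓ K)` normalises `C_M(T ⊓ K)`
  have hNC : ∀ g ∈ normalizer ((T ⊓ K : Subgroup H) : Set H), ∀ w ∈ CC, g • w ∈ CC := by
    intro g hg w hw s hs
    have h1 : g⁻¹ * s * g ∈ T ⊓ K := by
      have := (mem_normalizer_iff.1 ((normalizer ((T ⊓ K : Subgroup H) : Set H)).inv_mem hg) s).1 hs
      rwa [inv_inv] at this
    have h2 := hw _ h1
    rwa [mul_smul, mul_smul, inv_smul_eq_iff] at h2
  have hTN : T ≤ normalizer ((T ⊓ K : Subgroup H) : Set H) := by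
    intro t ht
    rw [mem_normalizer_iff]
    intro s
    constructor
    · rintro ⟨h1, h2⟩
      exact ⟨T.mul_mem (T.mul_mem ht h1) (T.inv_mem ht), norm.conj_mem s h2 t⟩
    · rintro ⟨h1, h2⟩
      have e : t⁻¹ * (t * s * t⁻¹) * t = s := by group
      refine ⟨?_, ?_⟩
      · have := T.mul_mem (T.mul_mem (T.inv_mem ht) h1) ht
        rwa [e] at this
      · have := norm.conj_mem _ h2 t⁻¹
        rw [inv_inv] at this
        rwa [e] at this
  let Sb : Subgroup H :=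
    { carrier := {g | (∀ w ∈ Y ⊓ CC, g • w ∈ Y ⊓ CC) ∧ ∀ w ∈ Y ⊓ CC, g⁻¹ • w ∈ Y ⊓ CC}
      one_mem' := ⟨fun w hw => by rwa [one_smul], fun w hw => by rwa [inv_one, one_smul]⟩
      mul_mem' := fun {a b} ha hb => ⟨fun w hw => by rw [mul_smul]; exact ha.1 _ (hb.1 _ hw),
        fun w hw => by rw [mul_inv_rev, mul_smul]; exact hb.2 _ (ha.2 _ hw)⟩
      inv_mem' := fun {a} ha => ⟨ha.2, fun w hw => by rw [inv_inv]; exact ha.1 _ hw⟩ }
  have hmem : ∀ {Q : Subgroup H}, (∀ q ∈ Q, ∀ w ∈ Y ⊓ CC, q • w ∈ Y ⊓ CC) → Q ≤ Sb := fun {Q} h q hq =>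
    ⟨h q hq, h q⁻¹ (inv_mem hq)⟩
  have hNT : normalizer (T : Set H) ⊓ normalizer ((T ⊓ K : Subgroup H) : Set H) ≤ Sb :=
    hmem fun q hq w hw => ⟨NY q hq.1 w hw.1, hNC q hq.2 w hw.2⟩
  have hTS : T ≤ Sb := (le_inf le_normalizer hTN).trans hNT
  have hB : normalizer ((T ⊓ K : Subgroup H) : Set H) ≤ Sb := by
    refine le_of_forall (S := T) hTN (fun g hg => hNT ⟨hg.2, hg.1⟩) ?_
    intro P hP hPB
    by_cases hmv : ∃ p ∈ P, p • x ≠ x
    · exact hmem fun p hp w hw => ⟨PY P hP hmv p hp w hw.1, hNC p (hPB hp) w hw.2⟩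
    · push Not at hmv
      have h1 := hfix P hP.le hmv
      intro p hp
      have hp1 : p ∈ K ⊔ T := by rw [KT]; trivial
      rw [Subgroup.mem_sup_of_normal_left] at hp1
      obtain ⟨k, hk, t, ht, rfl⟩ := hp1
      refine mul_mem ?_ (hTS ht)
      have hkP : k ∈ P := by
        have := mul_mem hp (inv_mem (hP.le ht))
        rwa [mul_inv_cancel_right] at this
      refine ⟨fun w hw => ?_, fun w hw => ?_⟩
      · rw [h1 k hkP hk w hw.2]
        exact hw
      · rw [h1 k⁻¹ (P.inv_mem hkP) (K.inv_mem hk) w hw.2]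
        exact hw
  exact fun n hn => (hB hn).1

/-- **LEMMA CRW** -/
theorem crw (norm : K.Normal) (simple : IsSimpleGroup K) (KT : K ⊔ T = ⊤) (hl : IsLieTypeChar 2 K)
    (two : IsPGroup 2 T) (syl : ¬ 2 ∣ T.index) (sq : ∀ m : M, m * m = 1)
    (irr : ∀ W : Subgroup M, (∀ k ∈ K, ∀ w ∈ W, k • w ∈ W) → W = ⊥ ∨ W = ⊤) {x : M} (x1 : x ≠ 1)
    {Y : Subgroup M} (hne : Y ≠ ⊥)
    (NY : ∀ g ∈ normalizer (T : Set H), ∀ w ∈ Y, g • w ∈ Y)
    (PY : ∀ P : Subgroup H, IsMinPar T P → (∃ p ∈ P, p • x ≠ x) → ∀ p ∈ P, ∀ w ∈ Y, p • w ∈ Y) :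
    ∀ m : M, (∀ s ∈ T ⊓ K, s • m = m) → m ∈ Y := by
  set CC : Subgroup M := cv M ((T ⊓ K : Subgroup H) : Set H) with hCC
  have hB := norm_D norm KT NY PY fun P hTP hPx k hkP hkK =>
    fix_K norm simple hl two syl sq irr (R := P) (inf_le_left.trans hTP) x1 (fun r hr => hPx r hr.1) k ⟨hkP, hkK⟩
  have hDne : Y ⊓ CC ≠ ⊥ := by
    obtain ⟨w, hw, hw1, hwf⟩ := exists_fix sq (two.to_le (inf_le_left (b := K))) hne fun g hg w hw =>
      NY g (le_normalizer hg.1) w hw
    intro h1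
    have h2 : w ∈ Y ⊓ CC := ⟨hw, fun s hs => hwf s hs⟩
    rw [h1, mem_bot] at h2
    exact hw1 h2
  intro m hm
  exact (CR.Bl.cr_lie norm simple hl two syl sq irr (W := Y ⊓ CC) (fun w hw s hs => hw.2 s hs)
    (fun n hn _ w hw => hB n hn w hw) hDne m hm).1

/-- **LEMMA CRW** for the rows -/
theorem crw_inX (ml : MLK.{u, v}) (hKG : IsKGroup H) {A : Subgroup H} (h : InX H M K T A) (hl : IsLieTypeChar 2 K)
    {x : M} (x1 : x ≠ 1) {Y : Subgroup M} (hne : Y ≠ ⊥)
    (NY : ∀ g ∈ normalizer (T : Set H), ∀ w ∈ Y, g • w ∈ Y)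
    (PY : ∀ P : Subgroup H, IsMinPar T P → (∃ p ∈ P, p • x ≠ x) → ∀ p ∈ P, ∀ w ∈ Y, p • w ∈ Y) :
    ∀ m : M, (∀ s ∈ T ⊓ K, s • m = m) → m ∈ Y :=
  crw h.norm h.simple h.gen hl h.two h.syl h.sq (h.irr_K ml hKG) x1 hne NY PY

end

end Cfsg.Agent.Omega.ML.Ex.Crw

end

end

-- merged: Cfsg.Agent.Mrg.Omega.ML.Ex.Ext
section

section


/-!
# EXT, closed (helper585)

* **`ext`** : `Ext` : the situation `SysT` (an exact low atom and two `T`-fixed vectors) is impossible;
* `SysT.false` : the same for one `SysT`.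

Inputs: `redT` (helper995, 844, 690), `KnownDone.exitN` (helper441, 484 and the rows), `CRB.lieT` (helper951),
`uThreeT` (helper919), `KnownAll.mlk`.
-/

set_option autoImplicit false

namespace Cfsg.Agent.Omega.ML.Ex.Two

universe u v

/-- **EXT.** -/
theorem ext : Ext.{u, v} :=
  ext_of (Red.redT_of KnownAll.mlk) KnownDone.exitN LieRow.CRB.lieT uThreeT

/-- **EXT** for one `SysT` -/
theorem SysT.false {H : Type u} [Group H] [Finite H] {M : Type v} [Group M] [Finite M] [MulDistribMulAction H M]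
    {T A : Subgroup H} {x y : M} (h : SysT H M T A x y) : False :=
  ext H M T A x y h

end Cfsg.Agent.Omega.ML.Ex.Two

end

section


/-!
# K-list "exact + low": the row `Co2` (helper43)

The sheet of type (E) of `Co2` (helper902): `P = C(z) = 2^{1+8}.Sp6(2)`, `R = 2^{1+8}`, `n = 4`;
`|Sp6(2)| > |GL_k(2)|` for `k < 5`.
-/

set_option autoImplicit false

namespace Cfsg.Agent.Omega.ML.Ex.RowCo2E

open Subgroup Cfsg Cfsg.Agent.KFacts
open Cfsg.Agent.Omega.Lie.Heis (LB)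
open Cfsg.Agent.Omega.Lie.PairOrd
open Cfsg.Agent.Omega.ML.ExRec Cfsg.Agent.Omega.ML.Ex
open Cfsg.Agent.OddHalf.D8.Sheet Cfsg.Agent.OddHalf.D8.JTwo.Sheet
open Cfsg.Agent.Co2Type.TData Cfsg.Agent.Co2Type.FactsD
open Cfsg.Agent.KFacts.CoTwo.RSub Cfsg.Agent.KFacts.CoTwo.RLarge

universe u v w

/-- **LB** for `Sp6(2)` -/
theorem lb_Sp62 : LB.{0, u, v} CoTwo.Quot.Sp62 5 := by
  refine SheetCo1.lb_of_card_gt fun k hk => ?_
  have h1 : ∀ k < 5, glc k < 1451520 := by decide +kernel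
  have h2 : Nat.card CoTwo.Quot.Sp62 = 1451520 := Cfsg.Agent.Co2Type.Setup.card_sp6
  rw [h2]
  exact h1 k hk

/-- **the sheet** -/
theorem exists_sheet (S : Type w) [Group S] [Finite S] (h : Spor.IsoCo2 S) :
    ∃ (z : S) (P R : Subgroup S) (n : ℕ), SheetE z P R ∧ 2 ≤ n ∧ Nat.card R = 2 ^ (2 * n + 1) ∧
      TrivC.{u, v, w} (centralizer ({z} : Set S)) P n := by
  obtain ⟨e⟩ := h
  have hfin := Cfsg.Agent.Schreier.CoTwoStab.finite
  obtain ⟨π, hs, hk⟩ := CoTwo.QuotInst.dataT.quot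
  have hE := Cfsg.Agent.OddHalf.D8.SheetMap.sheetE_map e.symm (CoTwo.Sheets.sheets CoTwo.QuotInst.dataT).1
  have hX := of_sheetE hE
  obtain ⟨C, hC⟩ : ∃ C, C = centralizer ({ge mz} : Set Spor.Co2) := ⟨_, rfl⟩
  rw [← hC] at hE hX
  obtain ⟨ρ, hρs, hρk⟩ : ∃ ρ : C →* CoTwo.Quot.Sp62, Function.Surjective ρ ∧ ∀ c, ρ c = 1 ↔ (c : Spor.Co2) ∈ R := by
    subst hC
    exact ⟨π, hs, hk⟩
  obtain ⟨f, hf⟩ : ∃ f : C ≃* C.map e.symm.toMonoidHom, ∀ c, (f c : S) = e.symm c :=
    ⟨C.equivMapOfInjective _ e.symm.injective, fun c => rfl⟩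
  have hPC : C.map e.symm.toMonoidHom ≤ centralizer ({e.symm (ge mz)} : Set S) := by
    rintro _ ⟨c, hc, rfl⟩
    rw [mem_centralizer_singleton_iff]
    have h1 : c * ge mz = ge mz * c := by
      rw [hC] at hc
      exact mem_centralizer_singleton_iff.1 hc
    show e.symm c * e.symm (ge mz) = e.symm (ge mz) * e.symm c
    rw [← map_mul, h1, map_mul]
  have hk' : ∀ c, (ρ.comp f.symm.toMonoidHom) c = 1 ↔ (c : S) ∈ R.map e.symm.toMonoidHom := by
    intro c
    obtain ⟨c, rfl⟩ := f.surjective c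
    show ρ (f.symm (f c)) = 1 ↔ _
    rw [f.symm_apply_apply, hρk, hf]
    constructor
    · intro h1
      exact ⟨c, h1, rfl⟩
    · rintro ⟨q, hq, h1⟩
      rwa [← e.symm.injective h1]
  refine ⟨_, _, _, 4, hE, by norm_num, ?_, ?_⟩
  · have h1 : Nat.card (R.map e.symm.toMonoidHom) = Nat.card R :=
      (Nat.card_congr (R.equivMapOfInjective _ e.symm.injective).toEquiv).symm
    exact h1.trans card_R
  · refine ExTriv.trivC_of_lb hPC hX.R2 hX.Rn hX.perf (ρ.comp f.symm.toMonoidHom) (hρs.comp f.symm.surjective)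
      (fun x hx => (hk' x).2 hx) ?_ ?_ lb_Sp62
    · intro x hx y
      have h1 := (hk' x).1 hx
      have h2 := hX.Rn _ y.2 _ (Subgroup.inv_mem _ h1)
      have h3 := Subgroup.mul_mem _ h1 h2
      have h4 : (x : S) * ((y : S) * (x : S)⁻¹ * (y : S)⁻¹) = x * y * (x : S)⁻¹ * (y : S)⁻¹ := by group
      rwa [h4] at h3
    · have h1 : (ρ.comp f.symm.toMonoidHom).ker = (R.map e.symm.toMonoidHom).subgroupOf
          (C.map e.symm.toMonoidHom) := by
        ext c
        rw [MonoidHom.mem_ker, hk', mem_subgroupOf]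
      rw [h1, relIndex_self]
      exact odd_one

/-- **The row `Co2`.** (no atom, no `sub`) -/
theorem deadX : DeadX.{u, v} @Spor.IsoCo2 :=
  ExEx.SheetRow.deadX_of_sheet fun S _ _ hS => exists_sheet S hS

/-- the row for `InN` -/
theorem deadN : DeadN.{u, v} @Spor.IsoCo2 := DeadX.deadN deadX

end Cfsg.Agent.Omega.ML.Ex.RowCo2E

end

section


/-!
# The K-list for EXACT subgroups (EXL): Lie type in odd characteristic, part 1 (helper484)

* **`nx`** : helper102's numerical criterion `NX` over `InX`;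
* `lTwo_of` : `L₂(9)` is `A₆` (excluded);
* `psl_of`, `psu_of` : the linear and the unitary groups from the rows `L₂(q)`, `U₄(3)`;
* `chev_of`, `twisted` : the exceptional groups from the row `G₂(3)`;
* **`odd_of`** : the field `odd` of `RowsX`.
-/

set_option autoImplicit false

namespace Cfsg.Agent.Omega.ML.Ex.OddKnown

open Subgroup Cfsg Cfsg.Agent.Omega.KFacts Cfsg.Agent.Omega.ML.Rows Cfsg.Agent.Omega.ML.Known
  Cfsg.Agent.Omega.ML.CD Cfsg.Agent.Omega.NOThree.NoOver Cfsg.Agent.Omega.ML.ExLow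

universe u v

/-- `|M| = |A| |C_M(A)|` -/
theorem card_le_fo {H : Type u} [Group H] {M : Type v} [Group M] [MulDistribMulAction H M]
    {K T A : Subgroup H} (h : InX H M K T A) : Nat.card M ≤ fo M A := by
  rw [fo, ← h.exact, mul_comm]
  exact (card_mul_index _).ge

/-- `K` moves `M` -/
theorem mv {H : Type u} [Group H] [Finite H] {M : Type v} [Group M] [MulDistribMulAction H M]
    {K T A : Subgroup H} (h : InX H M K T A) : NumX.Mv K M := by
  by_contra hn
  have hs := h.simple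
  obtain ⟨x, hx⟩ := exists_ne (1 : K)
  exact hx (Subtype.ext (h.faith x fun m => NumX.not_mv hn x.2 m))

/-- **The numerical rows.** -/
theorem nx : DeadX.{u, v} fun S _ => NumX.NX.{u, v} S := by
  intro H _ _ M _ _ _ K T A hI hS
  exact NumX.false_of hI.norm hI.simple (Gen.perf hI) hI.cen hI.sq (mv hI) hI.el hI.A_ne_bot (card_le_fo hI) hS

/-- `PSL₂(q)`, `q` odd, not `A₆` -/
theorem lTwo_of (h2 : DeadX.{u, v} fun S _ => ∃ (F : Type) (_ : Field F) (_ : Fintype F), Odd (Fintype.card F) ∧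
      3 < Fintype.card F ∧ Fintype.card F ≠ 9 ∧ Nonempty (S ≃* Matrix.ProjectiveSpecialLinearGroup (Fin 2) F)) :
    DeadX.{u, v} fun S _ => (∃ (F : Type) (_ : Field F) (_ : Fintype F), Odd (Fintype.card F) ∧
      3 < Fintype.card F ∧ Nonempty (S ≃* Matrix.ProjectiveSpecialLinearGroup (Fin 2) F)) ∧ ¬ IsAlt6 S := by
  intro H _ _ M _ _ _ K T A hI ⟨hS, h6⟩
  obtain ⟨F, i, j, h3, h4, ⟨e⟩⟩ := hS
  by_cases h9 : Fintype.card F = 9
  · obtain ⟨f⟩ := S0254.result h9
    exact h6 ⟨e.trans f⟩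
  · exact h2 H M K T A hI ⟨F, i, j, h3, h4, h9, ⟨e⟩⟩

/-- `PSL_n(q)`, `q` odd, not `A₆` -/
theorem psl_of (h2 : DeadX.{u, v} fun S _ => ∃ (F : Type) (_ : Field F) (_ : Fintype F), Odd (Fintype.card F) ∧
      3 < Fintype.card F ∧ Fintype.card F ≠ 9 ∧ Nonempty (S ≃* Matrix.ProjectiveSpecialLinearGroup (Fin 2) F)) :
    DeadX.{u, v} fun S _ => OddChar @IsPSLChar S ∧ ¬ IsAlt6 S := by
  intro H _ _ M _ _ _ K T A hI ⟨hS, h6⟩
  rcases XPsl.psl.{u, v} hS with h | h | h
  · exact lTwo_of h2 H M K T A hI ⟨h, h6⟩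
  · exact RowL33X.deadEx H M K T A hI h
  · exact nx H M K T A hI h

/-- `PSU_n(q)`, `q` odd, not `U₃(3)` -/
theorem psu_of (h43 : DeadX.{u, v} @IsUFourThree) :
    DeadX.{u, v} fun S _ => OddChar @IsPSUChar S ∧ ¬ IsUThreeThree S := by
  intro H _ _ M _ _ _ K T A hI ⟨hS, h33⟩
  by_cases h : IsUFourThree K
  · exact h43 H M K T A hI h
  · refine nx H M K T A hI (XPsu.psu _ hS ?_ h)
    rintro ⟨F, iF, jF, hF, ⟨e⟩⟩
    exact h33 ⟨F, iF, jF, by rw [hF]; norm_num, ⟨e⟩⟩

/-- the exceptional Chevalley groups, `q` odd -/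
theorem chev_of (h3 : DeadX.{u, v} @IsGTwoThree) : DeadX.{u, v} fun S _ => OddChar @IsExceptionalChevChar S := by
  intro H _ _ M _ _ _ K T A hI hS
  rcases XExc.exceptional.{u, v} hS with h | h
  · exact h3 H M K T A hI h
  · exact nx H M K T A hI h

/-- `²E₆(q)`, `³D₄(q)`, `q` odd -/
theorem twisted : DeadX.{u, v} fun S _ => OddChar @IsTwistedE6D4Char S :=
  nx.mono fun _ _ h => XExc.twisted h

/-- **The field `odd` of `RowsX`.** -/
theorem odd_of (hl : DeadX.{u, v} fun S _ => ∃ (F : Type) (_ : Field F) (_ : Fintype F), Odd (Fintype.card F) ∧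
      3 < Fintype.card F ∧ Fintype.card F ≠ 9 ∧ Nonempty (S ≃* Matrix.ProjectiveSpecialLinearGroup (Fin 2) F))
    (h43 : DeadX.{u, v} @IsUFourThree) (hg3 : DeadX.{u, v} @IsGTwoThree)
    (hpsp : DeadX.{u, v} fun S _ => OddChar @IsPSpChar S ∧ ¬ IsLieTypeChar 2 S)
    (hom1 : DeadX.{u, v} fun S _ => OddChar @IsPOmegaOddChar S)
    (hom2 : DeadX.{u, v} fun S _ => OddChar @IsPOmegaPlusChar S)
    (hom3 : DeadX.{u, v} fun S _ => OddChar @IsPOmegaMinusChar S) :
    DeadX.{u, v} fun S _ => OddLie S ∧ ¬ IsLieTypeChar 2 S ∧ ¬ IsUThreeThree S ∧ ¬ IsAlt6 S := by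
  rintro H _ _ M _ _ _ K T A hI ⟨⟨p, hp, hp2, h⟩, hn, h33, h6⟩
  rcases h with h | h | h | h | h | h | h | h | h | h | h
  · exact psl_of hl H M K T A hI ⟨⟨p, hp, hp2, h⟩, h6⟩
  · exact hpsp H M K T A hI ⟨⟨p, hp, hp2, h⟩, hn⟩
  · exact psu_of h43 H M K T A hI ⟨⟨p, hp, hp2, h⟩, h33⟩
  · exact hom1 H M K T A hI ⟨p, hp, hp2, h⟩
  · exact hom2 H M K T A hI ⟨p, hp, hp2, h⟩
  · exact hom3 H M K T A hI ⟨p, hp, hp2, h⟩
  · exact chev_of hg3 H M K T A hI ⟨p, hp, hp2, h⟩
  · exact twisted H M K T A hI ⟨p, hp, hp2, h⟩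
  · exact absurd h.1 hp2
  · exact absurd h.1 hp2
  · exact RowReeX.dead H M K T A hI h.2

end Cfsg.Agent.Omega.ML.Ex.OddKnown

end

section


/-!
# The K-list for exact atoms: generation and inversion with the dichotomy (T6; helper448)

The exact form of `GenRow.lean` and `InvRow.lean`.  `InX H M K T A`, `|A| ≤ 2 ^ a`, `x ∈ A`:

* `index_le_or` : `|M : C_M(x)| ≤ 2 ^ (a - 1)`, or `|A| = 2 ^ a` and EQ(x) : `C_M(x) = C_M(A)`;
* `index_le_noTie` : the first one if `NoTie A x`;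
* **`eq_of_lb`**, **`eq_of_prime`** : `K` is generated by `m` conjugates of `x`, `(a - 1) m < n`, `2 ^ n ≤ |M|` (`LB K n` or
  an odd prime divisor `r` of `|K|` with `ord_r(2) ≥ n`) ⟹ `|A| = 2 ^ a` and EQ(x);
* `false_of_lb_noTie`, `false_of_prime_noTie`, `false_of_inv_noTie` : impossible with `NoTie A x`;
* `false_of_sub` : EQ(x) with `x ∈ K` is impossible if `|Out K| |E| < |A|` for the elementary abelian `E ∋ x` which are
  normal in `C_K(x)`;
* **`dead_gen`**, **`dead_gen_prime`** : rows.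
-/

set_option autoImplicit false

namespace Cfsg.Agent.Omega.ML.Ex.GenX

open Subgroup Cfsg Cfsg.Agent.ZN Cfsg.Agent.Omega.NOThree.NoOver Cfsg.Agent.Omega.ML.CD
open Cfsg.Agent.ClassTwoFusion.Quad Cfsg.Agent.Omega.Lie Cfsg.Agent.Omega.ML Cfsg.Agent.Omega.TwoF
open Cfsg.Agent.Omega.ML.InvChain

universe u v

variable {H : Type u} [Group H] {M : Type v} [Group M] [Finite M] [MulDistribMulAction H M] {K T A : Subgroup H}

/-- **`|M : C_M(x)| ≤ 2 ^ (a - 1)`, or `|A| = 2 ^ a` and EQ(x).** -/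
theorem index_le_or (h : InX H M K T A) {a : ℕ} (ha : Nat.card A ≤ 2 ^ a) {x : H} (hx : x ∈ A) :
    (cv M ({x} : Set H)).index ≤ 2 ^ (a - 1) ∨
      (Nat.card A = 2 ^ a ∧ cv M ({x} : Set H) = cv M (A : Set H)) := by
  obtain ⟨k, hk⟩ := InvFrob.index_pow h.sq (cv M ({x} : Set H))
  rcases Nat.lt_or_ge k a with h1 | h1
  · left
    rw [hk]
    exact Nat.pow_le_pow_right (by norm_num) (by omega)
  · right
    have h2 : 2 ^ a ≤ (cv M ({x} : Set H)).index := by
      rw [hk]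
      exact Nat.pow_le_pow_right (by norm_num) h1
    exact ⟨le_antisymm ha (h2.trans (Gen.index_le_card h hx)), Inv.eq_of_le h.exact.le hx (ha.trans h2)⟩

/-- `|M : C_M(x)| ≤ 2 ^ (a - 1)` if `NoTie A x` -/
theorem index_le_noTie [Finite H] (h : InX H M K T A) {a : ℕ} (ha : Nat.card A ≤ 2 ^ a) {x : H} (hx : x ∈ A)
    (hn : NoTie A x) : (cv M ({x} : Set H)).index ≤ 2 ^ (a - 1) := by
  rcases index_le_or h ha hx with h1 | ⟨h1, h2⟩
  · exact h1
  · have h3 := h.index_lt hx hn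
    rw [h2, h.exact] at h3
    exact absurd h3 (lt_irrefl _)

/-- **Generation, `|M| ≥ 2 ^ n`** ⟹ `|A| = 2 ^ a` and EQ(x). -/
theorem eq_of_card (h : InX H M K T A) {n a m : ℕ} (hM : 2 ^ n ≤ Nat.card M) (ha : Nat.card A ≤ 2 ^ a) {x : H}
    (hx : x ∈ A) (l : Fin m → H) (hgen : K ≤ closure (Set.range fun i => l i * x * (l i)⁻¹))
    (hn : (a - 1) * m < n) : Nat.card A = 2 ^ a ∧ cv M ({x} : Set H) = cv M (A : Set H) := by
  refine (index_le_or h ha hx).resolve_left fun h1 => ?_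
  have h2 := (hM.trans (Gen.card_le_conj_index h x l hgen)).trans (Nat.pow_le_pow_left h1 m)
  rw [← pow_mul] at h2
  have h3 := (Nat.pow_le_pow_iff_right (by norm_num : 1 < 2)).1 h2
  omega

/-- **Generation, `LB`** ⟹ `|A| = 2 ^ a` and EQ(x). -/
theorem eq_of_lb [Finite H] (h : InX H M K T A) {n a m : ℕ} (hl : Heis.LB.{u, u, v} K n)
    (ha : Nat.card A ≤ 2 ^ a) {x : H} (hx : x ∈ A) (l : Fin m → H)
    (hgen : K ≤ closure (Set.range fun i => l i * x * (l i)⁻¹)) (hn : (a - 1) * m < n) :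
    Nat.card A = 2 ^ a ∧ cv M ({x} : Set H) = cv M (A : Set H) :=
  eq_of_card h (Gen.lb_le h hl) ha hx l hgen hn

/-- **Generation, a prime** ⟹ `|A| = 2 ^ a` and EQ(x). -/
theorem eq_of_prime [Finite H] (h : InX H M K T A) {r k a m : ℕ} (hp : r.Prime) (ho : Odd r)
    (hr : r ∣ Nat.card K) (hk : ∀ n : ℕ, 0 < n → r ∣ 2 ^ n - 1 → k ≤ n) (ha : Nat.card A ≤ 2 ^ a) {x : H}
    (hx : x ∈ A) (l : Fin m → H) (hgen : K ≤ closure (Set.range fun i => l i * x * (l i)⁻¹))
    (hn : (a - 1) * m < k) : Nat.card A = 2 ^ a ∧ cv M ({x} : Set H) = cv M (A : Set H) :=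
  eq_of_card h (Gen.pow_le_card h hp ho hr hk) ha hx l hgen hn

/-- EQ(x) and `NoTie A x` -/
theorem false_of_eq_noTie [Finite H] (h : InX H M K T A) {x : H} (hx : x ∈ A) (hn : NoTie A x)
    (heq : cv M ({x} : Set H) = cv M (A : Set H)) : False := by
  have h3 := h.index_lt hx hn
  rw [heq, h.exact] at h3
  exact lt_irrefl _ h3

/-- **Kill by generation**, `LB`, `NoTie A x`. -/
theorem false_of_lb_noTie [Finite H] (h : InX H M K T A) {n a m : ℕ} (hl : Heis.LB.{u, u, v} K n)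
    (ha : Nat.card A ≤ 2 ^ a) {x : H} (hx : x ∈ A) (ht : NoTie A x) (l : Fin m → H)
    (hgen : K ≤ closure (Set.range fun i => l i * x * (l i)⁻¹)) (hn : (a - 1) * m < n) : False :=
  false_of_eq_noTie h hx ht (eq_of_lb h hl ha hx l hgen hn).2

/-- **Kill by generation**, a prime, `NoTie A x`. -/
theorem false_of_prime_noTie [Finite H] (h : InX H M K T A) {r k a m : ℕ} (hp : r.Prime) (ho : Odd r)
    (hr : r ∣ Nat.card K) (hk : ∀ n : ℕ, 0 < n → r ∣ 2 ^ n - 1 → k ≤ n) (ha : Nat.card A ≤ 2 ^ a) {x : H}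
    (hx : x ∈ A) (ht : NoTie A x) (l : Fin m → H)
    (hgen : K ≤ closure (Set.range fun i => l i * x * (l i)⁻¹)) (hn : (a - 1) * m < k) : False :=
  false_of_eq_noTie h hx ht (eq_of_prime h hp ho hr hk ha hx l hgen hn).2

/-- **Kill by one inverted element**, `NoTie A x` (`InvRow.false_of_inv` verbatim). -/
theorem false_of_inv_noTie [Finite H] (h : InX H M K T A) {n : ℕ} (hn : Nat.card A ≤ 2 ^ n) {x : H} (hx : x ∈ A)
    (ht : NoTie A x) (hi : InvAt x n) : False :=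
  false_of_eq_noTie h hx ht (Inv.inv_eq h.sq h.faith h.exact.le h.el hx hn hi).2

omit [Finite M] in
/-- EQ(x) with `x ∈ K` is impossible if `|Out K| |E| < |A|` for the elementary abelian `E ∋ x`, `E ⊴ C_K(x)`. -/
theorem false_of_sub [Finite H] (h : InX H M K T A) {x : K} (hxA : (x : H) ∈ A)
    (heq : cv M ({(x : H)} : Set H) = cv M (A : Set H))
    (hE : ∀ E : Subgroup K, x ∈ E → (∀ e ∈ E, e * e = 1) → (∀ g : K, g * x = x * g → ∀ e ∈ E, g * e * g⁻¹ ∈ E) →
      (MulAut.conj : K →* MulAut K).range.index * Nat.card E < Nat.card A) : False := by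
  obtain ⟨E, h1, -, h2, h3, h4⟩ := Inv.inX_exists_sub h hxA heq
  exact absurd (hE E h1 h2 h3) (not_lt.2 h4)

/-- generation in `K` gives generation in `H` -/
theorem le_closure {m : ℕ} {x : K} {l : Fin m → K} (hl : closure (Set.range fun i => l i * x * (l i)⁻¹) = ⊤) :
    K ≤ closure (Set.range fun i => (l i : H) * x * (l i : H)⁻¹) := by
  have h3 := congrArg (Subgroup.map K.subtype) hl
  rw [MonoidHom.map_closure, ← Set.range_comp, ← MonoidHom.range_eq_map, range_subtype] at h3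
  exact le_of_eq h3.symm

/-- The common core of the rows. -/
theorem false_of_gen [Finite H] (h : InX H M K T A) {n a m : ℕ} (hM : 2 ^ n ≤ Nat.card M)
    (hrk : RK K a) (hout : (MulAut.conj : K →* MulAut K).range.index < 4) (hn : (a - 1) * m < n)
    (hg : ∀ x : K, x * x = 1 → x ≠ 1 → (∃ l : Fin m → K, closure (Set.range fun i => l i * x * (l i)⁻¹) = ⊤) ∧
      ∀ E : Subgroup K, x ∈ E → (∀ e ∈ E, e * e = 1) → (∀ g : K, g * x = x * g → ∀ e ∈ E, g * e * g⁻¹ ∈ E) →
        (MulAut.conj : K →* MulAut K).range.index * Nat.card E < 2 ^ a) : False := by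
  obtain ⟨x, hxA, hxK, hx1⟩ := Inv.asx_exists_mem h.asx (hout.trans_le h.four)
  obtain ⟨⟨l, hl⟩, hE⟩ := hg ⟨x, hxK⟩ (Subtype.ext (h.el x hxA)) fun h3 => hx1 (congrArg Subtype.val h3)
  obtain ⟨h1, h2⟩ := eq_of_card h hM (Inv.asx_card_le h.asx hrk) (x := x) hxA (fun i => (l i : H))
    (le_closure (x := ⟨x, hxK⟩) hl) hn
  exact false_of_sub h (x := ⟨x, hxK⟩) hxA h2 fun E h3 h4 h5 => by rw [h1]; exact hE E h3 h4 h5

/-- **The row by generation, `LB`**: `RK S a`, `|Out S| < 4`, `LB S n`, `m` conjugates of every involution `x` generate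
`S`, `(a - 1) m < n`, and `|Out S| |E| < 2 ^ a` for the elementary abelian `E ∋ x` which are normal in `C_S(x)`. -/
theorem dead_gen {𝒮 : ∀ (S : Type u) [Group S], Prop} (h𝒮 : ∀ (S : Type u) [Group S] [Finite S], 𝒮 S →
    ∃ n a m, RK S a ∧ (MulAut.conj : S →* MulAut S).range.index < 4 ∧ Heis.LB.{u, u, v} S n ∧ (a - 1) * m < n ∧
      ∀ x : S, x * x = 1 → x ≠ 1 → (∃ l : Fin m → S, closure (Set.range fun i => l i * x * (l i)⁻¹) = ⊤) ∧
        ∀ E : Subgroup S, x ∈ E → (∀ e ∈ E, e * e = 1) → (∀ g : S, g * x = x * g → ∀ e ∈ E, g * e * g⁻¹ ∈ E) →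
          (MulAut.conj : S →* MulAut S).range.index * Nat.card E < 2 ^ a) : DeadX.{u, v} 𝒮 := by
  intro H _ _ M _ _ _ K T A h hS
  obtain ⟨n, a, m, h1, h2, h3, h4, h5⟩ := h𝒮 _ hS
  exact false_of_gen h (Gen.lb_le h h3) h1 h2 h4 h5

/-- **The row by generation, a prime** `r` divisor of `|S|`, `ord_r(2) ≥ n`. -/
theorem dead_gen_prime {𝒮 : ∀ (S : Type u) [Group S], Prop} (h𝒮 : ∀ (S : Type u) [Group S] [Finite S], 𝒮 S →
    ∃ n a m r, RK S a ∧ (MulAut.conj : S →* MulAut S).range.index < 4 ∧ (r.Prime ∧ Odd r ∧ r ∣ Nat.card S ∧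
      ∀ k : ℕ, 0 < k → r ∣ 2 ^ k - 1 → n ≤ k) ∧ (a - 1) * m < n ∧
      ∀ x : S, x * x = 1 → x ≠ 1 → (∃ l : Fin m → S, closure (Set.range fun i => l i * x * (l i)⁻¹) = ⊤) ∧
        ∀ E : Subgroup S, x ∈ E → (∀ e ∈ E, e * e = 1) → (∀ g : S, g * x = x * g → ∀ e ∈ E, g * e * g⁻¹ ∈ E) →
          (MulAut.conj : S →* MulAut S).range.index * Nat.card E < 2 ^ a) : DeadX.{u, v} 𝒮 := by
  intro H _ _ M _ _ _ K T A h hS
  obtain ⟨n, a, m, r, h1, h2, ⟨h3, h3', h3'', h3'''⟩, h4, h5⟩ := h𝒮 _ hS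
  exact false_of_gen h (Gen.pow_le_card h h3 h3' h3'' h3''') h1 h2 h4 h5

end Cfsg.Agent.Omega.ML.Ex.GenX

end

end
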